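import Cfsg.Agent.RankThreeEss.EPart

/-!
Powers in powerful `p`-groups, `p ≥ 5`.
-/

set_option autoImplicit false
set_option linter.style.haveILetI false

namespace Cfsg.Agent.RankThreeEss.Pearl

open Subgroup
open scoped commutatorElement

variable {p : ℕ} [hp : Fact p.Prime] {P : Type*} [Group P] [Finite P]

/-- The iterated agemo. -/
def ag (p : ℕ) (H : Subgroup P) (n : ℕ) : Subgroup P := (agemo p)^[n] H

omit [Finite P] hp in
theorem agemo_le (H : Subgroup P) : agemo p H ≤ H := agemo_le_iff.2 fun _ hx => pow_mem hx p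

omit [Finite P] hp in
theorem ag_succ (H : Subgroup P) (n : ℕ) : ag p H (n + 1) = ag p (agemo p H) n :=
  Function.iterate_succ_apply _ _ _

omit [Finite P] hp in
theorem ag_succ' (H : Subgroup P) (n : ℕ) : ag p H (n + 1) = agemo p (ag p H n) :=
  Function.iterate_succ_apply' _ _ _

omit [Finite P] hp in
theorem ag_le (H : Subgroup P) (n : ℕ) : ag p H n ≤ H := by
  induction n with
  | zero => exact le_rfl
  | succ n ih => rw [ag_succ']; exact (agemo_le _).trans ih

omit [Finite P] hp in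
theorem pow_mem_ag {H : Subgroup P} {a : P} (ha : a ∈ H) (n : ℕ) : a ^ p ^ n ∈ ag p H n := by
  induction n with
  | zero => simpa [ag] using ha
  | succ n ih => rw [ag_succ', pow_succ, pow_mul]; exact pow_mem_agemo ih

theorem powerful_base (hP : IsPGroup p P) (hp5 : 5 ≤ p) (hw : commutator P ≤ agemo p (⊤ : Subgroup P)) :
    ⁅agemo p (⊤ : Subgroup P), (⊤ : Subgroup P)⁆ ≤ agemo p (agemo p ⊤) ∧
      ∀ a b : P, (a ^ p * b ^ p)⁻¹ * (a * b) ^ p ∈ agemo p (agemo p (⊤ : Subgroup P)) := by
  haveI := hP.isNilpotent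
  set U := agemo p (⊤ : Subgroup P) with hU
  haveI : U.Normal := agemo_normal _
  haveI : (agemo p U).Normal := agemo_normal _
  have hUc : ∀ g h : P, ⁅g, h⁆ ∈ U := fun g h => hw (commutator_mem_commutator (mem_top g) (mem_top h))
  have h1 : ⁅U, (⊤ : Subgroup P)⁆ ≤ agemo p U := by
    refine le_of_le_sup_commutator ?_
    set K := agemo p U ⊔ ⁅⁅U, (⊤ : Subgroup P)⁆, (⊤ : Subgroup P)⁆ with hK
    haveI : K.Normal := sup_normal _ _
    set π := QuotientGroup.mk' K with hπd
    have hπ : Function.Surjective π := QuotientGroup.mk'_surjective K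
    have h0 : ∀ c, π c = 1 ↔ c ∈ K := fun c => QuotientGroup.eq_one_iff c
    have hB : ∀ u ∈ U, ∀ g h : P ⧸ K, ⁅⁅π u, g⁆, h⁆ = 1 := fun u hu g h => by
      obtain ⟨g, rfl⟩ := hπ g
      obtain ⟨h, rfl⟩ := hπ h
      rw [← map_commutatorElement, ← map_commutatorElement, h0]
      exact mem_sup_right (commutator_mem_commutator
        (commutator_mem_commutator hu (mem_top g)) (mem_top h))
    have hmul : ∀ a b : P ⧸ K, (a * b) ^ p = a ^ p * b ^ p := by
      refine mul_pow_p (hP.to_quotient K) hp5 (A := U.map π) (B := ⁅U, (⊤ : Subgroup P)⁆.map π) ?_ ?_ ?_ ?_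
      · intro g h
        obtain ⟨g, rfl⟩ := hπ g
        obtain ⟨h, rfl⟩ := hπ h
        exact ⟨⁅g, h⁆, hUc g h, map_commutatorElement _ _ _⟩
      · rintro _ ⟨u, hu, rfl⟩ g
        obtain ⟨g, rfl⟩ := hπ g
        exact ⟨⁅u, g⁆, commutator_mem_commutator hu (mem_top g), map_commutatorElement _ _ _⟩
      · rintro _ ⟨c, hc, rfl⟩ g
        obtain ⟨g, rfl⟩ := hπ g
        rw [← map_commutatorElement, h0]
        exact mem_sup_right (commutator_mem_commutator hc (mem_top g))
      · rintro _ ⟨u, hu, rfl⟩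
        rw [← map_pow, h0]
        exact mem_sup_left (pow_mem_agemo hu)
    refine commutator_le.2 fun u hu g _ => ?_
    show ⁅u, g⁆ ∈ K
    rw [← h0, map_commutatorElement, commutatorElement_eq_one_iff_mul_comm]
    have hle : U.map π ≤ centralizer ({π g} : Set (P ⧸ K)) := by
      rw [hU, ← agemo_map, agemo_le_iff]
      rintro _ ⟨a, -, rfl⟩
      rw [mem_centralizer_singleton_iff]
      have e1 : (π g * π a * (π g)⁻¹) ^ p = (π a) ^ p := by
        rw [show π g * π a * (π g)⁻¹ = ⁅π g, π a⁆ * π a by rw [commutatorElement_def, inv_mul_cancel_right],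
          hmul, ← map_commutatorElement, ← map_pow π ⁅g, a⁆, (h0 _).2 (mem_sup_left
            (pow_mem_agemo (hUc g a))), one_mul]
      rw [conj_pow, mul_inv_eq_iff_eq_mul] at e1
      exact e1.symm
    exact mem_centralizer_singleton_iff.1 (hle (mem_map_of_mem π hu))
  refine ⟨h1, fun a b => ?_⟩
  set π := QuotientGroup.mk' (agemo p U) with hπd
  have hπ : Function.Surjective π := QuotientGroup.mk'_surjective _
  have h0 : ∀ c, π c = 1 ↔ c ∈ agemo p U := fun c => QuotientGroup.eq_one_iff c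
  have hmul : ∀ a b : P ⧸ agemo p U, (a * b) ^ p = a ^ p * b ^ p := by
    refine mul_pow_p (hP.to_quotient _) hp5 (A := U.map π) (B := ⊥) ?_ ?_ ?_ ?_
    · intro g h
      obtain ⟨g, rfl⟩ := hπ g
      obtain ⟨h, rfl⟩ := hπ h
      exact ⟨⁅g, h⁆, hUc g h, map_commutatorElement _ _ _⟩
    · rintro _ ⟨u, hu, rfl⟩ g
      obtain ⟨g, rfl⟩ := hπ g
      rw [mem_bot, ← map_commutatorElement, h0]
      exact h1 (commutator_mem_commutator hu (mem_top g))
    · intro c hc g
      rw [mem_bot.1 hc, commutatorElement_one_left]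
    · rintro _ ⟨u, hu, rfl⟩
      rw [← map_pow, h0]
      exact pow_mem_agemo hu
  rw [← h0, map_mul, map_inv, map_mul, map_pow, map_pow, map_pow, map_mul, hmul, inv_mul_cancel]

/-- The basic step, for subgroups. -/
theorem powerful_step (hP : IsPGroup p P) (hp5 : 5 ≤ p) {H : Subgroup P} (hw : ⁅H, H⁆ ≤ agemo p H) :
    ⁅agemo p H, agemo p H⁆ ≤ agemo p (agemo p H) ∧
      ∀ a ∈ H, ∀ b ∈ H, (a ^ p * b ^ p)⁻¹ * (a * b) ^ p ∈ agemo p (agemo p H) := by
  have e : agemo p H = (agemo p (⊤ : Subgroup H)).map H.subtype := by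
    rw [← agemo_map, ← MonoidHom.range_eq_map, range_subtype]
  have hwH : commutator H ≤ agemo p (⊤ : Subgroup H) := by
    rw [← Subgroup.map_le_map_iff_of_injective H.subtype_injective, ← e, commutator_def, map_commutator,
      ← MonoidHom.range_eq_map, range_subtype]
    exact hw
  obtain ⟨h1, h2⟩ := powerful_base (hP.to_subgroup H) hp5 hwH
  rw [e, agemo_map]
  refine ⟨(map_commutator (agemo p (⊤ : Subgroup H)) (agemo p ⊤) H.subtype).symm.le.trans
    (map_mono ((commutator_mono le_rfl le_top).trans h1)), fun a ha b hb => ?_⟩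
  exact ⟨_, h2 ⟨a, ha⟩ ⟨b, hb⟩, rfl⟩

/-- The `p ^ n`-th power is multiplicative modulo the next term. -/
theorem powerful_pow_mul (hP : IsPGroup p P) (hp5 : 5 ≤ p) : ∀ (n : ℕ) (H : Subgroup P), H.Normal →
    ⁅H, H⁆ ≤ agemo p H → ∀ a ∈ H, ∀ b ∈ H,
      (a ^ p ^ n * b ^ p ^ n)⁻¹ * (a * b) ^ p ^ n ∈ ag p H (n + 1) := by
  intro n
  induction n with
  | zero =>
    intro H _ _ a ha b hb
    simp
  | succ n ih =>
    intro H hH hw a ha b hb
    obtain ⟨h1, h2⟩ := powerful_step hP hp5 hw
    set H1 := agemo p H with hH1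
    haveI hH1n : H1.Normal := agemo_normal H
    rw [ag_succ, ← hH1]
    set A := ag p H1 (n + 1) with hA
    haveI hAn : A.Normal := by
      have : ∀ m, (ag p H1 m).Normal := fun m => by
        induction m with
        | zero => exact hH1n
        | succ m ihm => haveI := ihm; rw [ag_succ']; exact agemo_normal _
      exact this _
    set π := QuotientGroup.mk' A
    have hhom : ∀ u ∈ H1, ∀ v ∈ H1, π ((u * v) ^ p ^ n) = π (u ^ p ^ n) * π (v ^ p ^ n) := fun u hu v hv => by
      rw [← map_mul]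
      exact (QuotientGroup.eq.2 (ih H1 hH1n h1 u hu v hv)).symm
    have hap := pow_mem_agemo (p := p) ha
    have hbp := pow_mem_agemo (p := p) hb
    set c := (a ^ p * b ^ p)⁻¹ * (a * b) ^ p with hc
    have hc1 : π (c ^ p ^ n) = 1 := by
      have hcH : c ∈ agemo p H1 := h2 a ha b hb
      let W : Subgroup P :=
        { carrier := {y | y ∈ H1 ∧ π (y ^ p ^ n) = 1}
          one_mem' := ⟨one_mem _, by simp⟩
          mul_mem' := fun {u v} hu hv => ⟨mul_mem hu.1 hv.1, by rw [hhom u hu.1 v hv.1, hu.2, hv.2, one_mul]⟩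
          inv_mem' := fun {u} hu => ⟨inv_mem hu.1, by rw [inv_pow, map_inv, hu.2, inv_one]⟩ }
      have hle : agemo p H1 ≤ W := agemo_le_iff.2 fun y hy => ⟨pow_mem hy p, by
        rw [← pow_mul, ← pow_succ', QuotientGroup.mk'_apply, QuotientGroup.eq_one_iff]
        exact pow_mem_ag hy (n + 1)⟩
      exact (hle hcH).2
    refine QuotientGroup.eq.1 ?_
    show π (a ^ p ^ (n + 1) * b ^ p ^ (n + 1)) = π ((a * b) ^ p ^ (n + 1))
    rw [pow_succ', pow_mul, pow_mul, pow_mul,
      show (a * b) ^ p = a ^ p * b ^ p * c by rw [hc, mul_inv_cancel_left],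
      hhom _ (mul_mem hap hbp) c (agemo_le H1 (h2 a ha b hb)), hhom _ hap _ hbp, hc1, mul_one, map_mul]

/-- The last term is generated by the highest powers. -/
theorem powerful_top_bot (hP : IsPGroup p P) (hp5 : 5 ≤ p) : ∀ (n : ℕ) (H : Subgroup P), H.Normal →
    ⁅H, H⁆ ≤ agemo p H → ag p H (n + 1) = ⊥ → (∀ a ∈ H, a ^ p ^ n = 1) → ag p H n = ⊥ := by
  intro n
  induction n with
  | zero =>
    intro H _ _ _ h1
    exact eq_bot_iff.2 fun a ha => mem_bot.2 (by simpa using h1 a ha)
  | succ n ih =>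
    intro H hH hw htop h1
    haveI := agemo_normal (p := p) H
    obtain ⟨hw1, -⟩ := powerful_step hP hp5 hw
    rw [ag_succ] at htop ⊢
    refine ih _ inferInstance hw1 htop fun y hy => ?_
    have hhom : ∀ u ∈ agemo p H, ∀ v ∈ agemo p H, (u * v) ^ p ^ n = u ^ p ^ n * v ^ p ^ n := fun u hu v hv => by
      have := powerful_pow_mul hP hp5 n _ inferInstance hw1 u hu v hv
      rw [htop, mem_bot] at this
      exact (inv_mul_eq_one.1 this).symm
    let W : Subgroup P :=
      { carrier := {y | y ∈ agemo p H ∧ y ^ p ^ n = 1}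
        one_mem' := ⟨one_mem _, one_pow _⟩
        mul_mem' := fun {u v} hu hv => ⟨mul_mem hu.1 hv.1, by rw [hhom u hu.1 v hv.1, hu.2, hv.2, one_mul]⟩
        inv_mem' := fun {u} hu => ⟨inv_mem hu.1, by rw [inv_pow, hu.2, inv_one]⟩ }
    have hle : agemo p H ≤ W := agemo_le_iff.2 fun a ha => ⟨pow_mem_agemo ha, by
      rw [← pow_mul, ← pow_succ']; exact h1 a ha⟩
    exact (hle hy).2

/-- In a powerful group with an automorphism group irreducible on the Frattini quotient all elements
outside the Frattini subgroup have the largest order. -/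
theorem powerful_orders (hP : IsPGroup p P) (hp5 : 5 ≤ p) (hw : commutator P ≤ agemo p (⊤ : Subgroup P))
    (hΦ : frattini P ≠ ⊤) (A : Set (MulAut P))
    (irr : ∀ W : Subgroup P, frattini P ≤ W → (∀ α ∈ A, ∀ w ∈ W, α w ∈ W) →
      W = frattini P ∨ W = ⊤) :
    ∃ n, (∀ a : P, a ^ p ^ (n + 1) = 1) ∧ ∀ a : P, a ∉ frattini P → a ^ p ^ n ≠ 1 := by
  haveI := hP.isNilpotent
  have hwT : ⁅(⊤ : Subgroup P), ⊤⁆ ≤ agemo p (⊤ : Subgroup P) := hw
  obtain ⟨N, hN⟩ := IsPGroup.iff_card.1 hP
  have hex : ∃ m, ag p (⊤ : Subgroup P) m = ⊥ := by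
    by_contra! hno
    have hlt : ∀ m, Nat.card (ag p (⊤ : Subgroup P) (m + 1)) < Nat.card (ag p (⊤ : Subgroup P) m) := by
      intro m
      set K := ag p (⊤ : Subgroup P) m with hK
      rw [ag_succ', ← hK]
      refine lt_of_le_of_ne (card_le_of_le (agemo_le K)) fun e => ?_
      have e2 : agemo p K = K := eq_of_le_of_card_ge (agemo_le K) e.ge
      haveI : Nontrivial K := (nontrivial_iff_ne_bot K).2 (hno m)
      obtain ⟨M, hM, -⟩ := (eq_top_or_exists_le_coatom (⊥ : Subgroup K)).resolve_left bot_ne_top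
      obtain ⟨-, hMi⟩ := Core.index_eq_of_isCoatom (hP.to_subgroup K) hM
      have hle : agemo p K ≤ M.map K.subtype :=
        agemo_le_iff.2 fun a ha => ⟨⟨a, ha⟩ ^ p, hMi ▸ (haveI := (Core.index_eq_of_isCoatom
          (hP.to_subgroup K) hM).1; pow_index_mem M _), rfl⟩
      refine hM.1 (map_injective K.subtype_injective (le_antisymm ?_ ?_))
      · rw [← MonoidHom.range_eq_map, range_subtype]; exact map_subtype_le _
      · rw [← MonoidHom.range_eq_map, range_subtype]
        exact e2.symm.le.trans hle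
    have : ∀ m, Nat.card (ag p (⊤ : Subgroup P) m) + m ≤ Nat.card P := fun m => by
      induction m with
      | zero => simp [ag, card_top]
      | succ m ih => have := hlt m; omega
    have h0 := this (Nat.card P + 1)
    omega
  classical
  have hm := Nat.find_spec hex
  obtain ⟨n, hn⟩ : ∃ n, Nat.find hex = n + 1 := by
    refine Nat.exists_eq_succ_of_ne_zero fun e => hΦ ?_
    rw [e] at hm
    haveI : Subsingleton P := ⟨fun a b => by
      have h1 : ∀ c : P, c = 1 := fun c => mem_bot.1 ((show ag p (⊤ : Subgroup P) 0 = ⊥ from hm).le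
        (by simp [ag]))
      rw [h1 a, h1 b]⟩
    exact Subsingleton.elim _ _
  rw [hn] at hm
  have hne : ag p (⊤ : Subgroup P) n ≠ ⊥ := Nat.find_min hex (by omega)
  have hhom : ∀ a b : P, (a * b) ^ p ^ n = a ^ p ^ n * b ^ p ^ n := fun a b => by
    have := powerful_pow_mul hP hp5 n ⊤ inferInstance hwT a (mem_top a) b (mem_top b)
    rw [hm, mem_bot] at this
    exact (inv_mul_eq_one.1 this).symm
  have hexp : ∀ a : P, a ^ p ^ (n + 1) = 1 := fun a =>
    mem_bot.1 (hm.le (pow_mem_ag (mem_top a) _))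
  refine ⟨n, hexp, fun a ha h1 => ?_⟩
  let W : Subgroup P :=
    { carrier := {y | y ^ p ^ n = 1}
      one_mem' := one_pow _
      mul_mem' := fun {u v} hu hv => by
        show (u * v) ^ p ^ n = 1
        rw [hhom, show u ^ p ^ n = 1 from hu, show v ^ p ^ n = 1 from hv, one_mul]
      inv_mem' := fun {u} hu => by
        show u⁻¹ ^ p ^ n = 1
        rw [inv_pow, show u ^ p ^ n = 1 from hu, inv_one] }
  have hFW : frattini P ≤ W := by
    rw [frattini_eq_sup hP, sup_eq_right.2 hw, agemo_le_iff]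
    intro y _
    show (y ^ p) ^ p ^ n = 1
    rw [← pow_mul, ← pow_succ', hexp]
  rcases irr W hFW (fun α _ w hw' => by
    show (α w) ^ p ^ n = 1
    rw [← map_pow, show w ^ p ^ n = 1 from hw', map_one]) with h | h
  · exact ha (h ▸ h1)
  · exact hne (powerful_top_bot hP hp5 n ⊤ inferInstance hwT hm fun y _ =>
      (h ▸ mem_top y : y ∈ W))

end Cfsg.Agent.RankThreeEss.Pearl
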