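import Cfsg.Agent.RankThreeEss.Pearl.TwoFacts

/-!
Two generators: the other maximal subgroups.
-/

set_option autoImplicit false
set_option linter.style.haveILetI false

namespace Cfsg.Agent.RankThreeEss.Pearl

open Subgroup
open scoped commutatorElement

variable {p : ℕ} [hp : Fact p.Prime] {X : Type*} [Group X] [Finite X] {N : Subgroup X} {h : MulAut X}
  {σ : X → X} {k : ZMod p} {x e z : X}

set_option maxHeartbeats 1600000 in
theorem TD.two_cases (d : TD p N h σ k x e z 1) (he : Eig p N h k x z 1) (t : T2 p N x e z 1)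
    (hrank : ∀ (K : Subgroup X) [K.Normal], PRankLE p 3 (X ⧸ K)) :
    IsPearl p N ∨ Twisted p N := by
  haveI : NeZero p := ⟨hp.out.ne_zero⟩
  haveI := d.normal
  by_cases hne : N.lowerCentralSeries 2 = ⊥
  · exact Or.inl (d.two_pearl t hne)
  refine Or.inr ?_
  have F := d.two_facts he t hrank hne
  have h3 := F.lcs3
  set c := ⁅e, z⁆ with hc
  set d1 := ⁅c, z⁆ with hd1
  set d2 := ⁅c, e⁆ with hd2
  have hd1p : d1 ^ p = 1 := F.p1
  have hd2p : d2 ^ p = 1 := F.p2
  have hcp : c ^ p = 1 := F.cp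
  have hcN : c ∈ N.lowerCentralSeries 1 := F.c_mem
  have ex2 : x * d2 * x⁻¹ = d2 * d1 := F.xd2
  have hind : ∀ a b : ℕ, d1 ^ a * d2 ^ b = 1 → (a : ZMod p) = 0 ∧ (b : ZMod p) = 0 := F.indep
  set D := N.lowerCentralSeries 2 with hD
  have hDgen : D ≤ closure ({d1, d2} : Set X) := F.gen
  have L : Lay N 1 (MonoidHom.id X) := ⟨by rw [MonoidHom.ker_id, h3]⟩
  have m1 : d1 ∈ D := comm_mem_lcs_succ hcN d.zN
  have m2 : d2 ∈ D := comm_mem_lcs_succ hcN d.eN
  have hDN : ∀ a ∈ D, ∀ b ∈ N, Commute a b := fun a ha b hb => L.cen' ha hb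
  have hD1 : D ≤ N.lowerCentralSeries 1 := Subgroup.lowerCentralSeries_antitone _ (by norm_num)
  have hG1N : N.lowerCentralSeries 1 ≤ N := lcs_le_self N 1
  have hg1 : N.lowerCentralSeries 1 ≤ closure ({c} : Set X) ⊔ D := t.g1
  -- modulo `D`
  haveI : D.Normal := (fullInv_lcs N 2).normal
  set π2 := QuotientGroup.mk' D with hπ2
  have h02 : ∀ a, π2 a = 1 ↔ a ∈ D := fun a => QuotientGroup.eq_one_iff a
  have L0 : Lay N 0 π2 := ⟨QuotientGroup.ker_mk' _⟩
  have hXZ : Commute (π2 x) (π2 z) := by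
    rw [← commutatorElement_eq_one_iff_commute, ← map_commutatorElement, h02]; exact F.xz
  -- modulo `d1`
  set K := zpowers d1 with hK
  haveI : K.Normal := ⟨fun a ha g => by
    obtain ⟨i, rfl⟩ := mem_zpowers_iff.1 ha
    rwa [mem_center_iff.1 (zpow_mem F.cen i) g, mul_inv_cancel_right]⟩
  have hKD : K ≤ D := zpowers_le.2 m1
  set π := QuotientGroup.mk' K with hπ
  have h0 : ∀ a, π a = 1 ↔ a ∈ K := fun a => QuotientGroup.eq_one_iff a
  set T := π x with hT
  set C := π c with hC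
  set Z := π z with hZ
  set D2 := π d2 with hD2
  have hπd1 : π d1 = 1 := (h0 d1).2 (mem_zpowers d1)
  have hDline : ∀ a ∈ D, π a ∈ zpowers D2 := by
    have hle : D ≤ (zpowers D2).comap π := hDgen.trans ((closure_le _).2 (by
      rintro y (rfl | rfl)
      · show π d1 ∈ zpowers D2
        rw [hπd1]; exact one_mem _
      · exact mem_zpowers D2))
    exact fun a ha => hle ha
  have hlinec : ∀ v ∈ zpowers D2, ∀ g, Commute v g := by
    intro v hv g
    obtain ⟨i, rfl⟩ := mem_zpowers_iff.1 hv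
    refine Commute.zpow_left ?_ i
    obtain ⟨g, rfl⟩ := QuotientGroup.mk'_surjective _ g
    obtain ⟨a, ha, j, rfl⟩ := d.decomp g
    have hTd : Commute T D2 := by
      refine mul_inv_eq_iff_eq_mul.1 ?_
      rw [hT, hD2, ← map_inv, ← map_mul, ← map_mul, ex2, map_mul, hπd1, mul_one]
    rw [map_mul, map_pow]
    exact ((hDN d2 m2 a ha).map π).mul_right (hTd.symm.pow_right j)
  have hD2p : D2 ^ p = 1 := by rw [hD2, ← map_pow, hd2p, map_one]
  have hlinep : ∀ v ∈ zpowers D2, v ^ p = 1 := fun v hv => by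
    obtain ⟨i, rfl⟩ := mem_zpowers_iff.1 hv
    rw [← zpow_natCast, ← zpow_mul, mul_comm, zpow_mul, zpow_natCast, hD2p, one_zpow]
  have hD2ne : D2 ≠ 1 := fun e0 => by
    obtain ⟨i, hi⟩ := (isOfFinOrder_of_finite _).mem_powers_iff_mem_zpowers.2 ((h0 d2).1 e0)
    change d1 ^ i = d2 at hi
    have h1 := (hind i (p - 1) (by rw [hi, ← pow_succ', Nat.sub_add_cancel hp.out.one_le]; exact hd2p)).2
    rw [Nat.cast_sub hp.out.one_le, Nat.cast_one, ZMod.natCast_self, zero_sub, neg_eq_zero] at h1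
    exact one_ne_zero h1
  have hTC : Commute T C := by
    rw [← commutatorElement_eq_one_iff_commute, hT, hC, ← map_commutatorElement, h0]; exact F.xc
  have hG1T : ∀ a ∈ N.lowerCentralSeries 1, Commute T (π a) := by
    have hle : N.lowerCentralSeries 1 ≤ (centralizer {T}).comap π := hg1.trans (sup_le
      ((closure_le _).2 (by rintro y (rfl : y = c); exact mem_centralizer_singleton_iff.2 hTC.symm.eq))
      fun a ha => mem_centralizer_singleton_iff.2 (hlinec _ (hDline a ha) T).eq)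
    exact fun a ha => (mem_centralizer_singleton_iff.1 (hle ha)).symm
  set P := closure ({z} : Set X) ⊔ N.lowerCentralSeries 1 with hP
  have hzP : z ∈ P := mem_sup_left (Subgroup.subset_closure (Set.mem_singleton z))
  have hPN : P ≤ N := sup_le ((closure_le _).2 (Set.singleton_subset_iff.2 d.zN)) hG1N
  have hZp : Z ^ p = 1 := by rw [hZ, ← map_pow, h0]; exact F.zp
  have hTp : T ^ p = 1 := by rw [hT, ← map_pow, h0]; exact F.xp
  set V' := closure ({T, Z, C, D2} : Set (X ⧸ K)) with hV'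
  have hTV : T ∈ V' := subset_closure (Set.mem_insert _ _)
  have hZV : Z ∈ V' := subset_closure (by simp)
  have hCV : C ∈ V' := subset_closure (by simp)
  have hDV : D2 ∈ V' := subset_closure (by simp)
  haveI : (zpowers D2).Normal := ⟨fun v hv g => by rwa [← (hlinec v hv g).eq, mul_inv_cancel_right]⟩
  have hTZ : ⁅T, Z⁆ ∈ zpowers D2 := by
    rw [hT, hZ, ← map_commutatorElement]
    exact hDline _ F.xz
  have hVcomm : ∀ a ∈ V', ∀ b ∈ V', ⁅a, b⁆ ∈ zpowers D2 := by
    set ρ := QuotientGroup.mk' (zpowers D2) with hρ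
    have hρ0 : ∀ a, ρ a = 1 ↔ a ∈ zpowers D2 := fun a => QuotientGroup.eq_one_iff a
    have hρD : ρ D2 = 1 := (hρ0 _).2 (mem_zpowers D2)
    have g1 : Commute (ρ T) (ρ Z) := by
      rw [← commutatorElement_eq_one_iff_commute, ← map_commutatorElement, hρ0]; exact hTZ
    have g2 : Commute (ρ T) (ρ C) := hTC.map ρ
    have g3 : Commute (ρ Z) (ρ C) := Commute.map (Commute.symm (by
      rw [← commutatorElement_eq_one_iff_commute, hZ, hC, ← map_commutatorElement, h0]
      exact mem_zpowers d1)) ρ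
    have hle : V'.map ρ ≤ closure ({ρ T, ρ Z, ρ C} : Set _) := by
      rw [hV', MonoidHom.map_closure, closure_le]
      rintro _ ⟨y, (rfl | rfl | rfl | rfl), rfl⟩
      exacts [subset_closure (by simp), subset_closure (by simp), subset_closure (by simp),
        by rw [hρD]; exact one_mem _]
    haveI := isMulCommutative_closure (k := ({ρ T, ρ Z, ρ C} : Set _)) (by
      rintro a (rfl | rfl | rfl) b (rfl | rfl | rfl)
      exacts [rfl, g1.eq, g2.eq, g1.eq.symm, rfl, g3.eq, g2.eq.symm, g3.eq.symm, rfl])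
    intro a ha b hb
    rw [← hρ0, map_commutatorElement, commutatorElement_eq_one_iff_mul_comm]
    exact congrArg Subtype.val (IsMulCommutative.is_comm.comm
      (⟨_, hle (mem_map_of_mem ρ ha)⟩ : closure ({ρ T, ρ Z, ρ C} : Set _))
      ⟨_, hle (mem_map_of_mem ρ hb)⟩)
  have hcl : Cl2 V' := fun a ha b hb g _ => hlinec _ (hVcomm a ha b hb) g
  have hVmul : ∀ a ∈ V', ∀ b ∈ V', (a * b) ^ p = a ^ p * b ^ p := fun a ha b hb =>
    hcl.mul_pow ((d.pgroup.to_quotient K).to_subgroup _) d.five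
      (fun a ha b hb => hlinep _ (hVcomm a ha b hb)) ha hb
  have hG1V : ∀ a ∈ N.lowerCentralSeries 1, π a ∈ V' := by
    have hle : N.lowerCentralSeries 1 ≤ V'.comap π := hg1.trans (sup_le
      ((closure_le _).2 (by rintro y (rfl : y = c); exact hCV))
      fun a ha => zpowers_le.2 hDV (hDline a ha))
    exact fun a ha => hle ha
  have hVexp : ∀ a ∈ V', a ^ p = 1 := by
    let R : Subgroup (X ⧸ K) :=
      { carrier := {a | a ∈ V' ∧ a ^ p = 1}
        one_mem' := ⟨one_mem _, one_pow p⟩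
        mul_mem' := fun {a b} ha hb => ⟨mul_mem ha.1 hb.1, by
          rw [hVmul a ha.1 b hb.1, ha.2, hb.2, one_mul]⟩
        inv_mem' := fun {a} ha => ⟨inv_mem ha.1, by rw [inv_pow, ha.2, inv_one]⟩ }
    have hle : V' ≤ R := (closure_le _).2 (by
      rintro y (rfl | rfl | rfl | rfl)
      exacts [⟨hTV, hTp⟩, ⟨hZV, hZp⟩, ⟨hCV, by rw [hC, ← map_pow, hcp, map_one]⟩, ⟨hDV, hD2p⟩])
    exact fun a ha => (hle ha).2
  -- class of the whole group
  refine ⟨h3, ⟨e, d.eN, z, d.zN, d.closure_ez.ge⟩, fun htop => ?_, fun M hM hMN => ?_⟩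
  · have w1 : c ∈ (⊤ : Subgroup X).lowerCentralSeries 1 := comm_mem_lcs_one (mem_top e) (mem_top z)
    have w2 : d2 ∈ (⊤ : Subgroup X).lowerCentralSeries 2 := comm_mem_lcs_succ w1 (mem_top e)
    have w3 : ⁅d2, x⁆ ∈ (⊤ : Subgroup X).lowerCentralSeries 3 := comm_mem_lcs_succ w2 (mem_top x)
    rw [htop, mem_bot, ← commutatorElement_inv, inv_eq_one, commutatorElement_def, ex2,
      (hDN d2 m2 d1 (lcs_le_self N 2 m1)).eq, mul_inv_cancel_right] at w3
    have h1 := (hind 1 0 (by rw [pow_one, pow_zero, mul_one, w3])).1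
    rw [Nat.cast_one] at h1
    exact one_ne_zero h1
  -- another maximal subgroup
  have hMc := isCoatom_of_index_prime hM
  haveI := d.pgroup.isNilpotent
  haveI : M.Normal := Subgroup.NormalizerCondition.normal_of_coatom M
    Group.normalizerCondition_of_isNilpotent hMc
  have hMab : ∀ a b : X, ⁅a, b⁆ ∈ M := fun a b => by
    haveI : IsCyclic (X ⧸ M) := isCyclic_of_prime_card (p := p) hM
    rw [← QuotientGroup.eq_one_iff]
    show QuotientGroup.mk' M ⁅a, b⁆ = 1
    rw [map_commutatorElement, commutatorElement_eq_one_iff_mul_comm]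
    exact (IsCyclic.commGroup (α := X ⧸ M)).mul_comm _ _
  have hpM : ∀ a : X, a ^ p ∈ M := fun a => hM ▸ pow_index_mem M a
  have hG1M : N.lowerCentralSeries 1 ≤ M := by
    rw [lcs_one, commutator_le]; exact fun a _ b _ => hMab a b
  have hzM : z ∈ M := by
    have h1 := hMab x e
    have h2 : (x * e * x⁻¹)⁻¹ * (e * z) ∈ M := hG1M (t.phi_one.le d.xe)
    rw [show z = (e⁻¹ * ⁅x, e⁆ * e) * ((x * e * x⁻¹)⁻¹ * (e * z)) by
      rw [commutatorElement_def]; group]
    refine mul_mem ?_ h2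
    simpa using Subgroup.Normal.conj_mem inferInstance _ h1 e⁻¹
  have hPM : P ≤ M := sup_le ((closure_le _).2 (Set.singleton_subset_iff.2 hzM)) hG1M
  have heM : e ∉ M := fun heM => hMN (by
    have hle : N ≤ M := d.closure_ez.ge.trans ((closure_le _).2 (by
      rintro y (rfl | rfl); exacts [heM, hzM]))
    rcases (isCoatom_of_index_prime d.index).le_iff.1 hle with e0 | e0
    · exact absurd e0 hMc.1
    · exact e0)
  haveI := d.phi_normal
  set π0 := QuotientGroup.mk' (Phi p N) with hπ0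
  have v := d.vq π0 (QuotientGroup.ker_mk' _)
  have hdec : ∀ a ∈ N, ∃ i j : ℕ, ∃ g ∈ N.lowerCentralSeries 1, a = e ^ i * z ^ j * g := by
    intro a ha
    obtain ⟨i, j, l, hco⟩ := v.coords a ha
    rw [map_one, one_pow, mul_one] at hco
    refine ⟨i, j, (e ^ i * z ^ j)⁻¹ * a, t.phi_one.le ((QuotientGroup.eq_one_iff _).1 ?_),
      (mul_inv_cancel_left _ _).symm⟩
    show π0 ((e ^ i * z ^ j)⁻¹ * a) = 1
    rw [map_mul, map_inv, map_mul, map_pow, map_pow, hco, inv_mul_cancel]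
  have hMP : ∀ a ∈ M, a ∈ N → a ∈ P := by
    intro a haM haN
    obtain ⟨i, j, g, hg, rfl⟩ := hdec a haN
    have hzg : z ^ j * g ∈ P := mul_mem (P.pow_mem hzP j) (mem_sup_right hg)
    rw [mul_assoc] at haM ⊢
    have hei : e ^ i ∈ M := by
      have h := mul_mem haM (inv_mem (hPM hzg))
      rwa [mul_inv_cancel_right] at h
    by_cases hi : (i : ZMod p) = 0
    · obtain ⟨q, rfl⟩ := (ZMod.natCast_eq_zero_iff i p).1 hi
      rw [pow_mul]
      exact mul_mem (pow_mem (mem_sup_right (t.phi_one.le (mem_sup_right (pow_mem_agemo d.eN)))) q) hzg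
    · refine absurd ?_ heM
      haveI : Fact p.Prime := hp
      obtain ⟨q, hq⟩ : ∃ q : ℕ, i * ((i : ZMod p)⁻¹).val % p = 1 % p ∧ q = i * ((i : ZMod p)⁻¹).val := by
        refine ⟨_, (ZMod.natCast_eq_natCast_iff' _ _ p).1 ?_, rfl⟩
        rw [Nat.cast_mul, ZMod.natCast_zmod_val, mul_inv_cancel₀ hi, Nat.cast_one]
      have h1 : e ^ (i * ((i : ZMod p)⁻¹).val) ∈ M := by rw [pow_mul]; exact pow_mem hei _
      rw [← Nat.mod_add_div (i * _) p, hq.1, Nat.mod_eq_of_lt hp.out.one_lt, pow_add, pow_one, pow_mul] at h1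
      have h2 := mul_mem h1 (inv_mem (pow_mem (hpM e) (i * ((i : ZMod p)⁻¹).val / p)))
      rwa [mul_inv_cancel_right] at h2
  have hxN : ∀ j : ℕ, x ^ j ∈ N → (j : ZMod p) = 0 := by
    intro j hj
    by_contra hne0
    refine d.not_mem ?_
    rw [← QuotientGroup.eq_one_iff]
    have h1 : (QuotientGroup.mk' N x) ^ p = 1 := by
      rw [← map_pow]; exact (QuotientGroup.eq_one_iff _).2 d.xp_mem
    have h2 : (QuotientGroup.mk' N x) ^ j ∈ (⊥ : Subgroup (X ⧸ N)) := by
      rw [mem_bot, ← map_pow]; exact (QuotientGroup.eq_one_iff _).2 hj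
    exact mem_bot.1 (mem_of_pow_mem h1 hne0 h2)
  obtain ⟨s, hsM, hsN⟩ : ∃ s ∈ M, s ∉ N := by
    by_contra! hall
    rcases hMc.le_iff.1 (show M ≤ N from hall) with e0 | e0
    · exact (isCoatom_of_index_prime d.index).1 e0
    · exact hMN e0.symm
  obtain ⟨a, ha, i, hsi⟩ := d.decomp s
  have hi : (i : ZMod p) ≠ 0 := fun e0 => by
    obtain ⟨q, rfl⟩ := (ZMod.natCast_eq_zero_iff i p).1 e0
    rw [hsi, pow_mul] at hsN
    exact hsN (mul_mem ha (pow_mem d.xp_mem q))
  have hMgen : M ≤ zpowers s ⊔ P := by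
    intro g hg
    obtain ⟨b, hb, j, rfl⟩ := d.decomp g
    set l := ((j : ZMod p) * (i : ZMod p)⁻¹).val with hl
    have h1 : b * x ^ j * (s ^ l)⁻¹ ∈ N := by
      rw [← QuotientGroup.eq_one_iff]
      show QuotientGroup.mk' N (b * x ^ j * (s ^ l)⁻¹) = 1
      have hb1 : QuotientGroup.mk' N b = 1 := (QuotientGroup.eq_one_iff b).2 hb
      have ha1 : QuotientGroup.mk' N a = 1 := (QuotientGroup.eq_one_iff a).2 ha
      rw [map_mul, map_mul, map_inv, map_pow, map_pow, hsi, map_mul, map_pow, hb1, ha1, one_mul, one_mul,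
        mul_inv_eq_one, ← pow_mul]
      refine pow_eq_pow_of_cast (by rw [← map_pow]; exact (QuotientGroup.eq_one_iff _).2 d.xp_mem) ?_
      rw [Nat.cast_mul, hl, ZMod.natCast_zmod_val, mul_comm (j : ZMod p), ← mul_assoc, mul_inv_cancel₀ hi,
        one_mul]
    have h2 : b * x ^ j * (s ^ l)⁻¹ ∈ P := hMP _ (mul_mem hg (inv_mem (pow_mem hsM l))) h1
    have h3 := mul_mem (mem_sup_right h2) (mem_sup_left (pow_mem (mem_zpowers s) l) : s ^ l ∈ zpowers s ⊔ P)
    rwa [inv_mul_cancel_right] at h3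
  obtain ⟨α, β, g, hg, rfl⟩ := hdec a ha
  by_cases hα : (α : ZMod p) = 0
  · -- the subgroup containing `x`
    have haP : e ^ α * z ^ β * g ∈ P := by
      obtain ⟨q, rfl⟩ := (ZMod.natCast_eq_zero_iff α p).1 hα
      rw [pow_mul]
      exact mul_mem (mul_mem (pow_mem (mem_sup_right (t.phi_one.le (mem_sup_right
        (pow_mem_agemo d.eN)))) q) (P.pow_mem hzP β)) (mem_sup_right hg)
    have hxiM : x ^ i ∈ M := by
      have := mul_mem (inv_mem (hPM haP)) hsM
      rwa [hsi, inv_mul_cancel_left] at this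
    have hxM : x ∈ M := by
      rw [← QuotientGroup.eq_one_iff]
      refine mem_bot.1 (mem_of_pow_mem (p := p) ?_ hi ?_)
      · exact (QuotientGroup.eq_one_iff (x ^ p)).2 (hpM x)
      · exact mem_bot.2 ((QuotientGroup.eq_one_iff (x ^ i)).2 hxiM)
    have hMV : ∀ b ∈ M, π b ∈ V' := by
      have hle : zpowers s ⊔ P ≤ V'.comap π := by
        have hP' : P ≤ V'.comap π :=
          sup_le ((closure_le _).2 (Set.singleton_subset_iff.2 hZV)) fun b hb => hG1V b hb
        refine sup_le (zpowers_le.2 ?_) hP'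
        rw [hsi]
        exact mul_mem (hP' haP) (by rw [mem_comap, map_pow]; exact pow_mem hTV i)
      exact fun b hb => hle (hMgen hb)
    have hMp : ∀ b ∈ M, b ^ p ∈ K := fun b hb => by
      rw [← h0, map_pow]; exact hVexp _ (hMV b hb)
    have hcM : c ∈ M := hG1M hcN
    have hKle : ∀ (H : Subgroup X), K ≤ H → ∀ b, π b ∈ H.map π → b ∈ H := fun H hKH b hb => by
      have h1 : b ∈ (H.map π).comap π := hb
      rwa [comap_map_eq, hπ, QuotientGroup.ker_mk', sup_eq_left.2 hKH] at h1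
    have hnot2 : ¬ Gen2 M := by
      rintro ⟨u, hu, w, hw, hle⟩
      have hE : Elem p (M.map π2) := by
        refine ⟨?_, ?_⟩
        · rintro _ ⟨b, hb, rfl⟩ _ ⟨b', hb', rfl⟩
          refine commutatorElement_eq_one_iff_commute.1 ?_
          rw [← map_commutatorElement, h02]
          refine hKle D hKD _ ?_
          rw [map_commutatorElement]
          exact (zpowers_le.2 (mem_map_of_mem π m2)) (hVcomm _ (hMV b hb) _ (hMV b' hb'))
        · rintro _ ⟨b, hb, rfl⟩
          rw [← map_pow, h02]; exact hKD (hMp b hb)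
      have hpull : ∀ H : Subgroup X, D ≤ H → ∀ b, π2 b ∈ H.map π2 → b ∈ H := fun H hDH b hb => by
        have h1 : b ∈ (H.map π2).comap π2 := hb
        rwa [comap_map_eq, hπ2, QuotientGroup.ker_mk', sup_eq_left.2 hDH] at h1
      have n1 : π2 c ∉ (⊥ : Subgroup (X ⧸ D)) := fun hin => F.c_not ((h02 c).1 (mem_bot.1 hin))
      obtain ⟨E1, E1c⟩ := elem_bot.extend (x := π2 c) (hE.2 _ (mem_map_of_mem π2 hcM))
        (fun b hb => by rw [mem_bot.1 hb, mul_one, one_mul]) n1
      have le1 : (⊥ : Subgroup (X ⧸ D)) ⊔ zpowers (π2 c) ≤ (N.lowerCentralSeries 1).map π2 :=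
        sup_le bot_le (zpowers_le.2 (mem_map_of_mem π2 hcN))
      have le1' : (⊥ : Subgroup (X ⧸ D)) ⊔ zpowers (π2 c) ≤ M.map π2 := le1.trans (map_mono hG1M)
      have n2 : π2 z ∉ (⊥ : Subgroup (X ⧸ D)) ⊔ zpowers (π2 c) := fun hin => by
        have h1 := (d.indep 0 1 0 (by
          rw [pow_zero, pow_one, pow_zero, one_mul, mul_one]
          exact t.phi_one.ge (hpull _ hD1 z (le1 hin)))).2.1
        rw [Nat.cast_one] at h1
        exact one_ne_zero h1
      obtain ⟨E2, E2c⟩ := E1.extend (x := π2 z) (hE.2 _ (mem_map_of_mem π2 hzM))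
        (fun b hb => hE.1 _ (mem_map_of_mem π2 hzM) b (le1' hb)) n2
      have le2 := sup_le (le1.trans (map_mono hG1N)) (zpowers_le.2 (mem_map_of_mem π2 d.zN))
      have le2' := sup_le le1' (zpowers_le.2 (mem_map_of_mem π2 hzM))
      have n3 : π2 x ∉ ((⊥ : Subgroup (X ⧸ D)) ⊔ zpowers (π2 c)) ⊔ zpowers (π2 z) := fun hin =>
        d.not_mem (hpull N (lcs_le_self N 2) x (le2 hin))
      obtain ⟨E3, E3c⟩ := E2.extend (x := π2 x) (hE.2 _ (mem_map_of_mem π2 hxM))
        (fun b hb => hE.1 _ (mem_map_of_mem π2 hxM) b (le2' hb)) n3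
      have le3' := sup_le le2' (zpowers_le.2 (mem_map_of_mem π2 hxM))
      have hle' : M.map π2 ≤ closure ({π2 u, π2 w} : Set (X ⧸ D)) := by
        refine (map_mono hle).trans ?_
        rw [MonoidHom.map_closure, Set.image_insert_eq, Set.image_singleton]
      have h1 : p * p * p ≤ p ^ 2 := by
        rw [Subgroup.card_bot, one_mul] at E1c
        exact ((Nat.mul_le_mul_right p ((Nat.mul_le_mul_right p E1c).trans E2c)).trans E3c).trans
          ((Nat.card_le_card_of_injective _ (Subgroup.inclusion_injective (le3'.trans hle'))).trans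
            (card_closure_pair hE (mem_map_of_mem π2 hu) (mem_map_of_mem π2 hw)))
      rw [show p * p * p = p ^ 3 by ring, Nat.pow_le_pow_iff_right hp.out.one_lt] at h1
      omega
    refine ⟨fun h => hnot2 h.2, fun hag => ?_⟩
    exfalso
    have hE : Elem p (M.map π) := by
      refine ⟨?_, ?_⟩
      · rintro _ ⟨b, hb, rfl⟩ _ ⟨b', hb', rfl⟩
        refine commutatorElement_eq_one_iff_commute.1 ?_
        rw [← map_commutatorElement, h0]
        exact (agemo_le_iff.2 hMp) (hag (commutator_mem_commutator hb hb'))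
      · rintro _ ⟨b, hb, rfl⟩
        rw [← map_pow, h0]; exact hMp b hb
    have hd2M : d2 ∈ M := hG1M (hD1 m2)
    have n1 : D2 ∉ (⊥ : Subgroup (X ⧸ K)) := fun hin => hD2ne (mem_bot.1 hin)
    obtain ⟨E1, E1c⟩ := elem_bot.extend (x := D2) hD2p
      (fun b hb => by rw [mem_bot.1 hb, mul_one, one_mul]) n1
    have le1 : (⊥ : Subgroup (X ⧸ K)) ⊔ zpowers D2 ≤ D.map π :=
      sup_le bot_le (zpowers_le.2 (mem_map_of_mem π m2))
    have le1' := le1.trans (map_mono (hD1.trans hG1M))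
    have n2 : C ∉ (⊥ : Subgroup (X ⧸ K)) ⊔ zpowers D2 := fun hin => F.c_not (hKle D hKD c (le1 hin))
    obtain ⟨E2, E2c⟩ := E1.extend (x := C) (hE.2 _ (mem_map_of_mem π hcM))
      (fun b hb => hE.1 _ (mem_map_of_mem π hcM) b (le1' hb)) n2
    have le2 := sup_le (le1.trans (map_mono hD1)) (zpowers_le.2 (mem_map_of_mem π hcN))
    have le2' := le2.trans (map_mono hG1M)
    have n3 : Z ∉ ((⊥ : Subgroup (X ⧸ K)) ⊔ zpowers D2) ⊔ zpowers C := fun hin => by
      have h1 := (d.indep 0 1 0 (by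
        rw [pow_zero, pow_one, pow_zero, one_mul, mul_one]
        exact t.phi_one.ge (hKle _ (hKD.trans hD1) z (le2 hin)))).2.1
      rw [Nat.cast_one] at h1
      exact one_ne_zero h1
    obtain ⟨E3, E3c⟩ := E2.extend (x := Z) hZp
      (fun b hb => hE.1 _ (mem_map_of_mem π hzM) b (le2' hb)) n3
    have le3 := sup_le (le2.trans (map_mono hG1N)) (zpowers_le.2 (mem_map_of_mem π d.zN))
    have le3' := sup_le le2' (zpowers_le.2 (mem_map_of_mem π hzM))
    have n4 : T ∉ (((⊥ : Subgroup (X ⧸ K)) ⊔ zpowers D2) ⊔ zpowers C) ⊔ zpowers Z := fun hin =>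
      d.not_mem (hKle N (hKD.trans (lcs_le_self N 2)) x (le3 hin))
    obtain ⟨E4, E4c⟩ := E3.extend (x := T) hTp
      (fun b hb => hE.1 _ (mem_map_of_mem π hxM) b (le3' hb)) n4
    have h1 : p * p * p * p ≤ p ^ 3 := by
      rw [Subgroup.card_bot, one_mul] at E1c
      exact ((Nat.mul_le_mul_right p ((Nat.mul_le_mul_right p ((Nat.mul_le_mul_right p E1c).trans
        E2c)).trans E3c)).trans E4c).trans (E4.card_le (hrank K))
    rw [show p * p * p * p = p ^ 4 by ring, Nat.pow_le_pow_iff_right hp.out.one_lt] at h1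
    omega
  · -- the other subgroups
    have hgN : g ∈ N := hG1N hg
    have h0N : ∀ {b : X}, b ∈ N → b ∈ N.lowerCentralSeries 0 := fun {b} hb => by
      rwa [Subgroup.lowerCentralSeries_zero]
    have hezN : e ^ α * z ^ β ∈ N := mul_mem (pow_mem d.eN α) (pow_mem d.zN β)
    set w1 := ⁅s, z⁆ with hw1
    have e1 : π2 w1 = π2 c ^ α := by
      have h1 : π2 ⁅e ^ α * z ^ β * g, z⁆ = π2 c ^ α := by
        have h2 := L0.cong (h0N hezN) hg d.zN (one_mem _)
        rw [mul_one] at h2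
        rw [h2, L0.mul_left (h0N (pow_mem d.eN α)) (h0N (pow_mem d.zN β)) d.zN,
          L0.pow_left (h0N d.eN) d.zN, comm_one_left ((Commute.refl z).pow_left β), map_one, mul_one]
      rw [hw1, hsi, map_commutatorElement, map_mul, map_pow,
        show ⁅π2 (e ^ α * z ^ β * g) * π2 x ^ i, π2 z⁆ = ⁅π2 (e ^ α * z ^ β * g), π2 z⁆ by
          rw [commutatorElement_def, commutatorElement_def, mul_assoc _ (π2 x ^ i), (hXZ.pow_left i).eq]
          group,
        ← map_commutatorElement, h1]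
    have eg1 : ∃ g1 ∈ D, w1 = c ^ α * g1 := ⟨(c ^ α)⁻¹ * w1,
      (h02 _).1 (by rw [map_mul, map_inv, map_pow, e1, inv_mul_cancel]), (mul_inv_cancel_left _ _).symm⟩
    obtain ⟨g1, hg1, ew1⟩ := eg1
    set w2 := ⁅s, w1⁆ with hw2
    have e2 : π w2 = (D2 ^ (α * α))⁻¹ := by
      have h1 : ⁅c ^ α * g1, e ^ α * z ^ β * g⁆ = d2 ^ (α * α) * d1 ^ (α * β) := by
        have h2 : ⁅c ^ α * g1, e ^ α * z ^ β * g⁆ = ⁅c ^ α, e ^ α * z ^ β⁆ :=
          L.cong (pow_mem hcN α) hg1 hezN hg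
        have h3 : ⁅c ^ α, e ^ α * z ^ β⁆ = ⁅c ^ α, e ^ α⁆ * ⁅c ^ α, z ^ β⁆ :=
          L.mul_right (pow_mem hcN α) (pow_mem d.eN α) (pow_mem d.zN β)
        have h4 : ⁅c ^ α, e ^ α⁆ = ⁅c, e ^ α⁆ ^ α := L.pow_left hcN (pow_mem d.eN α) α
        have h5 : ⁅c, e ^ α⁆ = d2 ^ α := L.pow_right hcN d.eN α
        have h6 : ⁅c ^ α, z ^ β⁆ = ⁅c, z ^ β⁆ ^ α := L.pow_left hcN (pow_mem d.zN β) α
        have h7 : ⁅c, z ^ β⁆ = d1 ^ β := L.pow_right hcN d.zN β
        rw [h2, h3, h4, h5, h6, h7, ← pow_mul, ← pow_mul, mul_comm β α]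
      have hTw : Commute (T ^ i) (π w1) := by
        rw [ew1]
        exact (hG1T _ (mul_mem (pow_mem hcN α) (hD1 hg1))).pow_left i
      rw [hw2, hsi, map_commutatorElement, map_mul, map_pow, ← hT,
        show ⁅π (e ^ α * z ^ β * g) * T ^ i, π w1⁆ = ⁅π (e ^ α * z ^ β * g), π w1⁆ by
          rw [commutatorElement_def, commutatorElement_def, mul_assoc _ (T ^ i), hTw.eq]
          group,
        ← map_commutatorElement, ← commutatorElement_inv, ew1, h1, map_inv, map_mul, map_pow, map_pow,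
        hπd1, one_pow, mul_one]
    obtain ⟨r, hr⟩ : ∃ r : ℤ, w2 = (d2 ^ (α * α))⁻¹ * d1 ^ r := by
      have h1 : d2 ^ (α * α) * w2 ∈ K := by
        rw [← h0, map_mul, map_pow, e2, mul_inv_cancel]
      obtain ⟨r, hr⟩ := mem_zpowers_iff.1 h1
      exact ⟨r, by rw [hr, inv_mul_cancel_left]⟩
    set w3 := ⁅s, w2⁆ with hw3
    have e3 : w3 = (d1 ^ (i * (α * α)))⁻¹ := by
      have hw2D : w2 ∈ D := by
        rw [hr]; exact mul_mem (inv_mem (pow_mem m2 _)) (zpow_mem m1 r)
      have hxd : Commute x d1 := mem_center_iff.1 F.cen x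
      have hdd : Commute d2 d1 := hDN d2 m2 d1 (lcs_le_self N 2 m1)
      have h1 : x ^ i * w2 * (x ^ i)⁻¹ = w2 * (d1 ^ (i * (α * α)))⁻¹ := by
        rw [hr, ← conj_mul, ← conj_inv, ← conj_pow, conj_iter ex2 hxd i,
          ((hxd.pow_left i).zpow_right r).eq, mul_inv_cancel_right, (hdd.pow_right i).mul_pow, ← pow_mul,
          mul_inv_rev, ((hdd.pow_pow (α * α) (i * (α * α))).inv_inv).eq.symm]
        rw [mul_assoc (d2 ^ (α * α))⁻¹,
          ← (((Commute.refl d1).zpow_left r).pow_right (i * (α * α))).inv_right.eq, ← mul_assoc]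
      have h2 : Commute (e ^ α * z ^ β * g) (w2 * (d1 ^ (i * (α * α)))⁻¹) :=
        (hDN _ (mul_mem hw2D (inv_mem (pow_mem m1 _))) _ (mul_mem hezN hgN)).symm
      rw [hw3, hsi, commutatorElement_def,
        show (e ^ α * z ^ β * g) * x ^ i * w2 * ((e ^ α * z ^ β * g) * x ^ i)⁻¹ * w2⁻¹ =
          (e ^ α * z ^ β * g) * (x ^ i * w2 * (x ^ i)⁻¹) * (e ^ α * z ^ β * g)⁻¹ * w2⁻¹ by group,
        h1, h2.eq, mul_inv_cancel_right,
        (hDN w2 hw2D _ (lcs_le_self N 2 (inv_mem (pow_mem m1 _)))).eq, mul_inv_cancel_right]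
    have hne3 : w3 ≠ 1 := fun e0 => by
      rw [e3, inv_eq_one] at e0
      have h1 := (hind (i * (α * α)) 0 (by rw [e0, pow_zero, mul_one])).1
      rw [Nat.cast_mul, Nat.cast_mul] at h1
      exact mul_ne_zero hi (mul_ne_zero hα hα) h1
    have hinvmem : ∀ {H : Subgroup X} {b b' : X}, ⁅b', b⁆ ∈ H → ⁅b, b'⁆ ∈ H := fun {H b b'} hb => by
      rw [← commutatorElement_inv]; exact inv_mem hb
    refine ⟨fun h => hne3 ?_, fun _ => ⟨s, hsM, z, hzM, ?_⟩⟩
    · have l1 : w1 ∈ M.lowerCentralSeries 1 := comm_mem_lcs_one hsM hzM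
      have l2 : w2 ∈ M.lowerCentralSeries 2 := hinvmem (comm_mem_lcs_succ l1 hsM)
      have l3 : w3 ∈ M.lowerCentralSeries 3 := hinvmem (comm_mem_lcs_succ l2 hsM)
      rw [h.1] at l3
      exact mem_bot.1 l3
    · set H := closure ({s, z} : Set X) with hH
      have hs : s ∈ H := subset_closure (Or.inl rfl)
      have hz : z ∈ H := subset_closure (Or.inr rfl)
      have hcomm : ∀ {b b' : X}, b ∈ H → b' ∈ H → ⁅b, b'⁆ ∈ H := fun {b b'} hb hb' => by
        rw [commutatorElement_def]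
        exact mul_mem (mul_mem (mul_mem hb hb') (inv_mem hb)) (inv_mem hb')
      have q1 : w1 ∈ H := hcomm hs hz
      have q2 : w2 ∈ H := hcomm hs q1
      have q3 : w3 ∈ H := hcomm hs q2
      have qd1 : d1 ∈ H := by
        refine mem_of_pow_mem hd1p (m := i * (α * α)) ?_ ?_
        · rw [Nat.cast_mul, Nat.cast_mul]; exact mul_ne_zero hi (mul_ne_zero hα hα)
        · rw [e3] at q3; exact inv_mem_iff.1 q3
      have qd2 : d2 ∈ H := by
        refine mem_of_pow_mem hd2p (m := α * α) ?_ ?_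
        · rw [Nat.cast_mul]; exact mul_ne_zero hα hα
        · rw [show d2 ^ (α * α) = d1 ^ r * w2⁻¹ by rw [hr, mul_inv_rev, inv_inv, mul_inv_cancel_left]]
          exact mul_mem (zpow_mem qd1 r) (inv_mem q2)
      have qD : D ≤ H := hDgen.trans ((closure_le _).2 (by rintro y (rfl | rfl); exacts [qd1, qd2]))
      have qc : c ∈ H := mem_of_pow_mem hcp (m := α) hα (by
        rw [show c ^ α = w1 * g1⁻¹ by rw [ew1, mul_inv_cancel_right]]
        exact mul_mem q1 (inv_mem (qD hg1)))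
      refine hMgen.trans (sup_le (zpowers_le.2 hs) (sup_le ?_ ?_))
      · exact (closure_le _).2 (Set.singleton_subset_iff.2 hz)
      · exact t.g1.trans (sup_le ((closure_le _).2 (Set.singleton_subset_iff.2 qc)) qD)

end Cfsg.Agent.RankThreeEss.Pearl
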