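import Cfsg.Agent.RankThreeEss.Main
import Cfsg.Agent.RankThreeEss.Pearl.TwoMax
import Cfsg.Agent.RankThreeEss.Pearl.Powerful
import Cfsg.Agent.FusSys.RankTwoTorus
import Cfsg.Agent.FusSys.EssentialSmall

/-!
The data attached to an essential subgroup inside its normalizer.
-/

set_option autoImplicit false
set_option linter.style.haveILetI false

namespace Cfsg.Agent.RankThreeEss.Pearl

open Cfsg Cfsg.FusionSystem Cfsg.Agent.FusSys Subgroup
open scoped commutatorElement

universe u

variable {p : ℕ} [hp : Fact p.Prime]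
variable {Ω : Type u} [Group Ω] {S : Subgroup Ω} {F : FusionSystem S} {E : Subgroup Ω}

/-- The transvection case inside `M`. -/
def PairAt (F : FusionSystem S) (p : ℕ) (E M : Subgroup Ω) : Prop :=
  ∃ (h : MulAut M) (σ : M → M) (k : ZMod p) (x e z u : M),
    h ∈ F.autGroup M ∧ TD p (E.subgroupOf M) h σ k x e z u ∧
      PairOut p (E.subgroupOf M) h k x e z u ∧
      (∀ l : ℕ, u ^ l ∈ Phi p (E.subgroupOf M) → (l : ZMod p) = 0) ∧
      ∃ α ∈ F.autGroup E, ∀ a ∈ E.subgroupOf M, ((σ a : M) : Ω) = apl α (a : Ω)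

/-- The regular case inside `M`. -/
def RegAt (p : ℕ) (E M : Subgroup Ω) : Prop :=
  ∃ (_ : (E.subgroupOf M).Normal) (x : M) (e t z : E.subgroupOf M),
    RegData p (E.subgroupOf M) x e t z ∧
      ∃ n : ℕ, (∀ a : E.subgroupOf M, a ^ p ^ (n + 1) = 1) ∧
        ∀ a : E.subgroupOf M, a ∉ frattini (E.subgroupOf M) → a ^ p ^ n ≠ 1

theorem cg_map {P Q : Type*} [Group P] [Group Q] [Finite P] [Finite Q] (f : P ≃* Q) {a b : P}
    (h : Cg a b) : Cg (f a) (f b) := by
  show (f a)⁻¹ * f b ∈ frattini Q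
  rw [← frattini_map_iso f, ← map_inv, ← map_mul]
  exact mem_map_of_mem f.toMonoidHom h

/-- The Frattini index of an essential subgroup. -/
theorem frattini_cases [Finite S] (hS : IsPGroup p S) (hsr : SectionalPRankLE p 3 S)
    (hE : F.IsEssential p E) :
    (frattini E).index = p ^ 2 ∨ (frattini E).index = p ^ 3 := by
  have hES : E ≤ S := hE.1.1
  haveI := finite_of_le hES
  haveI : Finite (MulAut E) := Finite.of_injective _ MulEquiv.toEquiv_injective
  have hEp : IsPGroup p E := hS.to_le hES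
  obtain ⟨m, hm⟩ := IsPGroup.iff_card.1 hEp
  obtain ⟨hqc, hqe⟩ := FGS.frattini_quotient_props hm
  obtain ⟨r, -, hr⟩ := (Nat.dvd_prime_pow hp.out).1 (hm ▸ (frattini E).index_dvd_card)
  have hr3 : r ≤ 3 := by
    have h1 : PRankLE p 3 (E ⧸ frattini E) :=
      rank_of_injective hsr (Subgroup.inclusion hES) (Subgroup.inclusion_injective hES) _
    have h2 := h1 ⊤ ⟨⟨fun a b => Subtype.ext (hqc a b)⟩⟩ fun a _ => hqe a
    rw [card_top, ← index_eq_card, hr, Nat.pow_le_pow_iff_right hp.out.one_lt] at h2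
    exact h2
  have hr2 : 2 ≤ r := by
    by_contra hlt
    haveI : IsCyclic (E ⧸ frattini E) := by
      rcases (show r = 0 ∨ r = 1 by omega) with rfl | rfl
      · haveI : Subsingleton (E ⧸ frattini E) :=
          (Nat.card_eq_one_iff_unique.1 (by rw [← index_eq_card, hr, pow_zero])).1
        infer_instance
      · exact isCyclic_of_prime_card (p := p) (by rw [← index_eq_card, hr, pow_one])
    obtain ⟨g, hg⟩ := IsCyclic.exists_generator (α := E ⧸ frattini E)
    obtain ⟨g, rfl⟩ := QuotientGroup.mk'_surjective _ g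
    haveI := hEp.isNilpotent
    have htop : closure ({g} : Set E) ⊔ frattini E = ⊤ := by
      refine top_le_iff.1 fun a _ => ?_
      obtain ⟨i, hi⟩ := mem_zpowers_iff.1 (hg (QuotientGroup.mk' _ a))
      have h1 : (g ^ i)⁻¹ * a ∈ frattini E := by
        rw [← map_zpow] at hi
        exact QuotientGroup.eq.1 hi
      have hgi : g ^ i ∈ closure ({g} : Set E) :=
        Subgroup.zpow_mem _ (Subgroup.subset_closure (Set.mem_singleton g)) i
      have h2 : g ^ i * ((g ^ i)⁻¹ * a) ∈ closure ({g} : Set E) ⊔ frattini E :=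
        Subgroup.mul_mem_sup hgi h1
      rwa [mul_inv_cancel_left] at h2
    have hgen := Core.eq_top_of_sup_frattini le_rfl htop
    haveI : IsCyclic E := ⟨⟨g, fun a => by
      have h1 : a ∈ closure ({g} : Set E) := hgen ▸ mem_top a
      rwa [← zpowers_eq_closure] at h1⟩⟩
    have hab : IsMulCommutative E := ⟨⟨fun a b => (IsCyclic.commGroup (α := E)).mul_comm a b⟩⟩
    obtain ⟨-, htwo⟩ := exists_two_sylow_of_essential hab hE
    have hcomm : ∀ f g : MulAut E, f * g = g * f := fun f g =>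
      (IsCyclic.mulAutMulEquiv E).injective (by rw [map_mul, map_mul, mul_comm])
    let T : Sylow p (F.autGroup E) := default
    obtain ⟨T', hT'⟩ := htwo T
    haveI : (T : Subgroup (F.autGroup E)).Normal := ⟨fun a ha b => by
      have e1 : b * a * b⁻¹ = a := Subtype.ext (by
        rw [Subgroup.coe_mul, Subgroup.coe_mul, Subgroup.coe_inv, hcomm, ← mul_assoc, inv_mul_cancel,
          one_mul])
      rwa [e1]⟩
    obtain ⟨c, hc⟩ := MulAction.exists_smul_eq (F.autGroup E) T T'
    exact hT' (hc.symm.trans (Sylow.smul_eq_of_normal))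
  rcases (show r = 2 ∨ r = 3 by omega) with rfl | rfl
  exacts [Or.inl hr, Or.inr hr]

/-- The transvection data from congruences in `E`. -/
theorem mk_td [Finite S] (hp5 : 5 ≤ p) (hS : IsPGroup p S) (hF : F.IsSaturated p)
    (hfn : F.IsFullyNormalized E) (hES : E ≤ S) {x : normalizerIn S E}
    (hx : (x : Ω) ∉ E) (hidx : (E.subgroupOf (normalizerIn S E)).index = p) {e z u : E}
    {k : ZMod p} (k0 : k ≠ 0) (k2 : k ^ 2 ≠ 1) (k3 : k ^ 3 ≠ 1)
    (gen : closure ({e, z, u} : Set E) ⊔ frattini E = ⊤)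
    (indep : ∀ i j l : ℕ, e ^ i * z ^ j * u ^ l ∈ frattini E →
      (i : ZMod p) = 0 ∧ (j : ZMod p) = 0 ∧ u ^ l ∈ frattini E)
    (xe : Cg (E.normalizerMonoidHom ⟨x, x.2.2⟩ e) (e * z))
    (xz : Cg (E.normalizerMonoidHom ⟨x, x.2.2⟩ z) z)
    (xu : Cg (E.normalizerMonoidHom ⟨x, x.2.2⟩ u) u)
    {α : MulAut E} (αe : Cg (α e) e) (αz : Cg (α z) (z * e)) (αu : Cg (α u) u)
    {h0 : MulAut E} (hh0 : h0 ∈ F.autGroup E)
    (hn0 : ∀ γ ∈ autInducedBy S E, h0 * γ * h0⁻¹ ∈ autInducedBy S E)
    (he : Cg (h0 e) (e ^ k⁻¹.val)) (hz : Cg (h0 z) (z ^ k.val)) (hu : Cg (h0 u) u)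
    (ucent : ∀ g : E, ⁅u, g⁆ ∈ agemo p (⊤ : Subgroup E)) :
    ∃ (h : MulAut (normalizerIn S E)) (σ : normalizerIn S E → normalizerIn S E),
      h ∈ F.autGroup (normalizerIn S E) ∧
      (∀ a ∈ E.subgroupOf (normalizerIn S E), ((σ a : normalizerIn S E) : Ω) = apl α (a : Ω)) ∧
      TD p (E.subgroupOf (normalizerIn S E)) h σ k x (inclusion (le_normalizerIn hES) e)
        (inclusion (le_normalizerIn hES) z) (inclusion (le_normalizerIn hES) u) := by
  classical
  haveI := finite_of_le hES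
  have hMS : normalizerIn S E ≤ S := inf_le_left
  haveI : Finite (normalizerIn S E) := finite_of_le hMS
  have hMp : IsPGroup p (normalizerIn S E) := hS.to_le hMS
  set N := E.subgroupOf (normalizerIn S E) with hN
  set emb := inclusion (le_normalizerIn hES : E ≤ normalizerIn S E) with hemb
  set ι : N ≃* E := subgroupOfEquivOfLe (le_normalizerIn hES) with hι
  have embN : ∀ a : E, emb a ∈ N := fun a => mem_subgroupOf.2 a.2
  have hΦ : ∀ a : E, a ∈ frattini E → emb a ∈ Phi p N := fun a ha => by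
    rw [← phi_eq (hMp.to_subgroup N)]
    refine ⟨ι.symm a, ?_, rfl⟩
    rw [← frattini_map_iso ι.symm]
    exact mem_map_of_mem ι.symm.toMonoidHom ha
  have hΦ' : ∀ a : E, emb a ∈ Phi p N → a ∈ frattini E := fun a ha => by
    rw [← phi_eq (hMp.to_subgroup N)] at ha
    obtain ⟨b, hb, hba⟩ := ha
    have : ι b = a := Subtype.ext (congrArg (Subtype.val : (normalizerIn S E) → Ω) hba)
    rw [← this, ← frattini_map_iso ι]
    exact mem_map_of_mem ι.toMonoidHom hb
  have cn : ∀ {a b : E}, Cg a b → Cn (Phi p N) (emb a) (emb b) := fun {a b} hab => by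
    show (emb a)⁻¹ * emb b ∈ Phi p N
    rw [← map_inv, ← map_mul]
    exact hΦ _ hab
  have cx : ∀ a : E, x * emb a * x⁻¹ = emb (E.normalizerMonoidHom ⟨x, x.2.2⟩ a) := fun a => Subtype.ext rfl
  obtain ⟨h, hh, hhx⟩ := exists_extension hS hF hfn hh0 hn0
  have hcoe : ∀ a : E, h (emb a) = emb (h0 a) := fun a =>
    Subtype.ext (((apl_coe h _).symm.trans (hhx _ a.2)).trans (apl_coe h0 a))
  obtain ⟨σ, hσd⟩ : ∃ σ : (normalizerIn S E) → (normalizerIn S E), σ = fun (y : ↥(normalizerIn S E)) => if hy : (y : Ω) ∈ E then emb (α ⟨y, hy⟩) else y :=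
    ⟨_, rfl⟩
  have σemb : ∀ a : E, σ (emb a) = emb (α a) := fun a => by
    rw [hσd]
    exact dif_pos a.2
  have hrep : ∀ a ∈ N, ∃ b : E, a = emb b := fun a ha => ⟨⟨a, mem_subgroupOf.1 ha⟩, Subtype.ext rfl⟩
  have hσ : EndOn N σ := by
    refine ⟨fun a ha => ?_, fun a ha b hb => ?_⟩
    · obtain ⟨a, rfl⟩ := hrep a ha; rw [σemb]; exact embN _
    · obtain ⟨a, rfl⟩ := hrep a ha
      obtain ⟨b, rfl⟩ := hrep b hb
      rw [← map_mul emb, σemb, σemb, σemb, map_mul, map_mul]
  refine ⟨h, σ, hh, fun a ha => ?_, ?_⟩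
  · obtain ⟨a, rfl⟩ := hrep a ha
    rw [σemb]
    exact (apl_coe α a).symm
  have fxe : Cn (Phi p N) (x * emb e * x⁻¹) (emb e * emb z) := by
    rw [cx e, ← map_mul]; exact cn xe
  have fxz : Cn (Phi p N) (x * emb z * x⁻¹) (emb z) := by rw [cx z]; exact cn xz
  have fxu : Cn (Phi p N) (x * emb u * x⁻¹) (emb u) := by rw [cx u]; exact cn xu
  exact {
    pgroup := hMp
    five := hp5
    normal := inferInstance
    index := hidx
    not_mem := fun hm => hx (mem_subgroupOf.1 hm)
    eN := embN e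
    zN := embN z
    uN := embN u
    gen := fun a ha => by
      obtain ⟨a, rfl⟩ := hrep a ha
      have h1 : a ∈ (closure ({emb e, emb z, emb u} : Set (normalizerIn S E)) ⊔ Phi p N).comap emb := by
        refine (sup_le ((closure_le _).2 ?_) fun b hb => mem_comap.2 (mem_sup_right (hΦ b hb)) :
          closure ({e, z, u} : Set E) ⊔ frattini E ≤ _) (gen ▸ mem_top a)
        rintro b (rfl | rfl | rfl) <;>
          exact mem_comap.2 (mem_sup_left (Subgroup.subset_closure (by simp)))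
      exact h1
    indep := fun i j l hl => by
      rw [← map_pow, ← map_pow, ← map_pow, ← map_mul, ← map_mul] at hl
      obtain ⟨h1, h2, h3⟩ := indep i j l (hΦ' _ hl)
      exact ⟨h1, h2, by rw [← map_pow]; exact hΦ _ h3⟩
    xe := fxe
    xz := fxz
    xu := fxu
    k0 := k0
    k2 := k2
    k3 := k3
    hN := fun a ha => by obtain ⟨a, rfl⟩ := hrep a ha; rw [hcoe]; exact embN _
    he := by rw [hcoe, ← map_pow]; exact cn he
    hz := by rw [hcoe, ← map_pow]; exact cn hz
    hu := by rw [hcoe]; exact cn hu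
    hσ := hσ
    σe := by rw [σemb]; exact cn αe
    σz := by rw [σemb, ← map_mul]; exact cn αz
    σu := by rw [σemb]; exact cn αu
    ucent := fun g hg => by
      obtain ⟨g, rfl⟩ := hrep g hg
      rw [← map_commutatorElement]
      have h1 := mem_map_of_mem emb (ucent g)
      rwa [← agemo_map, ← MonoidHom.range_eq_map,
        show emb.range = N by rw [hemb, inclusion_range]] at h1 }

/-- Three generators. -/
theorem extract_three [Finite S] (hp5 : 5 ≤ p) (hS : IsPGroup p S) (hF : F.IsSaturated p)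
    (hsr : SectionalPRankLE p 3 S) (hE : F.IsEssential p E) (hrk : (frattini E).index = p ^ 3)
    {M : Subgroup Ω} (hM : M = normalizerIn S E) : RegAt p E M ∨ PairAt F p E M := by
  subst hM
  have hES : E ≤ S := hE.1.1
  haveI := finite_of_le hES
  have hMS : normalizerIn S E ≤ S := inf_le_left
  haveI : Finite (normalizerIn S E) := finite_of_le hMS
  have hMp : IsPGroup p (normalizerIn S E) := hS.to_le hMS
  obtain ⟨x, hx, hidx, hsh⟩ := essential_shape hp5 hS hF hsr hE hrk hES
  set ι : ↥(E.subgroupOf (normalizerIn S E)) ≃* E := subgroupOfEquivOfLe (le_normalizerIn hES)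
  obtain ⟨n, hn⟩ := hMp x
  rcases hsh with ⟨e, t, z, hyp, xe, xt, xz, irr⟩ |
    ⟨e, z, u, τ', k', hyp, hτ', hτm, xe, xz, xu, τe, τz, τu, torus⟩
  · left
    have hom := hyp.reg ((F.autGroup E).map (toN hES) : Set (MulAut (E.subgroupOf (normalizerIn S E))))
      (τ := MulAut.conjNormal x) (k := n) (by rw [← map_pow, hn, map_one]) xe xt xz irr
    have d : RegData p (E.subgroupOf (normalizerIn S E)) x e t z :=
      ⟨hMp, hp5, hidx, hx, hyp, xe, xt, xz, hom⟩
    refine ⟨inferInstance, x, e, t, z, d, powerful_orders hyp.pgroup hp5 hom (fun e0 => ?_) _ irr⟩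
    have h1 := hyp.index
    rw [e0, index_top] at h1
    exact (Nat.one_lt_pow (by norm_num) hp.out.one_lt).ne h1
  · right
    obtain ⟨α, hα, rfl⟩ := hτm
    obtain ⟨lcs, ucent⟩ := hyp.pair (τ := MulAut.conjNormal x) (k := n)
      (by rw [← map_pow, hn, map_one]) hτ' xe xz xu τe τz τu
    obtain ⟨k, k0, k2, k3, -⟩ := exists_scalar (p := p) hp5
    obtain ⟨h0, hh0, hn0, he, hz, hu⟩ := torus k k0
    have ιN : ∀ (β : MulAut E) (a : E.subgroupOf (normalizerIn S E)), ι (toN hES β a) = β (ι a) :=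
      fun β a => ι.apply_symm_apply _
    have cx : ∀ a : E.subgroupOf (normalizerIn S E),
        ι (MulAut.conjNormal x a) = E.normalizerMonoidHom ⟨x, x.2.2⟩ (ι a) := fun a => by
      rw [conjNormal_eq_toN hES, ιN]
    have hfin : Finite ↥(E.subgroupOf (normalizerIn S E)) := inferInstance
    obtain ⟨h, σ, hh, hσ, d⟩ := mk_td hp5 hS hF hE.2.1 hES (x := x) (e := ι e) (z := ι z) (u := ι u)
      (α := α) (h0 := h0) (fun hm => hx (mem_subgroupOf.2 hm)) hidx k0 k2 k3
      (by
        have h1 := congrArg (Subgroup.map ι.toMonoidHom) hyp.gen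
        rwa [Subgroup.map_sup, MonoidHom.map_closure, frattini_map_iso, Subgroup.map_top_of_surjective _
          ι.surjective, Set.image_insert_eq, Set.image_insert_eq, Set.image_singleton] at h1)
      (fun i j l hl => by
        rw [← frattini_map_iso ι, ← map_pow, ← map_pow, ← map_pow, ← map_mul, ← map_mul] at hl
        obtain ⟨h1, h2, h3⟩ := hyp.indep ((mem_map_iff_mem (f := ι.toMonoidHom) ι.injective).1 hl)
        refine ⟨h1, h2, ?_⟩
        obtain ⟨q, rfl⟩ := (ZMod.natCast_eq_zero_iff l p).1 h3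
        rw [pow_mul]
        exact pow_mem (Core.pow_mem_frattini (hS.to_le hES) _) q)
      (by rw [← cx, ← map_mul]; exact cg_map ι xe) (by rw [← cx]; exact cg_map ι xz)
      (by rw [← cx]; exact cg_map ι xu) (by rw [← ιN]; exact cg_map ι τe)
      (by rw [← ιN, ← map_mul]; exact cg_map ι τz) (by rw [← ιN]; exact cg_map ι τu) hh0 hn0
      (by rw [← ιN, ← map_pow]; exact cg_map ι he) (by rw [← ιN, ← map_pow]; exact cg_map ι hz)
      (by rw [← ιN]; exact cg_map ι hu)
      (fun g => by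
        obtain ⟨g, rfl⟩ := ι.surjective g
        rw [← map_commutatorElement]
        have h1 := mem_map_of_mem ι.toMonoidHom (ucent g)
        rwa [← agemo_map, Subgroup.map_top_of_surjective _ ι.surjective] at h1)
    have hrank : ∀ (K : Subgroup (normalizerIn S E)) [K.Normal],
        PRankLE p 3 (normalizerIn S E ⧸ K) := fun K _ =>
      rank_of_injective hsr (inclusion hMS) (inclusion_injective hMS) K
    have hu0 : ∀ l : ℕ, inclusion (le_normalizerIn hES) (ι u) ^ l ∈
        Phi p (E.subgroupOf (normalizerIn S E)) → (l : ZMod p) = 0 := fun l hl => by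
      rw [← phi_eq hyp.pgroup] at hl
      have h1 : u ^ l ∈ frattini (E.subgroupOf (normalizerIn S E)) :=
        (mem_map_iff_mem (Subgroup.subtype_injective (E.subgroupOf (normalizerIn S E)))).1 hl
      exact (hyp.indep (i := 0) (j := 0) (l := l) (by rwa [pow_zero, pow_zero, one_mul, one_mul])).2.2
    obtain ⟨x1, d1, he1⟩ := d.exists_eig
    obtain ⟨e', z', d2, he2, t2⟩ := d1.layer_two he1
    have hu0' : ∀ i j l : ℕ, e' ^ i * z' ^ j * inclusion (le_normalizerIn hES) (ι u) ^ l ∈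
        Phi p (E.subgroupOf (normalizerIn S E)) → (l : ZMod p) = 0 := fun i j l hl =>
      hu0 l (d2.indep i j l hl).2.2
    exact ⟨h, σ, k, x1, e', z', _, hh, d2,
      d2.pair_exact he2 (d2.pair_class he2 t2 hrank hu0') hu0', hu0, α, hα, hσ⟩

set_option maxHeartbeats 800000 in
/-- Two generators. -/
theorem extract_two [Finite S] (hp5 : 5 ≤ p) (hS : IsPGroup p S) (hF : F.IsSaturated p)
    (hsr : SectionalPRankLE p 3 S) (hE : F.IsEssential p E) (hrk : (frattini E).index = p ^ 2)
    {M : Subgroup Ω} (hM : M = normalizerIn S E) :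
    (E.subgroupOf M).index = p ∧ (IsPearl p (E.subgroupOf M) ∨ Twisted p (E.subgroupOf M)) := by
  subst hM
  classical
  have hES : E ≤ S := hE.1.1
  haveI := finite_of_le hES
  haveI : Finite (MulAut E) := Finite.of_injective _ MulEquiv.toEquiv_injective
  have hMS : normalizerIn S E ≤ S := inf_le_left
  haveI : Finite (normalizerIn S E) := finite_of_le hMS
  have hMp : IsPGroup p (normalizerIn S E) := hS.to_le hMS
  have hEp : IsPGroup p E := hS.to_le hES
  obtain ⟨hc, hfn, -, -⟩ := id hE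
  obtain ⟨m, hm⟩ := IsPGroup.iff_card.1 hEp
  obtain ⟨hqc, hqe⟩ := FGS.frattini_quotient_props hm
  letI : CommGroup (E ⧸ frattini E) :=
    { (inferInstance : Group (E ⧸ frattini E)) with mul_comm := hqc }
  set q := QuotientGroup.mk' (frattini E) with hq
  have hqeq : ∀ a b : E, q a = q b → Cg a b := fun a b hab => QuotientGroup.eq.1 hab
  have hchar : ∀ β : MulAut E, (frattini E).map (β : E →* E) = frattini E := fun β =>
    Subgroup.characteristic_iff_map_eq.mp frattini_characteristic β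
  let φ : F.autGroup E →* MulAut (E ⧸ frattini E) := MonoidHom.mk'
    (fun β => QuotientGroup.congr _ _ (β : MulAut E) (hchar β))
    (fun β γ => MulEquiv.ext fun y => by obtain ⟨a, rfl⟩ := QuotientGroup.mk'_surjective _ y; rfl)
  have hφ : ∀ (β : F.autGroup E) (a : E), φ β (q a) = q ((β : MulAut E) a) := fun β a => rfl
  haveI hIn : (innIn F E).Normal := innIn_normal F E
  obtain ⟨-, R, hR⟩ := fullyAutomized_of_fullyNormalized hS hF hfn
  have hkerp : IsPGroup p φ.ker := by
    have hd := FGS.card_dvd_of_trivial_on_frattini_quotient hm hrk (φ.ker.map (F.autGroup E).subtype) (by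
      rintro _ ⟨β, hβ, rfl⟩ a
      have h1 : φ β (q a) = q a := by rw [(hβ : φ β = 1)]; rfl
      rw [hφ] at h1
      rw [← QuotientGroup.eq_one_iff]
      show q ((β : MulAut E) a * a⁻¹) = 1
      rw [map_mul, map_inv, h1, mul_inv_cancel])
    rw [card_map_of_injective (F.autGroup E).subtype_injective] at hd
    obtain ⟨j, -, hj⟩ := (Nat.dvd_prime_pow hp.out).1 hd
    exact IsPGroup.of_card hj
  have hcore : ∀ K : Subgroup (F.autGroup E), K.Normal → IsPGroup p K → K ≤ innIn F E := by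
    intro K hK hKp β hβ
    have h1 := (essential_radical hS hF hE).2
    rw [innIn, mem_subgroupOf, ← h1]
    exact mem_map_of_mem _ (Core.le_pCore hKp hβ)
  have hker : φ.ker ≤ innIn F E := hcore _ inferInstance hkerp
  have hinn : innIn F E ≤ φ.ker := fun β hβ => by
    obtain ⟨g, hg⟩ := mem_subgroupOf.1 hβ
    refine MulEquiv.ext fun y => ?_
    obtain ⟨a, rfl⟩ := QuotientGroup.mk'_surjective _ y
    rw [hφ, MulAut.one_apply]
    have hga : (β : MulAut E) a = g * a * g⁻¹ := by rw [show (β : MulAut E) = _ from hg.symm]; rfl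
    rw [hga, map_mul, map_mul, map_inv, hqc (q g), mul_inv_cancel_right]
  have hθ : ∀ y : normalizerIn S E, E.normalizerMonoidHom ⟨y, y.2.2⟩ ∈ autInducedBy S E := fun y =>
    mem_autInducedBy_iff.2 ⟨y, y.2.1, y.2.2, fun a ha => apl_normalizerMonoidHom ⟨(y : Ω), y.2.2⟩ ha⟩
  let th : normalizerIn S E →* F.autGroup E :=
    (E.normalizerMonoidHom.comp (Subgroup.inclusion inf_le_right)).codRestrict _ (fun y =>
      autInducedBy_le_autGroup hES (hθ y))
  have hthR : ∀ γ : F.autGroup E, (γ : MulAut E) ∈ autInducedBy S E → ∃ y, th y = γ := fun γ hγ => by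
    obtain ⟨g, hg, hgn, hgx⟩ := mem_autInducedBy_iff.1 hγ
    exact ⟨⟨g, hg, hgn⟩, Subtype.ext (apl_ext fun a ha => by
      rw [hgx a ha]; exact apl_normalizerMonoidHom ⟨g, hgn⟩ ha)⟩
  have hth1 : ∀ y : normalizerIn S E, φ (th y) = 1 → (y : Ω) ∈ E := fun y hy =>
    mem_of_conj_mem_inn (centric_self hc) hES y.2.1
      (fun a ha => apl_normalizerMonoidHom ⟨(y : Ω), y.2.2⟩ ha) (mem_subgroupOf.1 (hker hy))
  -- an outer element
  obtain ⟨y0, hy0⟩ : ∃ y : normalizerIn S E, (y : Ω) ∉ E := by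
    by_contra! hall
    have hdiv : p ∣ Nat.card (F.autGroup E ⧸ innIn F E) := by
      obtain ⟨-, -, hn, E0, hE0⟩ := id hE
      exact hE0.1
    have hle : (R : Subgroup (F.autGroup E)) ≤ innIn F E := fun γ hγ => by
      rw [hR, mem_subgroupOf] at hγ
      obtain ⟨y, rfl⟩ := hthR γ hγ
      rw [innIn, mem_subgroupOf, inn_eq_autInducedBy, mem_autInducedBy_iff]
      exact ⟨y, hall y, y.2.2, fun a ha => apl_normalizerMonoidHom ⟨(y : Ω), y.2.2⟩ ha⟩
    exact R.not_dvd_index ((Dvd.dvd.trans (index_eq_card (innIn F E) ▸ hdiv)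
      (index_dvd_of_le hle)))
  have hu1 : φ (th y0) ≠ 1 := fun e0 => hy0 (hth1 y0 e0)
  have hy0R : th y0 ∈ (R : Subgroup (F.autGroup E)) := by
    rw [hR, mem_subgroupOf]; exact hθ y0
  obtain ⟨v1, v2, T⟩ := RankTwoResist.exists_torus (p := p) (V := E ⧸ frattini E) hqe
    (by rw [← index_eq_card, hrk]) (φ := φ) R.2 hy0R hu1 (fun K hK hKexp hmem => hu1 (hinn (hcore K hK
      (fun a => by
        obtain ⟨i, hi⟩ := hkerp ⟨(a : F.autGroup E) ^ p, show φ ((a : F.autGroup E) ^ p) = 1 by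
          rw [map_pow]; exact hKexp _ a.2⟩
        refine ⟨i + 1, Subtype.ext ?_⟩
        have h1 := congrArg Subtype.val hi
        rw [SubmonoidClass.coe_pow, OneMemClass.coe_one, ← pow_mul, ← pow_succ'] at h1
        rw [SubmonoidClass.coe_pow]
        exact h1) hmem)))
  obtain ⟨c, hc0, huc⟩ := T.moved
  obtain ⟨e, he⟩ := QuotientGroup.mk'_surjective (frattini E) v2
  obtain ⟨z, hz⟩ := QuotientGroup.mk'_surjective (frattini E) (v1 ^ c)
  have hfixz : ∀ γ : F.autGroup E, γ ∈ (R : Subgroup (F.autGroup E)) → φ γ (q z) = q z := fun γ hγ => by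
    rw [show q z = v1 ^ c from hz, map_zpow, (T.fix γ hγ).1]
  have hez : q e ≠ 1 := fun e0 => T.indep (by rw [← he]; exact e0 ▸ one_mem _)
  have hzne : q z ∉ zpowers (q e) := by
    rintro ⟨i, hi⟩
    have hi' : v2 ^ i = v1 ^ c := by rw [← he, ← hz]; exact hi
    have hi0 : (i : ZMod p) = 0 := by
      by_contra hne
      exact T.indep (RankTwoResist.zpow_mem_cancel (hqe v2) hne (hi' ▸ zpow_mem (mem_zpowers v1) c))
    rw [RankTwoResist.zpow_eq_one_of_cast (hqe v2) hi0] at hi'
    exact hc0 ((RankTwoResist.zpow_eq_one_iff (hqe v1) T.ne_one).1 hi'.symm)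
  -- the transvection of `y0`
  have x1 : φ (th y0) (q e) = q e * q z := by
    rw [show q e = v2 from he, show q z = v1 ^ c from hz]; exact huc
  have x2 : φ (th y0) (q z) = q z := hfixz _ hy0R
  have hpowx : ∀ i : ℕ, φ (th y0 ^ i) (q e) = q e * q z ^ i ∧ φ (th y0 ^ i) (q z) = q z := fun i => by
    induction i with
    | zero => simp
    | succ i ih =>
      rw [pow_succ', map_mul, MulAut.mul_apply, MulAut.mul_apply, ih.1, ih.2, map_mul, map_pow, x1, x2,
        mul_assoc, ← pow_succ']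
      exact ⟨rfl, rfl⟩
  have hzp1 : q z ^ p = 1 := hqe _
  haveI : NeZero p := ⟨hp.out.ne_zero⟩
  have hTgen : ∀ γ : F.autGroup E, γ ∈ (R : Subgroup (F.autGroup E)) →
      ∃ i : ℕ, φ γ = φ (th y0 ^ i) := by
    intro γ hγ
    obtain ⟨-, j, hj⟩ := T.fix γ hγ
    refine ⟨((j : ZMod p) * (c : ZMod p)⁻¹).val, ?_⟩
    have h2 : φ γ (q e) = q e * q z ^ ((j : ZMod p) * (c : ZMod p)⁻¹).val := by
      rw [show q e = v2 from he, show q z = v1 ^ c from hz, hj, ← zpow_natCast, ← zpow_mul]
      refine congrArg (v2 * ·) (RankTwoResist.zcongr (hqe v1) ?_)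
      push_cast
      rw [ZMod.natCast_zmod_val, mul_comm (c : ZMod p), mul_assoc, inv_mul_cancel₀ hc0, mul_one]
    refine MulEquiv.ext fun y => ?_
    obtain ⟨i, l, rfl⟩ := RankTwoResist.plane_span hqe (by rw [← index_eq_card, hrk]) hez hzne y
    rw [map_mul, map_mul, map_zpow, map_zpow, map_zpow, map_zpow, h2, hfixz γ hγ, (hpowx _).1,
      (hpowx _).2]
  have hker2 : ∀ y : normalizerIn S E, φ (th y) = 1 ↔ (y : Ω) ∈ E := fun y =>
    ⟨hth1 y, fun hy => hinn (by
      rw [innIn, mem_subgroupOf, inn_eq_autInducedBy, mem_autInducedBy_iff]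
      exact ⟨y, hy, y.2.2, fun a ha => apl_normalizerMonoidHom ⟨(y : Ω), y.2.2⟩ ha⟩)⟩
  have hidx : (E.subgroupOf (normalizerIn S E)).index = p := by
    set π := QuotientGroup.mk' (E.subgroupOf (normalizerIn S E)) with hπ
    have hπ1 : ∀ y, π y = 1 ↔ φ (th y) = 1 := fun y =>
      (QuotientGroup.eq_one_iff y).trans (mem_subgroupOf.trans (hker2 y).symm)
    have htop : zpowers (π y0) = ⊤ := top_le_iff.1 fun w _ => by
      obtain ⟨y, rfl⟩ := QuotientGroup.mk'_surjective _ w
      obtain ⟨i, hi⟩ := hTgen (th y) (by rw [hR, mem_subgroupOf]; exact hθ y)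
      refine ⟨i, ?_⟩
      show π y0 ^ (i : ℤ) = π y
      rw [zpow_natCast, ← map_pow, ← inv_mul_eq_one, ← map_inv, ← map_mul, hπ1, map_mul, map_inv,
        map_mul, map_inv, map_pow th, hi, inv_mul_cancel]
    have hord : orderOf (π y0) = p := by
      refine orderOf_eq_prime ?_ fun e0 => hu1 ((hπ1 y0).1 e0)
      rw [← map_pow, hπ1, map_pow]
      refine MulEquiv.ext fun y => ?_
      obtain ⟨i, l, rfl⟩ := RankTwoResist.plane_span hqe (by rw [← index_eq_card, hrk]) hez hzne y
      rw [MulAut.one_apply, map_mul, map_zpow, map_zpow, (hpowx p).1, (hpowx p).2, hzp1, mul_one]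
    rw [index_eq_card, ← card_top, ← htop, Nat.card_zpowers, hord]
  -- the opposite transvection and the torus element
  obtain ⟨aswap, haswap⟩ := T.swap
  obtain ⟨kk, hkk⟩ := R.2 ⟨th y0, hy0R⟩
  have hkk' : th y0 ^ p ^ kk = 1 := congrArg Subtype.val hkk
  obtain ⟨a', ha1, ha2⟩ := RankTwoResist.exists_transvection (φ := φ) hqe
    (by rw [← index_eq_card, hrk]) (g := aswap * th y0 * aswap⁻¹) (k := kk)
    (by rw [← map_pow, conj_pow, hkk', mul_one, mul_inv_cancel, map_one])
    (fun e0 => hu1 (by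
      rw [map_mul, map_mul, map_inv] at e0
      exact conj_eq_one_iff.1 e0)) (v := q e) (w := q z) hez hzne (by
      rw [map_mul, map_mul, map_inv, show q e = v2 from he, ← haswap, MulAut.mul_apply, MulAut.mul_apply,
        MulAut.inv_apply_self, (T.fix _ hy0R).1]) 1
  obtain ⟨k, k0, k2, k3, -⟩ := exists_scalar (p := p) hp5
  obtain ⟨hk, hk1, hk2⟩ := T.torus (k.val : ℤ) (k⁻¹.val : ℤ) (by
    push_cast; rw [ZMod.natCast_zmod_val, ZMod.natCast_zmod_val, mul_inv_cancel₀ k0])
  have hkz : φ hk (q z) = q z ^ k.val := by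
    rw [show q z = v1 ^ c from hz, map_zpow, hk1, ← zpow_natCast, ← zpow_mul, ← zpow_mul, mul_comm]
  have hke : φ hk (q e) = q e ^ k⁻¹.val := by
    rw [show q e = v2 from he, hk2, zpow_natCast]
  have hnorm : ∀ γ ∈ autInducedBy S E, (hk : MulAut E) * γ * (hk : MulAut E)⁻¹ ∈ autInducedBy S E := by
    intro γ hγ
    set g : F.autGroup E := ⟨γ, autInducedBy_le_autGroup hES hγ⟩
    have hgR : g ∈ (R : Subgroup (F.autGroup E)) := by rw [hR, mem_subgroupOf]; exact hγ
    obtain ⟨i, hi⟩ := hTgen g hgR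
    obtain ⟨j, hj⟩ : ∃ j : ℕ, φ (hk * g * hk⁻¹) = φ (th y0 ^ j) := by
      refine ⟨(k * k).val * i, MulEquiv.ext fun y => ?_⟩
      obtain ⟨y, rfl⟩ := (φ hk).surjective y
      have e1 : φ hk (φ g (q e)) = φ (th y0 ^ ((k * k).val * i)) (φ hk (q e)) := by
        rw [hi, (hpowx i).1, map_mul (φ hk), map_pow (φ hk), hkz, hke,
          map_pow (φ (th y0 ^ ((k * k).val * i))) (q e), (hpowx _).1, mul_pow, ← pow_mul, ← pow_mul]
        refine congrArg (q e ^ k⁻¹.val * ·) (pow_eq_pow_of_cast hzp1 ?_)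
        simp only [Nat.cast_mul, ZMod.natCast_zmod_val]
        field_simp
      have e2 : φ hk (φ g (q z)) = φ (th y0 ^ ((k * k).val * i)) (φ hk (q z)) := by
        rw [hi, (hpowx i).2, hkz, map_pow (φ (th y0 ^ ((k * k).val * i))) (q z), (hpowx _).2]
      have e0 : φ (hk * g * hk⁻¹) (φ hk y) = φ hk (φ g y) := by
        rw [map_mul φ, map_mul φ, map_inv φ, MulAut.mul_apply, MulAut.mul_apply, MulAut.inv_apply_self]
      rw [e0]
      obtain ⟨r, l, rfl⟩ := RankTwoResist.plane_span hqe (by rw [← index_eq_card, hrk]) hez hzne y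
      simp only [map_mul (φ g), map_zpow (φ g), map_mul (φ hk), map_zpow (φ hk), e1, e2,
        map_mul (φ (th y0 ^ ((k * k).val * i))), map_zpow (φ (th y0 ^ ((k * k).val * i)))]
    have h1 : (th y0 ^ j)⁻¹ * (hk * g * hk⁻¹) ∈ innIn F E := hker (by
      rw [MonoidHom.mem_ker, map_mul, map_inv, hj, inv_mul_cancel])
    have hmem : ((th y0 ^ j : F.autGroup E) : MulAut E) ∈ autInducedBy S E := by
      rw [SubmonoidClass.coe_pow]
      exact pow_mem (hθ y0) j
    have h2 := mul_mem hmem (inn_le_autInducedBy hES (mem_subgroupOf.1 h1))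
    rwa [← Subgroup.coe_mul, mul_inv_cancel_left] at h2
  obtain ⟨h, σ, hh, -, d⟩ := mk_td hp5 hS hF hfn hES (x := y0) (e := e) (z := z) (u := 1)
    (α := (a' : MulAut E)) (h0 := (hk : MulAut E)) hy0 hidx k0 k2 k3
    (by
      refine top_le_iff.1 fun a _ => ?_
      obtain ⟨i, l, hil⟩ := RankTwoResist.plane_span hqe (by rw [← index_eq_card, hrk]) hez hzne (q a)
      have h1 : (e ^ i * z ^ l)⁻¹ * a ∈ frattini E := hqeq _ _ (by
        rw [map_mul, map_zpow, map_zpow, hil])
      have h2 := mul_mem (mem_sup_left (mul_mem (zpow_mem (Subgroup.subset_closure (by simp)) i)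
        (zpow_mem (Subgroup.subset_closure (by simp)) l)) :
          e ^ i * z ^ l ∈ closure ({e, z, 1} : Set E) ⊔ frattini E) (mem_sup_right h1)
      rwa [mul_inv_cancel_left] at h2)
    (fun i j l hl => by
      rw [one_pow, mul_one] at hl
      have h1 : q e ^ i * q z ^ j = 1 := by
        rw [← map_pow, ← map_pow, ← map_mul]; exact (QuotientGroup.eq_one_iff _).2 hl
      have hj0 : (j : ZMod p) = 0 := by
        by_contra hne
        refine hzne (RankTwoResist.zpow_mem_cancel (hqe _) (k := (j : ℤ)) (by simpa using hne) ?_)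
        rw [zpow_natCast, eq_inv_of_mul_eq_one_right h1]
        exact inv_mem (pow_mem (mem_zpowers _) i)
      refine ⟨?_, hj0, by rw [one_pow]; exact one_mem _⟩
      rw [pow_eq_pow_of_cast (hqe (q z)) (b := 0) (by rw [hj0, Nat.cast_zero]), pow_zero, mul_one,
        ← zpow_natCast, RankTwoResist.zpow_eq_one_iff (hqe _) hez] at h1
      simpa using h1)
    (hqeq _ _ ((hφ (th y0) e).symm.trans (x1.trans (map_mul q e z).symm)))
    (hqeq _ _ ((hφ (th y0) z).symm.trans x2))
    (hqeq _ _ (by rw [map_one]))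
    (hqeq _ _ ((hφ a' e).symm.trans ha1))
    (hqeq _ _ ((hφ a' z).symm.trans (by rw [ha2, zpow_one, map_mul])))
    (hqeq _ _ (by rw [map_one])) hk.2 hnorm
    (hqeq _ _ ((hφ hk e).symm.trans (by rw [hke, map_pow])))
    (hqeq _ _ ((hφ hk z).symm.trans (by rw [hkz, map_pow])))
    (hqeq _ _ (by rw [map_one]))
    (fun g => by rw [commutatorElement_one_left]; exact one_mem _)
  rw [map_one] at d
  have hrank : ∀ (K : Subgroup (normalizerIn S E)) [K.Normal],
      PRankLE p 3 (normalizerIn S E ⧸ K) := fun K _ =>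
    rank_of_injective hsr (inclusion hMS) (inclusion_injective hMS) K
  obtain ⟨x1', d1, he1⟩ := d.exists_eig
  obtain ⟨e', z', d2, he2, t2⟩ := d1.layer_two he1
  exact ⟨d2.index, d2.two_cases he2 t2 hrank⟩

end Cfsg.Agent.RankThreeEss.Pearl
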