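import Cfsg.Agent.RankThreeEss.Tools

/-!
A group of automorphisms of an elementary group of order `p³` whose Sylow subgroup is generated by a
transvection keeps the common fixed line of that transvection and an opposite one.
-/

set_option autoImplicit false
set_option linter.style.haveILetI false

namespace Cfsg.Agent.RankThreeEss.Pearl

open Subgroup

variable {p : ℕ} [hp : Fact p.Prime] {V : Type*} [CommGroup V]

omit hp in
theorem pow_moves {α : MulAut V} {v w : V} (hv : α v = v * w) (hw : α w = w) (n : ℕ) :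
    (α ^ n) v = v * w ^ n := by
  induction n with
  | zero => simp
  | succ n ih => rw [pow_succ', MulAut.mul_apply, ih, map_mul, hv, map_pow, hw, mul_assoc, ← pow_succ']

/-- The fixed line is invariant. -/
theorem line_invariant (hexp : ∀ v : V, v ^ p = 1) {A : Subgroup (MulAut V)} {τ τ' : MulAut V}
    (hτA : τ ∈ A) (hτ'A : τ' ∈ A)
    (hT : ∀ W : Subgroup (MulAut V), W ≤ A → IsPGroup p W → zpowers τ ≤ W → W ≤ zpowers τ)
    {e z u : V} (gen : ∀ v : V, ∃ i j l : ℕ, v = e ^ i * z ^ j * u ^ l)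
    (indep : ∀ i j l : ℕ, e ^ i * z ^ j * u ^ l = 1 →
      (i : ZMod p) = 0 ∧ (j : ZMod p) = 0 ∧ (l : ZMod p) = 0)
    (τe : τ e = e * z) (τz : τ z = z) (τu : τ u = u)
    (τ'e : τ' e = e) (τ'z : τ' z = z * e) (τ'u : τ' u = u) :
    ∀ γ ∈ A, γ u ∈ zpowers u := by
  haveI : NeZero p := ⟨hp.out.ne_zero⟩
  set H : Subgroup V := τ.toMonoidHom.eqLocus (MonoidHom.id V) with hH
  have memH : ∀ v, v ∈ H ↔ τ v = v := fun v => Iff.rfl
  have hzH : z ∈ H := (memH z).2 τz
  have hpw : ∀ (v : V) (m : ℕ), (m : ZMod p) = 0 → v ^ m = 1 := fun v m hm => by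
    obtain ⟨q, rfl⟩ := (ZMod.natCast_eq_zero_iff m p).1 hm
    rw [pow_mul, hexp, one_pow]
  have hτv : ∀ i j l : ℕ, τ (e ^ i * z ^ j * u ^ l) = e ^ i * z ^ j * u ^ l * z ^ i := fun i j l => by
    rw [map_mul, map_mul, map_pow, map_pow, map_pow, τe, τz, τu, mul_pow]
    ac_rfl
  have coordH : ∀ v ∈ H, ∃ j l : ℕ, v = z ^ j * u ^ l := by
    intro v hv
    obtain ⟨i, j, l, rfl⟩ := gen v
    have h1 := (memH _).1 hv
    rw [hτv, mul_eq_left] at h1
    have h2 := (indep 0 i 0 (by rw [pow_zero, pow_zero, one_mul, mul_one, h1])).2.1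
    exact ⟨j, l, by rw [hpw e i h2, one_mul]⟩
  have hline : ∀ v, τ v * v⁻¹ ∈ zpowers z := fun v => by
    obtain ⟨i, j, l, rfl⟩ := gen v
    rw [hτv, mul_comm _ (z ^ i), mul_inv_cancel_right]
    exact pow_mem (mem_zpowers z) i
  let L : Subgroup (MulAut V) :=
    { carrier := {t | (∀ v ∈ H, t v = v) ∧ ∀ v, t v * v⁻¹ ∈ zpowers z}
      one_mem' := ⟨fun _ _ => rfl, fun v => by rw [MulAut.one_apply, mul_inv_cancel]; exact one_mem _⟩
      mul_mem' := fun {a b} ha hb => ⟨fun v hv => by rw [MulAut.mul_apply, hb.1 v hv, ha.1 v hv],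
        fun v => by
          have := mul_mem (ha.2 (b v)) (hb.2 v)
          rwa [mul_assoc, inv_mul_cancel_left, ← MulAut.mul_apply] at this⟩
      inv_mem' := fun {a} ha => ⟨fun v hv => by
          conv_lhs => rw [← ha.1 v hv]
          rw [MulAut.inv_apply_self],
        fun v => by
          have := inv_mem (ha.2 (a⁻¹ v))
          rwa [MulAut.apply_inv_self, mul_inv_rev, inv_inv] at this⟩ }
  have hleL : zpowers τ ≤ L := zpowers_le.2 ⟨fun v hv => hv, hline⟩
  have hTL : ∀ t ∈ zpowers τ, (∀ v ∈ H, t v = v) ∧ ∀ v, t v * v⁻¹ ∈ zpowers z := fun t ht =>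
    hleL ht
  have hτp : τ ^ p = 1 := by
    refine MulEquiv.ext fun v => ?_
    have h1 : τ (τ v * v⁻¹) = τ v * v⁻¹ := by
      obtain ⟨i, hi⟩ := mem_zpowers_iff.1 (hline v)
      rw [← hi, map_zpow, τz]
    rw [pow_moves (w := τ v * v⁻¹) (by rw [mul_comm v, inv_mul_cancel_right]) h1, hexp, mul_one]
    rfl
  -- conjugates whose centre lies in the axis
  have claim : ∀ γ ∈ A, γ z ∈ H → γ * τ * γ⁻¹ ∈ zpowers τ := by
    intro γ hγ hγz
    set q := γ * τ * γ⁻¹ with hq
    have qA : q ∈ A := A.mul_mem (A.mul_mem hγ hτA) (A.inv_mem hγ)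
    have hcen : ∀ t ∈ zpowers τ, ∀ v, γ (t (γ⁻¹ v)) * v⁻¹ ∈ zpowers (γ z) := by
      intro t ht v
      obtain ⟨i, hi⟩ := mem_zpowers_iff.1 ((hTL t ht).2 (γ⁻¹ v))
      refine ⟨i, ?_⟩
      show (γ z) ^ i = _
      rw [← map_zpow, hi, map_mul, map_inv, MulAut.apply_inv_self]
    have hqv : ∀ v, q v * v⁻¹ ∈ zpowers (γ z) := fun v => hcen τ (mem_zpowers τ) v
    have hqv' : ∀ v, q⁻¹ v * v⁻¹ ∈ zpowers (γ z) := fun v => by
      have e1 : q⁻¹ = γ * τ⁻¹ * γ⁻¹ := by rw [hq]; group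
      rw [e1]
      exact hcen τ⁻¹ (inv_mem (mem_zpowers τ)) v
    have hcH : zpowers (γ z) ≤ H := zpowers_le.2 hγz
    have hqH : ∀ v ∈ H, q v ∈ H ∧ q⁻¹ v ∈ H := fun v hv => by
      constructor
      · have := mul_mem (hcH (hqv v)) hv
        rwa [inv_mul_cancel_right] at this
      · have := mul_mem (hcH (hqv' v)) hv
        rwa [inv_mul_cancel_right] at this
    let W : Subgroup (MulAut V) :=
      { carrier := {t | t ∈ A ∧ (∀ v ∈ H, t v = v) ∧ ∀ v, t v * v⁻¹ ∈ H}
        one_mem' := ⟨one_mem _, fun _ _ => rfl, fun v => by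
          rw [MulAut.one_apply, mul_inv_cancel]; exact one_mem _⟩
        mul_mem' := fun {a b} ha hb => ⟨mul_mem ha.1 hb.1,
          fun v hv => by rw [MulAut.mul_apply, hb.2.1 v hv, ha.2.1 v hv],
          fun v => by
            have := mul_mem (ha.2.2 (b v)) (hb.2.2 v)
            rwa [mul_assoc, inv_mul_cancel_left, ← MulAut.mul_apply] at this⟩
        inv_mem' := fun {a} ha => ⟨inv_mem ha.1, fun v hv => by
            conv_lhs => rw [← ha.2.1 v hv]
            rw [MulAut.inv_apply_self],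
          fun v => by
            have := inv_mem (ha.2.2 (a⁻¹ v))
            rwa [MulAut.apply_inv_self, mul_inv_rev, inv_inv] at this⟩ }
    have hW : IsPGroup p W := by
      rintro ⟨t, ht⟩
      refine ⟨1, Subtype.ext (MulEquiv.ext fun v => ?_)⟩
      show (t ^ p ^ 1) v = v
      rw [pow_one, pow_moves (w := t v * v⁻¹) (by rw [mul_comm v, inv_mul_cancel_right])
        (ht.2.1 _ (ht.2.2 v)), hexp, mul_one]
    have hτW : τ ∈ W := ⟨hτA, fun v hv => hv, fun v => zpowers_le.2 hzH (hline v)⟩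
    have hWT := hT W (fun _ ht => ht.1) hW (zpowers_le.2 hτW)
    have h2 : q * τ * q⁻¹ ∈ W := by
      refine ⟨A.mul_mem (A.mul_mem qA hτA) (A.inv_mem qA), fun v hv => ?_, fun v => ?_⟩
      · show q (τ (q⁻¹ v)) = v
        rw [(memH _).1 (hqH v hv).2, MulAut.apply_inv_self]
      · show q (τ (q⁻¹ v)) * v⁻¹ ∈ H
        obtain ⟨i, hi⟩ := mem_zpowers_iff.1 (hline (q⁻¹ v))
        rw [show q (τ (q⁻¹ v)) * v⁻¹ = q (z ^ i) by
          rw [hi, map_mul, map_inv, MulAut.apply_inv_self]]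
        exact (hqH _ (zpow_mem hzH i)).1
    have hqn : ∀ t ∈ zpowers τ, q * t * q⁻¹ ∈ zpowers τ := fun t ht => by
      obtain ⟨i, rfl⟩ := mem_zpowers_iff.1 ht
      rw [← conj_zpow]
      exact zpow_mem (hWT h2) i
    have hqp : q ^ p = 1 := by rw [hq, conj_pow, hτp, mul_one, mul_inv_cancel]
    let Nq : Subgroup (MulAut V) := zpowers τ ⊔ zpowers q
    have hzp : ∀ a : MulAut V, a ^ p = 1 → IsPGroup p (zpowers a) := fun a ha => by
      rintro ⟨t, ht⟩
      obtain ⟨i, rfl⟩ := mem_zpowers_iff.1 ht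
      refine ⟨1, Subtype.ext ?_⟩
      show (a ^ i) ^ p ^ 1 = 1
      rw [pow_one, ← zpow_natCast, ← zpow_mul, mul_comm, zpow_mul, zpow_natCast, ha, one_zpow]
    have hnorm : zpowers q ≤ Subgroup.normalizer (zpowers τ : Set (MulAut V)) := by
      refine zpowers_le.2 (Subgroup.mem_normalizer_iff.2 fun t => ⟨hqn t, fun ht => ?_⟩)
      have hinv : ∀ t ∈ zpowers τ, q⁻¹ * t * q⁻¹⁻¹ ∈ zpowers τ := fun t ht => by
        have hit : ∀ n : ℕ, q ^ n * t * (q ^ n)⁻¹ ∈ zpowers τ := fun n => by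
          induction n with
          | zero => simpa using ht
          | succ n ih =>
            have := hqn _ ih
            rwa [show q * (q ^ n * t * (q ^ n)⁻¹) * q⁻¹ = q ^ (n + 1) * t * (q ^ (n + 1))⁻¹ by
              rw [pow_succ']; group] at this
        have := hit (p - 1)
        rwa [show q ^ (p - 1) = q⁻¹ by
          rw [eq_inv_iff_mul_eq_one, ← pow_succ, Nat.sub_add_cancel hp.out.one_le, hqp]] at this
      have := hinv _ ht
      rwa [show q⁻¹ * (q * t * q⁻¹) * q⁻¹⁻¹ = t by group] at this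
    have hNp : IsPGroup p Nq := (hzp τ hτp).to_sup_of_normal_left' (hzp q hqp) hnorm
    exact (hT Nq (sup_le (zpowers_le.2 hτA) (zpowers_le.2 qA)) hNp le_sup_left)
      (mem_sup_right (mem_zpowers q))
  -- an axis through `z`
  have claim2 : ∀ γ ∈ A, τ (γ⁻¹ z) = γ⁻¹ z → ∀ v ∈ H, γ⁻¹ v ∈ H := by
    intro γ hγ hz' v hv
    have h1 := claim γ⁻¹ (A.inv_mem hγ) hz'
    have h2 := (hTL _ h1).2 (γ⁻¹ e)
    rw [inv_inv, MulAut.mul_apply, MulAut.mul_apply, MulAut.apply_inv_self, τe, map_mul, mul_comm,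
      inv_mul_cancel_left] at h2
    obtain ⟨r, hr⟩ := mem_zpowers_iff.1 h2
    have hr' : z = (γ z) ^ r := by rw [← map_zpow, hr, MulAut.apply_inv_self]
    have hγz : γ z ∈ zpowers z := by
      have hne : z ≠ 1 := fun e0 => one_ne_zero (α := ZMod p)
        (by simpa using (indep 0 1 0 (by simp [e0])).2.1)
      have ho : ∀ w : V, w ≠ 1 → orderOf w = p := fun w hw => orderOf_eq_prime (hexp w) hw
      have hne' : γ z ≠ 1 := fun e0 => hne (γ.injective (e0.trans (map_one γ).symm))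
      have heq : zpowers z = zpowers (γ z) := by
        haveI : Finite (zpowers (γ z)) := Nat.finite_of_card_ne_zero (by
          rw [Nat.card_zpowers, ho _ hne']; exact hp.out.ne_zero)
        refine eq_of_le_of_card_ge (zpowers_le.2 ⟨r, hr'.symm⟩) ?_
        rw [Nat.card_zpowers, Nat.card_zpowers, ho _ hne', ho _ hne]
      exact heq.symm ▸ mem_zpowers (γ z)
    have h3 := (hTL _ (claim γ hγ (zpowers_le.2 hzH hγz))).1 v hv
    refine (memH _).2 (γ.injective ?_)
    rw [MulAut.apply_inv_self]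
    exact h3
  -- every axis contains `u`
  have axes : ∀ γ ∈ A, γ⁻¹ u ∈ H := by
    intro γ hγ
    obtain ⟨a, ha⟩ := mem_zpowers_iff.1 (hline (γ⁻¹ e))
    obtain ⟨b, hb⟩ := mem_zpowers_iff.1 (hline (γ⁻¹ z))
    by_cases hb0 : (b : ZMod p) = 0
    · refine claim2 γ hγ ?_ u ((memH u).2 τu)
      rw [← mul_inv_eq_one, ← hb]
      obtain ⟨q, hq⟩ := (ZMod.intCast_zmod_eq_zero_iff_dvd b p).1 hb0
      rw [hq, zpow_mul, zpow_natCast, hexp, one_zpow]
    · set s : ZMod p := -(a : ZMod p) * (b : ZMod p)⁻¹ with hs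
      have hfix : τ (γ⁻¹ (e * z ^ s.val)) = γ⁻¹ (e * z ^ s.val) := by
        rw [← mul_inv_eq_one, map_mul, map_mul, map_pow, map_pow, mul_inv, mul_mul_mul_comm, ← inv_pow,
          ← mul_pow, ← ha, ← hb, ← zpow_natCast, ← zpow_mul, ← zpow_add]
        obtain ⟨q, hq⟩ := (ZMod.intCast_zmod_eq_zero_iff_dvd (a + b * s.val) p).1 (by
          push_cast
          rw [ZMod.natCast_zmod_val, hs]
          field_simp
          ring)
        rw [hq, zpow_mul, zpow_natCast, hexp, one_zpow]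
      set g := τ'⁻¹ * τ ^ (1 - s).val with hg
      have hgA : g ∈ A := A.mul_mem (A.inv_mem hτ'A) (A.pow_mem hτA _)
      have hgu : g⁻¹ u = u := by
        refine g.injective ?_
        rw [MulAut.apply_inv_self, hg, MulAut.mul_apply,
          show (τ ^ (1 - s).val) u = u by rw [pow_moves (w := (1 : V)) (by rw [mul_one, τu]) (map_one τ), one_pow, mul_one]]
        exact τ'.injective (by rw [MulAut.apply_inv_self, τ'u])
      have hgw : g (e * z ^ s.val) = z := by
        have e1 : (τ ^ (1 - s).val) (e * z ^ s.val) = e * z := by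
          rw [pow_moves (w := z) (by rw [map_mul, map_pow, τe, τz]; ac_rfl) τz, mul_assoc, ← pow_add,
            pow_eq_pow_of_cast (hexp z) (b := 1) (by
              push_cast; rw [ZMod.natCast_zmod_val, ZMod.natCast_zmod_val]; ring), pow_one]
        rw [hg, MulAut.mul_apply, e1]
        refine τ'.injective ?_
        rw [MulAut.apply_inv_self, τ'z, mul_comm]
      have h1 := claim2 (g * γ) (A.mul_mem hgA hγ) (by
        have hgi : g⁻¹ z = e * z ^ s.val := g.injective (by rw [MulAut.apply_inv_self, hgw])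
        rw [show (g * γ)⁻¹ z = γ⁻¹ (e * z ^ s.val) by
          rw [mul_inv_rev, MulAut.mul_apply, hgi]]
        exact hfix) u ((memH u).2 τu)
      rwa [mul_inv_rev, MulAut.mul_apply, hgu] at h1
  intro γ hγ
  have h1 := axes γ⁻¹ (A.inv_mem hγ)
  rw [inv_inv] at h1
  have h2 := axes (γ⁻¹ * τ') (A.mul_mem (A.inv_mem hγ) hτ'A)
  rw [mul_inv_rev, inv_inv, MulAut.mul_apply] at h2
  obtain ⟨j, l, hjl⟩ := coordH _ h1
  have h3 : τ'⁻¹ (γ u) = e ^ ((p - 1) * j) * z ^ j * u ^ l := by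
    refine τ'.injective ?_
    rw [MulAut.apply_inv_self, hjl, map_mul, map_mul, map_pow, map_pow, map_pow, τ'e, τ'z, τ'u, mul_pow,
      mul_left_comm, mul_assoc (z ^ j), ← pow_add, Nat.sub_one_mul, Nat.sub_add_cancel
        (Nat.le_mul_of_pos_left j hp.out.pos), pow_mul, hexp, one_pow, one_mul]
  rw [h3, memH, hτv, mul_eq_left] at h2
  have hj : (j : ZMod p) = 0 := by
    have := (indep 0 ((p - 1) * j) 0 (by rw [pow_zero, pow_zero, one_mul, mul_one, h2])).2.1
    rw [Nat.cast_mul, Nat.cast_sub hp.out.one_le, ZMod.natCast_self, Nat.cast_one, zero_sub,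
      neg_one_mul, neg_eq_zero] at this
    exact this
  rw [hjl, hpw z j hj, one_mul]
  exact pow_mem (mem_zpowers u) l

end Cfsg.Agent.RankThreeEss.Pearl
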