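import Cfsg.Agent.RankThreeEss.Pearl.Global
import Cfsg.Agent.RankThreeEss.Pearl.Line

/-!
The transvection case with an abelian maximal subgroup: the common fixed line.
-/

set_option autoImplicit false
set_option linter.style.haveILetI false

namespace Cfsg.Agent.RankThreeEss.Pearl

open Cfsg Cfsg.FusionSystem Cfsg.Agent.FusSys Subgroup
open scoped commutatorElement

universe u

section Groups

variable {G : Type*} [Group G]

/-- Coordinates in a group generated by two commuting elements. -/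
theorem coords_two {a b g : G} (hab : Commute a b) (hg : g ∈ closure ({a, b} : Set G)) :
    ∃ i j : ℤ, g = a ^ i * b ^ j := by
  induction hg using Subgroup.closure_induction with
  | mem y hy =>
    rcases hy with rfl | rfl
    · exact ⟨1, 0, by simp⟩
    · exact ⟨0, 1, by simp⟩
  | one => exact ⟨0, 0, by simp⟩
  | mul y w _ _ hy hw =>
    obtain ⟨i, j, rfl⟩ := hy
    obtain ⟨k, l, rfl⟩ := hw
    exact ⟨i + k, j + l, by rw [zpow_add, zpow_add, (hab.symm.zpow_zpow j k).mul_mul_mul_comm]⟩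
  | inv y _ hy =>
    obtain ⟨i, j, rfl⟩ := hy
    exact ⟨-i, -j, by rw [mul_inv_rev, ← zpow_neg, ← zpow_neg, (hab.symm.zpow_zpow (-j) (-i)).eq]⟩

theorem iter_moves {α : MulAut G} {v w : G} (hv : α v = v * w) (hw : α w = w) (n : ℕ) :
    (α ^ n) v = v * w ^ n := by
  induction n with
  | zero => simp
  | succ n ih => rw [pow_succ', MulAut.mul_apply, ih, map_mul, hv, map_pow, hw, mul_assoc, ← pow_succ']

/-- An automorphism mapping a generator of a finite cyclic subgroup into it keeps the subgroup. -/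
theorem map_zpowers_eq [Finite G] (α : MulAut G) {v : G} (h : α v ∈ zpowers v) :
    (zpowers v).map α.toMonoidHom = zpowers v := by
  refine eq_of_le_of_card_ge ?_ (card_map_of_injective α.injective).ge
  rw [MonoidHom.map_zpowers]
  exact zpowers_le.2 h

end Groups

variable {p : ℕ} [hp : Fact p.Prime]
variable {Ω : Type u} [Group Ω] {S : Subgroup Ω} {F : FusionSystem S} {E : Subgroup Ω}

/-- The abelian transvection case with `Φ(E) = 1`. -/
structure AbData (F : FusionSystem S) (p : ℕ) (E : Subgroup Ω) (h : MulAut S) (k : ZMod p)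
    (z u : S) : Prop where
  hh : h ∈ F.autGroup S
  k1 : k ≠ 1
  zp : z ^ p = 1
  up : u ^ p = 1
  comm : _root_.commutator S = zpowers z
  cen : center S = closure ({z, u} : Set S)
  hz : h z = z ^ k.val
  hu : h u = u
  indep : ∀ i j : ℤ, z ^ i * u ^ j = 1 → (i : ZMod p) = 0 ∧ (j : ZMod p) = 0
  cenE : ∀ g ∈ center S, (g : Ω) ∈ E
  line : ∀ hu' : (u : Ω) ∈ E, ∀ α ∈ F.autGroup E, α ⟨u, hu'⟩ ∈ zpowers (⟨u, hu'⟩ : E)

set_option maxHeartbeats 400000 in
theorem ab_data [Finite S] (hS : IsPGroup p S) (hF : F.IsSaturated p) (hES : E ≤ S)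
    (hfn : F.IsFullyNormalized E) (hN : normalizerIn S E = S) {h : MulAut S} {σ : S → S} {k : ZMod p}
    {x e z u : S} (hh : h ∈ F.autGroup S) (d : TD p (E.subgroupOf S) h σ k x e z u)
    (P : PairOut p (E.subgroupOf S) h k x e z u)
    (hu0 : ∀ l : ℕ, u ^ l ∈ Phi p (E.subgroupOf S) → (l : ZMod p) = 0)
    {α₀ : MulAut E} (hα₀ : α₀ ∈ F.autGroup E)
    (hσ : ∀ a ∈ E.subgroupOf S, ((σ a : S) : Ω) = apl α₀ (a : Ω)) (hab : ⁅e, z⁆ = 1)
    (hΦ : Phi p (E.subgroupOf S) = ⊥) : AbData F p E h k z u := by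
  haveI := finite_of_le hES
  haveI : NeZero p := ⟨hp.out.ne_zero⟩
  obtain ⟨hcomm, -, hNc, hcen⟩ := P.abel hab
  have v := d.vq (MonoidHom.id S) (by rw [MonoidHom.ker_id, hΦ])
  have hex : x * e * x⁻¹ = e * z := v.xe
  have hz0 : ⁅x, e⁆ = z := by
    rw [commutatorElement_def, hex, (hNc e d.eN z d.zN).eq, mul_inv_cancel_right]
  rw [hz0] at hcomm hcen
  have hzp : z ^ p = 1 := P.facts.zp
  have hup : u ^ p = 1 := v.exp u d.uN
  have cn : ∀ {a b : S}, Cn (Phi p (E.subgroupOf S)) a b → a = b := fun {a b} hab =>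
    inv_mul_eq_one.1 (mem_bot.1 (hΦ ▸ hab))
  have hindep : ∀ i j l : ℕ, e ^ i * z ^ j * u ^ l = 1 →
      (i : ZMod p) = 0 ∧ (j : ZMod p) = 0 ∧ (l : ZMod p) = 0 := fun i j l hl => by
    obtain ⟨h1, h2, h3⟩ := d.indep i j l (hl ▸ one_mem _)
    exact ⟨h1, h2, hu0 l h3⟩
  have hzpow : ∀ (g : S), g ^ p = 1 → ∀ i : ℤ, g ^ i = g ^ (i : ZMod p).val := fun g hg i => by
    rw [← zpow_natCast]
    exact RankTwoResist.zcongr hg (by simp)
  refine
    { hh := hh, k1 := d.k_one, zp := hzp, up := hup, comm := hcomm, cen := hcen, hz := v.hz, hu := v.hu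
      indep := fun i j hij => ?_, cenE := fun g hg => ?_, line := fun hu' => ?_ }
  · rw [hzpow z hzp, hzpow u hup] at hij
    obtain ⟨-, h2, h3⟩ := hindep 0 _ _ (by rw [pow_zero, one_mul]; exact hij)
    simp only [ZMod.natCast_zmod_val] at h2 h3
    exact ⟨h2, h3⟩
  · rw [hcen] at hg
    refine mem_subgroupOf.1 ((closure_le _).2 ?_ hg)
    rintro y (rfl | rfl)
    exacts [d.zN, d.uN]
  · letI : CommGroup E :=
      { (inferInstance : Group E) with
        mul_comm := fun a b => Subtype.ext ((congrArg Subtype.val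
          (hNc ⟨a, hES a.2⟩ (mem_subgroupOf.2 a.2) ⟨b, hES b.2⟩ (mem_subgroupOf.2 b.2)).eq :
            (a : Ω) * b = b * a)) }
    set e' : E := ⟨(e : Ω), d.eN⟩ with he'
    set z' : E := ⟨(z : Ω), d.zN⟩ with hz'
    set u' : E := ⟨(u : Ω), hu'⟩ with hu''
    have hxn : (x : Ω) ∈ normalizer (E : Set Ω) := (hN.ge x.2).2
    set τ := E.normalizerMonoidHom ⟨(x : Ω), hxn⟩ with hτ
    have hτA : τ ∈ autInducedBy S E :=
      mem_autInducedBy_iff.2 ⟨x, x.2, hxn, fun a ha => apl_normalizerMonoidHom ⟨(x : Ω), hxn⟩ ha⟩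
    have hle : autInducedBy S E ≤ zpowers τ := by
      intro γ hγ
      obtain ⟨g, hg, hgn, hgx⟩ := mem_autInducedBy_iff.1 hγ
      obtain ⟨a, ha, i, hgi⟩ := d.decomp ⟨g, hg⟩
      refine ⟨(i : ℤ), ?_⟩
      show τ ^ (i : ℤ) = γ
      rw [zpow_natCast, hτ, ← map_pow]
      refine apl_ext fun b hb => ?_
      have hbi : (x : Ω) ^ i * b * ((x : Ω) ^ i)⁻¹ ∈ E := by
        have h1 := (mem_normalizer_iff.1 (pow_mem hxn i) b).1 hb
        exact h1
      have hab' : Commute (a : Ω) ((x : Ω) ^ i * b * ((x : Ω) ^ i)⁻¹) :=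
        congrArg Subtype.val (hNc a ha ⟨_, hES hbi⟩ (mem_subgroupOf.2 hbi)).eq
      rw [hgx b hb, apl_normalizerMonoidHom _ hb, show g = (a : Ω) * (x : Ω) ^ i from
        congrArg Subtype.val hgi, SubmonoidClass.coe_pow]
      calc (x : Ω) ^ i * b * ((x : Ω) ^ i)⁻¹
          = (a : Ω) * ((x : Ω) ^ i * b * ((x : Ω) ^ i)⁻¹) * (a : Ω)⁻¹ := by
            rw [hab'.eq, mul_inv_cancel_right]
        _ = _ := by group
    obtain ⟨-, R, hR⟩ := fullyAutomized_of_fullyNormalized hS hF hfn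
    refine line_invariant (V := E) (τ := τ) (τ' := α₀) (e := e') (z := z') (u := u')
      (fun w => by
        refine Subtype.ext ?_
        rw [SubmonoidClass.coe_pow, OneMemClass.coe_one]
        have h1 : (⟨(w : Ω), hES w.2⟩ : S) ^ p = 1 := v.exp _ (mem_subgroupOf.2 w.2)
        simpa using congrArg Subtype.val h1)
      (autInducedBy_le_autGroup hES hτA) hα₀ (fun W hWA hWp hτW => ?_) (fun w => ?_)
      (fun i j l hl => hindep i j l (Subtype.ext ((congrArg Subtype.val hl : _ = (1 : Ω))))) ?_ ?_ ?_ ?_ ?_ ?_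
    · have hRW : (R : Subgroup (F.autGroup E)) ≤ W.subgroupOf (F.autGroup E) := by
        intro γ hγ
        rw [hR] at hγ
        exact hτW (hle hγ)
      have h1 : W.subgroupOf (F.autGroup E) = R := R.is_maximal' (hWp.comap_subtype) hRW
      intro γ hγ
      refine hle ?_
      have h2 : (⟨γ, hWA hγ⟩ : F.autGroup E) ∈ W.subgroupOf (F.autGroup E) := hγ
      rw [h1, hR] at h2
      exact h2
    · obtain ⟨i, j, l, hl⟩ := v.coords ⟨(w : Ω), hES w.2⟩ (mem_subgroupOf.2 w.2)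
      have h1 : (⟨(w : Ω), hES w.2⟩ : S) = e ^ i * z ^ j * u ^ l := hl
      exact ⟨i, j, l, Subtype.ext (by simpa using congrArg Subtype.val h1)⟩
    · exact Subtype.ext ((congrArg Subtype.val hex : _ = ((e * z : S) : Ω)))
    · exact Subtype.ext ((congrArg Subtype.val (mul_inv_eq_iff_eq_mul.2 v.xz.eq : x * z * x⁻¹ = z) :
        (x : Ω) * z * (x : Ω)⁻¹ = z))
    · exact Subtype.ext ((congrArg Subtype.val (mul_inv_eq_iff_eq_mul.2 v.xu.eq : x * u * x⁻¹ = u) :
        (x : Ω) * u * (x : Ω)⁻¹ = u))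
    · exact Subtype.ext (by rw [← apl_coe, ← hσ e d.eN, cn d.σe])
    · exact Subtype.ext (by rw [← apl_coe, ← hσ z d.zN, cn d.σz]; rfl)
    · exact Subtype.ext (by rw [← apl_coe, ← hσ u d.uN, cn d.σu])

/-- Every automorphism of `S` in the system keeps the fixed line. -/
theorem AbData.fixed [Finite S] (hS : IsPGroup p S) (hF : F.IsSaturated p) {h : MulAut S}
    {k : ZMod p} {z u : S} (A : AbData F p E h k z u) {α : MulAut S} (hα : α ∈ F.autGroup S) :
    α u ∈ zpowers u := by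
  haveI : NeZero p := ⟨hp.out.ne_zero⟩
  have hzu : Commute z u := (mem_center_iff.1 (A.cen.ge (Subgroup.subset_closure (by simp))) z).symm.symm
  have hcen : ∀ β : MulAut S, ∀ g ∈ center S, β g ∈ center S := fun β g hg =>
    (characteristic_iff_map_eq.1 (inferInstance : (center S).Characteristic) β).le
      (mem_map_of_mem β.toMonoidHom hg)
  have huc : u ∈ center S := A.cen.ge (Subgroup.subset_closure (by simp))
  have hzz : ∀ (β : MulAut S) (g : S), g ∈ zpowers z → β g ∈ zpowers z := fun β g hg => by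
    rw [← A.comm] at hg ⊢
    exact (characteristic_iff_map_eq.1 (inferInstance : (_root_.commutator S).Characteristic) β).le
      (mem_map_of_mem β.toMonoidHom hg)
  have hhz : ∀ g ∈ zpowers z, h g = g ^ k.val := fun g hg => by
    obtain ⟨i, rfl⟩ := mem_zpowers_iff.1 hg
    rw [map_zpow, A.hz, ← zpow_natCast, ← zpow_natCast, ← zpow_mul, ← zpow_mul, mul_comm]
  obtain ⟨a, b, hab⟩ := coords_two hzu (A.cen.le (hcen α u huc))
  set c : S := z ^ (((k.val : ℤ) - 1) * a) with hc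
  have hhα : h (α u) = c * α u := by
    rw [hab, map_mul, map_zpow, map_zpow, A.hz, A.hu, hc, ← zpow_natCast, ← zpow_mul, ← mul_assoc,
      ← zpow_add]
    congr 2
    ring
  set w := α⁻¹ c with hw
  have hwz : w ∈ zpowers z := hzz _ _ (zpow_mem (mem_zpowers z) _)
  set γ := α⁻¹ * h * α * h⁻¹ with hγ
  have hfix : ∀ g ∈ zpowers z, γ g = g := by
    intro g hg
    have h1 : h⁻¹ g ∈ zpowers z := hzz _ _ hg
    simp only [hγ, MulAut.mul_apply]
    rw [hhz _ (hzz α _ h1), map_pow, MulAut.inv_apply_self, ← hhz _ h1, MulAut.apply_inv_self]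
  have hwc : Commute w u := (mem_center_iff.1 huc w)
  have hγu : γ u = u * w := by
    have h1 : h⁻¹ u = u := by conv_lhs => rw [← A.hu, MulAut.inv_apply_self]
    simp only [hγ, MulAut.mul_apply, h1]
    rw [hhα, map_mul, MulAut.inv_apply_self, ← hw, hwc.eq]
  have hγA : γ ∈ F.autGroup S :=
    mul_mem (mul_mem (mul_mem (inv_mem hα) A.hh) hα) (inv_mem A.hh)
  have hfn : F.IsFullyNormalized S := ⟨le_rfl, fun Q _ => by
    haveI := finite_of_le (normalizerIn_le S S)
    exact Subgroup.card_le_of_le (le_inf (normalizerIn_le S Q)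
      ((normalizerIn_le S Q).trans Subgroup.le_normalizer))⟩
  obtain ⟨-, R, hR⟩ := fullyAutomized_of_fullyNormalized hS hF hfn
  haveI : (R : Subgroup (F.autGroup S)).Normal := by
    rw [hR, ← inn_eq_autInducedBy]
    exact innIn_normal F S
  set n := (R : Subgroup (F.autGroup S)).index with hn
  have hmem : (⟨γ, hγA⟩ : F.autGroup S) ^ n ∈ (R : Subgroup (F.autGroup S)) :=
    pow_index_mem _ _
  rw [hR, mem_subgroupOf, SubmonoidClass.coe_pow] at hmem
  obtain ⟨g, hg, -, hgx⟩ := mem_autInducedBy_iff.1 hmem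
  have hwn : w ^ n = 1 := by
    have h1 := hgx u u.2
    rw [apl_coe, iter_moves hγu (hfix w hwz),
      show g * (u : Ω) * g⁻¹ = u from mul_inv_eq_iff_eq_mul.2
        (congrArg Subtype.val (mem_center_iff.1 huc ⟨g, hg⟩))] at h1
    exact mul_eq_left.1 (Subtype.ext h1 : u * w ^ n = u)
  have hwp : w ^ p = 1 := by
    obtain ⟨i, hi⟩ := mem_zpowers_iff.1 hwz
    rw [← hi, ← zpow_natCast, ← zpow_mul, mul_comm, zpow_mul, zpow_natCast, A.zp, one_zpow]
  have hn0 : (n : ZMod p) ≠ 0 := fun e0 => R.not_dvd_index ((ZMod.natCast_eq_zero_iff n p).1 e0)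
  have hw1 : w = 1 := mem_bot.1 (mem_of_pow_mem hwp hn0 (mem_bot.2 hwn))
  have hc1 : z ^ (((k.val : ℤ) - 1) * a) * u ^ (0 : ℤ) = 1 := by
    rw [zpow_zero, mul_one, ← hc]
    exact (α⁻¹).injective ((hw ▸ hw1).trans (map_one _).symm)
  have ha := (A.indep _ _ hc1).1
  push_cast at ha
  rw [ZMod.natCast_zmod_val, mul_eq_zero, sub_eq_zero] at ha
  rw [hab, RankTwoResist.zcongr A.zp (n := 0) (by
    rw [ha.resolve_left A.k1, Int.cast_zero]), zpow_zero, one_mul]
  exact zpow_mem (mem_zpowers u) b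

/-- Two abelian transvection shapes share the line. -/
theorem AbData.same_line [Finite S] (hS : IsPGroup p S) (hF : F.IsSaturated p) {B : Subgroup Ω}
    {h h₁ : MulAut S} {k k₁ : ZMod p} {z u z₁ u₁ : S} (A : AbData F p E h k z u)
    (A₁ : AbData F p B h₁ k₁ z₁ u₁) : zpowers u₁ = zpowers u := by
  haveI : NeZero p := ⟨hp.out.ne_zero⟩
  have huc : u ∈ center S := A.cen.ge (Subgroup.subset_closure (by simp))
  have hu1c : u₁ ∈ center S := A₁.cen.ge (Subgroup.subset_closure (by simp))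
  have hz1c : z₁ ∈ center S := A₁.cen.ge (Subgroup.subset_closure (by simp))
  obtain ⟨a, b, hab⟩ := coords_two (mem_center_iff.1 hu1c z₁) (A₁.cen.le huc)
  obtain ⟨r, hr⟩ := mem_zpowers_iff.1 (A.fixed hS hF A₁.hh)
  have h2 : h₁ u = z₁ ^ ((k₁.val : ℤ) * a) * u₁ ^ b := by
    rw [hab, map_mul, map_zpow, map_zpow, A₁.hz, A₁.hu, ← zpow_natCast, ← zpow_mul]
  have h3 : u ^ r = z₁ ^ (r * a) * u₁ ^ (r * b) := by
    have hc : Commute (z₁ ^ a) (u₁ ^ b) :=
      (show Commute z₁ u₁ from mem_center_iff.1 hu1c z₁).zpow_zpow a b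
    rw [hab, hc.mul_zpow, ← zpow_mul, ← zpow_mul, mul_comm a r, mul_comm b r]
  rw [← hr, h3] at h2
  have h4 : z₁ ^ (r * a - (k₁.val : ℤ) * a) * u₁ ^ (r * b - b) = 1 := by
    have hc : ∀ i j : ℤ, Commute (u₁ ^ i) (z₁ ^ j) := fun i j =>
      (show Commute u₁ z₁ from mem_center_iff.1 hz1c u₁).zpow_zpow i j
    rw [zpow_sub, zpow_sub, mul_assoc, ← mul_assoc (z₁ ^ _)⁻¹, ← ((hc _ _).inv_right).eq,
      mul_assoc (u₁ ^ _), ← mul_assoc, h2, mul_assoc, ← mul_assoc (u₁ ^ b),
      ((hc _ _).inv_right).eq, mul_assoc, mul_inv_cancel, mul_one, mul_inv_cancel]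
  obtain ⟨h5, h6⟩ := A₁.indep _ _ h4
  push_cast at h5 h6
  rw [ZMod.natCast_zmod_val] at h5
  have hb0 : (b : ZMod p) ≠ 0 := fun e0 => by
    have hu' : u ∈ zpowers z := by
      rw [hab, RankTwoResist.zcongr A₁.up (n := 0) (by rw [e0, Int.cast_zero]), zpow_zero, mul_one,
        ← A.comm, A₁.comm]
      exact zpow_mem (mem_zpowers z₁) a
    obtain ⟨i, hi⟩ := mem_zpowers_iff.1 hu'
    have := (A.indep i (-1) (by rw [hi, zpow_neg, zpow_one, mul_inv_cancel])).2
    push_cast at this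
    exact one_ne_zero (neg_eq_zero.1 this)
  have hr1 : (r : ZMod p) = 1 := by
    refine mul_right_cancel₀ hb0 ?_
    rw [one_mul]
    exact sub_eq_zero.1 h6
  have ha0 : (a : ZMod p) = 0 := by
    rw [hr1, ← sub_mul, mul_eq_zero, sub_eq_zero] at h5
    exact h5.resolve_left (Ne.symm A₁.k1)
  have hub : u = u₁ ^ b := by
    rw [hab, RankTwoResist.zcongr A₁.zp (n := 0) (by rw [ha0, Int.cast_zero]), zpow_zero, one_mul]
  refine le_antisymm (zpowers_le.2 ?_) (zpowers_le.2 ⟨b, hub.symm⟩)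
  exact RankTwoResist.zpow_mem_cancel A₁.up hb0 (hub ▸ mem_zpowers u)

end Cfsg.Agent.RankThreeEss.Pearl
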