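import Cfsg.Agent.RankThreeEss.PairBase

/-!
Generalities: maps on a normal subgroup, the Frattini subgroup of a subgroup, calculations in class two.
-/

set_option autoImplicit false
set_option linter.style.haveILetI false

namespace Cfsg.Agent.RankThreeEss.Pearl

open Subgroup
open scoped commutatorElement

variable {p : ℕ} {X : Type*} [Group X]

theorem add_pred (hp : p ≠ 0) (i : ℕ) : i + (p - 1) * i = p * i := by
  calc i + (p - 1) * i = (1 + (p - 1)) * i := by rw [add_mul, one_mul]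
    _ = p * i := by rw [Nat.add_sub_cancel' (Nat.one_le_iff_ne_zero.2 hp)]

/-- A map that is an endomorphism on `N`. -/
structure EndOn (N : Subgroup X) (f : X → X) : Prop where
  mem : ∀ a ∈ N, f a ∈ N
  map_mul : ∀ a ∈ N, ∀ b ∈ N, f (a * b) = f a * f b

variable {N K L : Subgroup X} {f : X → X}

theorem EndOn.map_one (hf : EndOn N f) : f 1 = 1 := by
  have h := hf.map_mul 1 N.one_mem 1 N.one_mem
  rw [one_mul] at h
  exact left_eq_mul.1 h

theorem EndOn.map_inv (hf : EndOn N f) {a : X} (ha : a ∈ N) : f a⁻¹ = (f a)⁻¹ := by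
  refine eq_inv_of_mul_eq_one_left ?_
  rw [← hf.map_mul _ (N.inv_mem ha) _ ha, inv_mul_cancel, hf.map_one]

theorem EndOn.map_pow (hf : EndOn N f) {a : X} (ha : a ∈ N) (n : ℕ) : f (a ^ n) = f a ^ n := by
  induction n with
  | zero => simpa using hf.map_one
  | succ n ih => rw [pow_succ, hf.map_mul _ (pow_mem ha n) _ ha, ih, pow_succ]

theorem EndOn.map_comm (hf : EndOn N f) {a b : X} (ha : a ∈ N) (hb : b ∈ N) :
    f ⁅a, b⁆ = ⁅f a, f b⁆ := by
  rw [commutatorElement_def, commutatorElement_def, hf.map_mul _ (mul_mem (mul_mem ha hb)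
    (inv_mem ha)) _ (inv_mem hb), hf.map_mul _ (mul_mem ha hb) _ (inv_mem ha), hf.map_mul _ ha _ hb,
    hf.map_inv ha, hf.map_inv hb]

/-- The preimage in `N` of a subgroup. -/
def EndOn.pre (hf : EndOn N f) (K : Subgroup X) : Subgroup X where
  carrier := {a | a ∈ N ∧ f a ∈ K}
  one_mem' := ⟨one_mem _, by rw [hf.map_one]; exact one_mem _⟩
  mul_mem' := fun {a b} ha hb => ⟨mul_mem ha.1 hb.1, by rw [hf.map_mul _ ha.1 _ hb.1]; exact mul_mem ha.2 hb.2⟩
  inv_mem' := fun {a} ha => ⟨inv_mem ha.1, by rw [hf.map_inv ha.1]; exact inv_mem ha.2⟩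

/-- A subgroup of `N` kept by every endomorphism of `N`. -/
def FullInv (N K : Subgroup X) : Prop := K ≤ N ∧ ∀ f, EndOn N f → ∀ a ∈ K, f a ∈ K

theorem fullInv_self : FullInv N N := ⟨le_rfl, fun _ hf => hf.mem⟩

theorem FullInv.sup (hK : FullInv N K) (hL : FullInv N L) : FullInv N (K ⊔ L) := by
  refine ⟨sup_le hK.1 hL.1, fun f hf a ha => ?_⟩
  have h : K ⊔ L ≤ hf.pre (K ⊔ L) := sup_le (fun b hb => ⟨hK.1 hb, mem_sup_left (hK.2 f hf b hb)⟩)
    fun b hb => ⟨hL.1 hb, mem_sup_right (hL.2 f hf b hb)⟩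
  exact (h ha).2

theorem FullInv.agemo (hK : FullInv N K) : FullInv N (agemo p K) := by
  refine ⟨(agemo_le_iff.2 fun a ha => pow_mem (hK.1 ha) p), fun f hf a ha => ?_⟩
  have h : RankThreeEss.agemo p K ≤ hf.pre (RankThreeEss.agemo p K) := agemo_le_iff.2 fun b hb =>
    ⟨pow_mem (hK.1 hb) p, by rw [hf.map_pow (hK.1 hb)]; exact pow_mem_agemo (hK.2 f hf b hb)⟩
  exact (h ha).2

theorem FullInv.comm (hK : FullInv N K) (hL : FullInv N L) : FullInv N ⁅K, L⁆ := by
  have hle : ⁅K, L⁆ ≤ N := commutator_le.2 fun a ha b hb => by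
    rw [commutatorElement_def]
    exact mul_mem (mul_mem (mul_mem (hK.1 ha) (hL.1 hb)) (inv_mem (hK.1 ha))) (inv_mem (hL.1 hb))
  refine ⟨hle, fun f hf a ha => ?_⟩
  have h : ⁅K, L⁆ ≤ hf.pre ⁅K, L⁆ := commutator_le.2 fun b hb c hc => ⟨hle (commutator_mem_commutator hb hc), by
    rw [hf.map_comm (hK.1 hb) (hL.1 hc)]
    exact commutator_mem_commutator (hK.2 f hf b hb) (hL.2 f hf c hc)⟩
  exact (h ha).2

theorem fullInv_lcs (N : Subgroup X) : ∀ n, FullInv N (N.lowerCentralSeries n)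
  | 0 => by rw [Subgroup.lowerCentralSeries_zero]; exact fullInv_self
  | n + 1 => by rw [Subgroup.lowerCentralSeries_succ]; exact (fullInv_lcs N n).comm fullInv_self

theorem endOn_conj [hN : N.Normal] (g : X) : EndOn N (fun a => g * a * g⁻¹) :=
  ⟨fun a ha => hN.conj_mem a ha g, fun a _ b _ => conj_mul.symm⟩

theorem FullInv.normal [N.Normal] (hK : FullInv N K) : K.Normal :=
  ⟨fun a ha g => hK.2 _ (endOn_conj g) a ha⟩

theorem endOn_hom {α : Type*} [FunLike α X X] [MonoidHomClass α X X] (h : α)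
    (hN : ∀ a ∈ N, h a ∈ N) : EndOn N h :=
  ⟨hN, fun a _ b _ => _root_.map_mul h a b⟩

/-- The Frattini subgroup of a `p`-subgroup. -/
def Phi (p : ℕ) (N : Subgroup X) : Subgroup X := N.lowerCentralSeries 1 ⊔ agemo p N

theorem fullInv_phi : FullInv N (Phi p N) := (fullInv_lcs N 1).sup fullInv_self.agemo

theorem lcs_one (N : Subgroup X) : N.lowerCentralSeries 1 = ⁅N, N⁆ := by
  rw [Subgroup.lowerCentralSeries_succ, Subgroup.lowerCentralSeries_zero]

theorem comm_mem_lcs_one {a b : X} (ha : a ∈ N) (hb : b ∈ N) : ⁅a, b⁆ ∈ N.lowerCentralSeries 1 :=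
  lcs_one N ▸ commutator_mem_commutator ha hb

theorem comm_mem_lcs_succ {n : ℕ} {a b : X} (ha : a ∈ N.lowerCentralSeries n) (hb : b ∈ N) :
    ⁅a, b⁆ ∈ N.lowerCentralSeries (n + 1) := by
  rw [Subgroup.lowerCentralSeries_succ]
  exact commutator_mem_commutator ha hb

theorem lcs_map_subtype (N : Subgroup X) : ∀ n,
    ((⊤ : Subgroup N).lowerCentralSeries n).map N.subtype = N.lowerCentralSeries n := fun n => by
  rw [Subgroup.map_lowerCentralSeries, ← MonoidHom.range_eq_map, range_subtype]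

theorem agemo_map_subtype (N : Subgroup X) :
    (agemo p (⊤ : Subgroup N)).map N.subtype = agemo p N := by
  rw [← agemo_map, ← MonoidHom.range_eq_map, range_subtype]

variable [hp : Fact p.Prime] [Finite X]

theorem phi_eq (hN : IsPGroup p N) : (frattini N).map N.subtype = Phi p N := by
  rw [frattini_eq_sup hN, Subgroup.map_sup, agemo_map_subtype, Phi, ← lcs_map_subtype N 1,
    Subgroup.top_lowerCentralSeries_one]

theorem eq_top_of_sup_phi (hN : IsPGroup p N) (hK : K ≤ N) (h : N ≤ K ⊔ Phi p N) : N ≤ K := by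
  haveI := hN.isNilpotent
  have h1 : K.subgroupOf N ⊔ frattini N = ⊤ := by
    refine map_injective N.subtype_injective ?_
    rw [Subgroup.map_sup, phi_eq hN, map_subgroupOf_eq_of_le hK, ← MonoidHom.range_eq_map,
      range_subtype]
    exact le_antisymm (sup_le hK fullInv_phi.1) h
  exact subgroupOf_eq_top.1 (Core.eq_top_of_sup_frattini le_rfl h1)

/-- A subgroup generated modulo its `p`-th powers. -/
theorem nakayama {H : Subgroup X} (hH : IsPGroup p H) (hK : K ≤ H) (h : H ≤ K ⊔ agemo p H) :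
    H ≤ K :=
  eq_top_of_sup_phi hH hK (h.trans (sup_le_sup_left le_sup_right _))

/-- A term of the lower central series absorbed by the next one is trivial. -/
theorem lcs_eq_bot (hN : IsPGroup p N) {n : ℕ}
    (h : N.lowerCentralSeries n ≤ N.lowerCentralSeries (n + 1)) : N.lowerCentralSeries n = ⊥ := by
  haveI := hN.isNilpotent
  rw [← lcs_map_subtype N n, ← lcs_map_subtype N (n + 1), map_le_map_iff_of_injective N.subtype_injective,
    Subgroup.lowerCentralSeries_succ] at h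
  rw [← lcs_map_subtype N n, eq_bot_iff.2 (le_of_le_sup_commutator (N := ⊥) (h.trans le_sup_right)),
    Subgroup.map_bot]

omit [Finite X] hp

/-- Class two on a subgroup. -/
def Cl2 (A : Subgroup X) : Prop := ∀ a ∈ A, ∀ b ∈ A, ∀ c ∈ A, Commute ⁅a, b⁆ c

variable {A : Subgroup X}

theorem Cl2.cc (hA : Cl2 A) : CommCentral A := fun a b g =>
  Subtype.ext (hA a a.2 b b.2 g g.2).eq

theorem Cl2.mul_left (hA : Cl2 A) {a b c : X} (ha : a ∈ A) (hb : b ∈ A) (hc : c ∈ A) :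
    ⁅a * b, c⁆ = ⁅a, c⁆ * ⁅b, c⁆ :=
  congrArg Subtype.val (hA.cc.mul_left ⟨a, ha⟩ ⟨b, hb⟩ ⟨c, hc⟩)

theorem Cl2.mul_right (hA : Cl2 A) {a b c : X} (ha : a ∈ A) (hb : b ∈ A) (hc : c ∈ A) :
    ⁅a, b * c⁆ = ⁅a, b⁆ * ⁅a, c⁆ :=
  congrArg Subtype.val (hA.cc.mul_right ⟨a, ha⟩ ⟨b, hb⟩ ⟨c, hc⟩)

theorem Cl2.pow_left (hA : Cl2 A) {a b : X} (ha : a ∈ A) (hb : b ∈ A) (n : ℕ) :
    ⁅a ^ n, b⁆ = ⁅a, b⁆ ^ n :=
  congrArg Subtype.val (hA.cc.pow_left ⟨a, ha⟩ ⟨b, hb⟩ n)

theorem Cl2.pow_right (hA : Cl2 A) {a b : X} (ha : a ∈ A) (hb : b ∈ A) (n : ℕ) :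
    ⁅a, b ^ n⁆ = ⁅a, b⁆ ^ n :=
  congrArg Subtype.val (hA.cc.pow_right ⟨a, ha⟩ ⟨b, hb⟩ n)

theorem comm_one_left {a b : X} (h : Commute a b) : ⁅a, b⁆ = 1 :=
  commutatorElement_eq_one_iff_commute.2 h

theorem Cl2.mul_pow [Finite X] [Fact p.Prime] (hA : Cl2 A) (hAp : IsPGroup p A) (hp5 : 5 ≤ p)
    (h : ∀ a ∈ A, ∀ b ∈ A, ⁅a, b⁆ ^ p = 1) {a b : X} (ha : a ∈ A) (hb : b ∈ A) :
    (a * b) ^ p = a ^ p * b ^ p := by
  have hc := hA.cc
  have hcen := central_of_commCentral hc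
  have hexp : ∀ w ∈ _root_.commutator A, w ^ p = 1 := by
    intro w hw
    rw [commutator_eq_closure] at hw
    induction hw using Subgroup.closure_induction with
    | mem y hy => obtain ⟨c, d, rfl⟩ := hy; exact Subtype.ext (h c c.2 d d.2)
    | one => exact one_pow p
    | mul y z hy hz ihy ihz =>
      rw [(show Commute y z from hcen y (commutator_eq_closure A ▸ hy) z).mul_pow, ihy, ihz, one_mul]
    | inv y _ ihy => rw [inv_pow, ihy, inv_one]
  exact congrArg Subtype.val (mul_pow_p hAp hp5 (A := _root_.commutator A) (B := ⊥)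
    (fun g k => commutator_mem_commutator (mem_top g) (mem_top k))
    (fun w hw g => mem_bot.2 (commutatorElement_eq_one_iff_mul_comm.2 (hcen w hw g)))
    (fun w hw g => by rw [mem_bot.1 hw, commutatorElement_one_left]) hexp ⟨a, ha⟩ ⟨b, hb⟩)

end Cfsg.Agent.RankThreeEss.Pearl
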