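import Cfsg.Agent.RankThreeEss.Pearl.PairClass

/-!
Three generators with a transvection: the centre, the derived subgroup and the powers.
-/

set_option autoImplicit false
set_option linter.style.haveILetI false

namespace Cfsg.Agent.RankThreeEss.Pearl

open Subgroup
open scoped commutatorElement

theorem conj_iter {Y : Type*} [Group Y] {X₀ A Z : Y} (hA : X₀ * A * X₀⁻¹ = A * Z)
    (hXZ : Commute X₀ Z) (i : ℕ) : X₀ ^ i * A * (X₀ ^ i)⁻¹ = A * Z ^ i := by
  induction i with
  | zero => simp
  | succ i ih =>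
    calc X₀ ^ (i + 1) * A * (X₀ ^ (i + 1))⁻¹
        = X₀ * (X₀ ^ i * A * (X₀ ^ i)⁻¹) * X₀⁻¹ := by rw [pow_succ']; group
      _ = X₀ * A * X₀⁻¹ * (X₀ * Z ^ i * X₀⁻¹) := by rw [ih]; group
      _ = _ := by rw [hA, (hXZ.pow_right i).eq, mul_inv_cancel_right, mul_assoc, ← pow_succ']

variable {p : ℕ} [hp : Fact p.Prime] {X : Type*} [Group X] [Finite X] {N : Subgroup X} {h : MulAut X}
  {σ : X → X} {k : ZMod p} {x e z u : X}

/-- The outcome in the three-generator case. -/
structure PairOut (p : ℕ) (N : Subgroup X) (h : MulAut X) (k : ZMod p) (x e z u : X) : Prop where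
  facts : PairFacts p N x e z u
  ucen : u ∈ center X
  xzc : Commute x z
  pows : ∀ g : X, g ^ p ∈ closure ({u ^ p} : Set X)
  trip : ∀ a b g : X, ⁅⁅a, b⁆, g⁆ ∈ closure ({u ^ p} : Set X)
  zcen : Phi p N = ⊥ → ⁅x, e⁆ ∈ center X
  zn : ∀ i : ℕ, z * u ^ i ∈ Phi p N → False
  nonab : ⁅e, z⁆ ≠ 1 → center X = closure ({u} : Set X) ∧
    (∀ g ∈ N, (∀ a ∈ N, Commute g a) → g ∈ closure ({u} : Set X)) ∧
    ∀ w : X, w ^ p = 1 → ¬ _root_.commutator X ≤ zpowers w
  abel : ⁅e, z⁆ = 1 → _root_.commutator X = zpowers ⁅x, e⁆ ∧ ⁅x, e⁆ ^ p = 1 ∧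
    (∀ a ∈ N, ∀ b ∈ N, Commute a b) ∧ center X = closure ({⁅x, e⁆, u} : Set X)

theorem TD.pair_exact (d : TD p N h σ k x e z u) (he : Eig p N h k x z u)
    (f : PairFacts p N x e z u)
    (hu0 : ∀ i j l : ℕ, e ^ i * z ^ j * u ^ l ∈ Phi p N → (l : ZMod p) = 0) :
    PairOut p N h k x e z u := by
  haveI : NeZero p := ⟨hp.out.ne_zero⟩
  haveI := d.normal
  haveI := d.phi_normal
  set π0 := QuotientGroup.mk' (Phi p N) with hπ0
  have v := d.vq π0 (QuotientGroup.ker_mk' _)
  set P := closure ({u ^ p} : Set X) with hP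
  have hPu : P ≤ zpowers u := (closure_le _).2 (Set.singleton_subset_iff.2 (pow_mem (mem_zpowers u) p))
  have hcn : ∀ a b : X, π0 a = π0 b → ∃ g ∈ P, b = a * g := fun a b hab =>
    ⟨a⁻¹ * b, f.phi.le ((cn_iff_mk _ a b).2 hab), (mul_inv_cancel_left a b).symm⟩
  -- `u` commutes with `N`
  have huN : ∀ a ∈ N, Commute u a := by
    have hle : N ≤ centralizer ({u} : Set X) := d.closure_eq.ge.trans ((closure_le _).2 (by
      rintro y (rfl | rfl | rfl) <;> rw [SetLike.mem_coe, mem_centralizer_singleton_iff]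
      exacts [f.ceu.eq, f.czu.eq]))
    exact fun a ha => (mem_centralizer_singleton_iff.1 (hle ha)).symm
  obtain ⟨n, m, hn, hm, hx⟩ := he
  have hmN : m ∈ N := (sup_le ((closure_le _).2 (by
    rintro y (rfl | rfl); exacts [d.zN, d.uN])) fullInv_phi.1 : _ ≤ N) hm
  have hPN : ∀ g ∈ P, g ∈ N := fun g hg => fullInv_phi.1 (f.phi.ge hg)
  have hzu : ∀ g ∈ zpowers u, ∀ a ∈ N, Commute g a := fun g hg a ha => by
    obtain ⟨i, rfl⟩ := mem_zpowers_iff.1 hg; exact (huN a ha).zpow_left i
  have hmz : Commute m z := by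
    have hle : closure ({z, u} : Set X) ⊔ Phi p N ≤ centralizer ({z} : Set X) := by
      refine sup_le ((closure_le _).2 ?_) fun g hg => ?_
      · rintro y (rfl | rfl) <;> rw [SetLike.mem_coe, mem_centralizer_singleton_iff]
        exact f.czu.eq.symm
      · exact mem_centralizer_singleton_iff.2 (hzu g (hPu (f.phi.le hg)) z d.zN).eq
    exact mem_centralizer_singleton_iff.1 (hle hm)
  -- the image of `u`
  obtain ⟨gu, hgu, cu⟩ := hcn u (h u) v.hu.symm
  have hhu : h u ∈ zpowers u := cu ▸ mul_mem (mem_zpowers u) (hPu hgu)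
  have hhu' : zpowers (h u) = zpowers u := by
    refine eq_of_le_of_card_ge (zpowers_le.2 hhu) ?_
    rw [Nat.card_zpowers, Nat.card_zpowers]
    exact le_of_eq (orderOf_injective h.toMonoidHom h.injective u).symm
  obtain ⟨gx, hgx, cx⟩ := hcn u (x * u * x⁻¹) (by
    rw [map_mul, map_mul, map_inv, v.xu.eq, mul_inv_cancel_right])
  have hxu : Commute x u := by
    obtain ⟨r, hr⟩ := mem_zpowers_iff.1 (cx ▸ mul_mem (mem_zpowers u) (hPu hgx) : x * u * x⁻¹ ∈ zpowers u)
    have e1 : x ^ n * h u * (x ^ n)⁻¹ = x * h u * x⁻¹ := by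
      obtain ⟨a, ha⟩ := mem_zpowers_iff.1 hhu
      have hl : x * h u * x⁻¹ = h u ^ r := by
        rw [← ha, ← conj_zpow, ← hr, ← zpow_mul, ← zpow_mul, mul_comm]
      have hrhs : h (x * u * x⁻¹) = h u ^ r := by rw [← hr, map_zpow]
      rw [map_mul, map_mul, map_inv, hx] at hrhs
      rw [hl, ← hrhs]
      have hc : Commute m (x ^ n * h u * (x ^ n)⁻¹) := by
        refine (hzu _ ?_ m hmN).symm
        have hle : zpowers u ≤ (zpowers u).comap (MulAut.conj x).toMonoidHom :=
          zpowers_le.2 ⟨r, hr⟩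
        have hit : ∀ i : ℕ, ∀ g ∈ zpowers u, x ^ i * g * (x ^ i)⁻¹ ∈ zpowers u := fun i => by
          induction i with
          | zero => intro g hg; simpa using hg
          | succ i ih =>
            intro g hg
            have h1 := hle (ih g hg)
            rw [mem_comap] at h1
            rw [pow_succ']
            convert h1 using 1
            simp only [MulEquiv.coe_toMonoidHom, MulAut.conj_apply]
            group
        exact hit n _ hhu
      rw [show m * x ^ n * h u * (m * x ^ n)⁻¹ = m * (x ^ n * h u * (x ^ n)⁻¹) * m⁻¹ by group, hc.eq,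
        mul_inv_cancel_right]
    obtain ⟨b, hb⟩ := mem_zpowers_iff.1 (hhu'.ge (mem_zpowers u) : u ∈ zpowers (h u))
    have e2 : x ^ n * u * (x ^ n)⁻¹ = x * u * x⁻¹ := by
      rw [← hb, ← conj_zpow, ← conj_zpow, e1]
    have hn1 : 1 ≤ n := Nat.one_le_iff_ne_zero.2 fun e0 => by
      rw [e0, Nat.cast_zero] at hn
      exact d.k0 (pow_eq_zero_iff (n := 2) two_ne_zero |>.1 hn.symm)
    have hcn1 : Commute (x ^ (n - 1)) u := by
      rw [show x ^ n = x * x ^ (n - 1) by rw [← pow_succ', Nat.sub_add_cancel hn1]] at e2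
      refine mul_inv_eq_iff_eq_mul.1 ?_
      have := congrArg (fun g => x⁻¹ * g * x) e2
      simpa [mul_assoc] using this
    obtain ⟨s, hs⟩ := d.pgroup x
    have hcop : Nat.Coprime (n - 1) (p ^ s) := Nat.Coprime.pow_right _
      ((Nat.Prime.coprime_iff_not_dvd hp.out).2 fun hd => d.k2 (by
        have h1 := (ZMod.natCast_eq_zero_iff (n - 1) p).2 hd
        rw [Nat.cast_sub hn1, hn, Nat.cast_one, sub_eq_zero] at h1
        exact h1)).symm
    have h2 : x ^ ((Nat.gcd (n - 1) (p ^ s) : ℕ) : ℤ) ∈ centralizer ({u} : Set X) := by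
      rw [Nat.gcd_eq_gcd_ab, zpow_add, zpow_mul, zpow_mul, zpow_natCast, zpow_natCast, hs, one_zpow,
        mul_one]
      exact zpow_mem (mem_centralizer_singleton_iff.2 hcn1.eq) _
    rw [hcop.gcd_eq_one, Nat.cast_one, zpow_one] at h2
    exact mem_centralizer_singleton_iff.1 h2
  have ucen : u ∈ center X := mem_center_iff.2 fun g => by
    obtain ⟨a, ha, i, rfl⟩ := d.decomp g
    exact ((huN a ha).symm.mul_left (hxu.pow_left i)).eq
  have hPc : P ≤ center X := hPu.trans (zpowers_le.2 ucen)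
  have hgc : ∀ g ∈ P, ∀ a : X, Commute g a := fun g hg a => ((mem_center_iff.1 (hPc hg) a).symm)
  have hfix : ∀ g ∈ P, g ^ p = 1 → h g = g := by
    intro g hg hgp
    obtain ⟨i, hi⟩ := mem_closure_singleton.1 hg
    obtain ⟨j, hj⟩ := mem_closure_singleton.1 hgu
    rw [← hi, map_zpow, map_pow, cu, ((hgc gu hgu u).symm).mul_pow,
      ((hgc _ (pow_mem hgu p) (u ^ p)).symm).mul_zpow, mul_eq_left, ← hj, ← zpow_natCast _ p,
      ← zpow_mul, ← zpow_mul, show j * ((p : ℤ) * i) = i * p * j by ring, zpow_mul, zpow_mul, hi,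
      zpow_natCast, hgp, one_zpow]
  -- `x` commutes with `z`
  have hxz : Commute x z := by
    obtain ⟨g, hg, cg⟩ := hcn z (x * z * x⁻¹) (by
      rw [map_mul, map_mul, map_inv, v.xz.eq, mul_inv_cancel_right])
    have hgp : g ^ p = 1 := by
      have e1 := congrArg (· ^ p) cg
      simp only [conj_pow, (hgc g hg z).symm.mul_pow, f.zp, mul_one, mul_inv_cancel, one_mul] at e1
      exact e1.symm
    have hit : ∀ i : ℕ, x ^ i * z * (x ^ i)⁻¹ = z * g ^ i := fun i => by
      induction i with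
      | zero => simp
      | succ i ih =>
        calc x ^ (i + 1) * z * (x ^ (i + 1))⁻¹ = x * (x ^ i * z * (x ^ i)⁻¹) * x⁻¹ := by
              rw [pow_succ']; group
          _ = x * z * x⁻¹ * (x * g ^ i * x⁻¹) := by rw [ih]; group
          _ = _ := by
            rw [cg, (((hgc g hg x).pow_left i).symm).eq, mul_inv_cancel_right, mul_assoc, ← pow_succ']
    obtain ⟨gz, hgz, cz⟩ := hcn (z ^ k.val) (h z) (by rw [map_pow, v.hz])
    have e2 : h (x * z * x⁻¹) = h z * g := by rw [cg, map_mul, hfix g hg hgp]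
    rw [map_mul, map_mul, map_inv, hx, cz] at e2
    have e3 : m * x ^ n * (z ^ k.val * gz) * (m * x ^ n)⁻¹ = z ^ k.val * (g ^ n) ^ k.val * gz := by
      calc _ = m * (x ^ n * z ^ k.val * (x ^ n)⁻¹ * (x ^ n * gz * (x ^ n)⁻¹)) * m⁻¹ := by group
        _ = m * (z ^ k.val * (g ^ n) ^ k.val * gz) * m⁻¹ := by
          rw [← conj_pow, hit, ((hgc gz hgz (x ^ n)).symm).eq, mul_inv_cancel_right,
            ((hgc g hg z).pow_left n).symm.mul_pow]
        _ = _ := by
          rw [(((hmz.pow_right k.val).mul_right ((((hgc g hg m).pow_left n).pow_left k.val).symm)).mul_right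
            ((hgc gz hgz m).symm)).eq, mul_inv_cancel_right]
    rw [e3, mul_assoc, mul_assoc, mul_right_inj, (hgc gz hgz g).eq, mul_left_inj, ← pow_mul] at e2
    have hg1 : g = 1 := eq_one_of_pow_eq hgp (e2.trans (pow_one g).symm) (by
      push_cast
      rw [hn, ZMod.natCast_zmod_val]
      exact fun e0 => d.k3 (by linear_combination e0))
    rw [hg1, mul_one] at cg
    exact mul_inv_eq_iff_eq_mul.1 cg
  -- `[x, e]`
  obtain ⟨g1, hg1, cxe⟩ := hcn z ⁅x, e⁆ (by
    rw [map_commutatorElement, commutatorElement_def, v.xe, (v.comm _ d.eN _ d.zN).eq,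
      mul_inv_cancel_right])
  -- the quotient by `P`
  haveI : P.Normal := ⟨fun g hg a => by rwa [mem_center_iff.1 (hPc hg) a, mul_inv_cancel_right]⟩
  set π := QuotientGroup.mk' P with hπ
  have h0 : ∀ c, π c = 1 ↔ c ∈ P := fun c => QuotientGroup.eq_one_iff c
  have hNc : ∀ a ∈ N, ∀ b ∈ N, Commute (π a) (π b) := fun a ha b hb => by
    rw [← commutatorElement_eq_one_iff_commute, ← map_commutatorElement, h0, hP, ← f.phi]
    exact mem_sup_left (comm_mem_lcs_one ha hb)
  have hzc : π z ∈ center (X ⧸ P) := mem_center_iff.2 fun g => by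
    obtain ⟨g, rfl⟩ := QuotientGroup.mk'_surjective _ g
    obtain ⟨a, ha, i, rfl⟩ := d.decomp g
    rw [map_mul, map_pow]
    exact ((hNc a ha z d.zN).mul_left ((hxz.map π).pow_left i)).eq
  have huc : π u ∈ center (X ⧸ P) := mem_center_iff.2 fun g => by
    obtain ⟨g, rfl⟩ := QuotientGroup.mk'_surjective _ g
    rw [← map_mul, ← map_mul, mem_center_iff.1 ucen g]
  have hgenY : closure ({π x, π e, π z, π u} : Set (X ⧸ P)) = ⊤ := by
    refine top_le_iff.1 fun g _ => ?_
    obtain ⟨g, rfl⟩ := QuotientGroup.mk'_surjective _ g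
    obtain ⟨a, ha, i, rfl⟩ := d.decomp g
    rw [map_mul, map_pow]
    refine mul_mem ?_ (pow_mem (Subgroup.subset_closure (Set.mem_insert (π x) _)) i)
    have hle : N ≤ (closure ({π x, π e, π z, π u} : Set (X ⧸ P))).comap π := by
      refine d.closure_eq.ge.trans ((closure_le _).2 ?_)
      rintro y (rfl | rfl | rfl) <;> exact subset_closure (by simp)
    exact hle ha
  have hXE : ⁅π x, π e⁆ = π z := by
    rw [← map_commutatorElement, cxe, map_mul, (h0 g1).2 hg1, mul_one]
  set W := closure ({π z} : Set (X ⧸ P)) with hW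
  have hWgen : ∀ a ∈ ({π x, π e, π z, π u} : Set (X ⧸ P)),
      ∀ b ∈ ({π x, π e, π z, π u} : Set (X ⧸ P)), ⁅a, b⁆ ∈ W := by
    have c1 : ∀ a : X ⧸ P, a ∈ center (X ⧸ P) → ∀ b, ⁅a, b⁆ ∈ W := fun a ha b => by
      rw [comm_one_left (show Commute a b from (mem_center_iff.1 ha b).symm)]; exact one_mem _
    have c2 : ∀ a : X ⧸ P, a ∈ center (X ⧸ P) → ∀ b, ⁅b, a⁆ ∈ W := fun a ha b => by
      rw [← commutatorElement_inv]; exact inv_mem (c1 a ha b)
    have hXE' : ⁅π x, π e⁆ ∈ W := by rw [hXE]; exact subset_closure rfl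
    intro a ha b hb
    simp only [Set.mem_insert_iff, Set.mem_singleton_iff] at ha hb
    rcases ha with rfl | rfl | rfl | rfl
    · rcases hb with rfl | rfl | rfl | rfl
      · rw [commutatorElement_self]; exact one_mem _
      · exact hXE'
      · exact c2 _ hzc _
      · exact c2 _ huc _
    · rcases hb with rfl | rfl | rfl | rfl
      · rw [← commutatorElement_inv]; exact inv_mem hXE'
      · rw [commutatorElement_self]; exact one_mem _
      · exact c2 _ hzc _
      · exact c2 _ huc _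
    · exact c1 _ hzc _
    · exact c1 _ huc _
  have hWcen : W ≤ center (X ⧸ P) := (closure_le _).2 (Set.singleton_subset_iff.2 hzc)
  have hcc : CommCentral (X ⧸ P) := commCentral_of_gens hgenY fun a ha b hb g =>
    (mem_center_iff.1 (hWcen (hWgen a ha b hb)) g).symm
  have htrip : ∀ a b g : X, ⁅⁅a, b⁆, g⁆ ∈ P := fun a b g => by
    rw [← h0, map_commutatorElement, map_commutatorElement, commutatorElement_eq_one_iff_mul_comm]
    exact hcc _ _ _
  have hpows : ∀ g : X, g ^ p ∈ P := by
    have hz1 : π z ^ p = 1 := by rw [← map_pow, f.zp, map_one]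
    have hWc : ∀ a b : X ⧸ P, ⁅a, b⁆ ∈ W := commutator_le_of_gens hcc hgenY hWgen
    have hWp : ∀ a ∈ W, a ^ p = 1 := fun a ha => by
      obtain ⟨i, rfl⟩ := mem_closure_singleton.1 ha
      rw [← zpow_natCast _ p, ← zpow_mul, mul_comm, zpow_mul, zpow_natCast, hz1, one_zpow]
    have hm := mul_pow_p (d.pgroup.to_quotient P) d.five (A := W) (B := ⊥) hWc
      (fun a ha g => by
        obtain ⟨i, rfl⟩ := mem_closure_singleton.1 ha
        exact mem_bot.2 (comm_one_left ((show Commute (π z) g from (mem_center_iff.1 hzc g).symm).zpow_left i)))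
      (fun a ha g => by rw [mem_bot.1 ha, commutatorElement_one_left]) hWp
    intro g
    rw [← h0, map_pow]
    refine exponent_of_gens hm hgenY ?_ _
    rintro a (rfl | rfl | rfl | rfl)
    · rw [← map_pow, h0]; exact f.xp
    · rw [← map_pow, f.ep, map_one]
    · exact hz1
    · rw [← map_pow, h0]; exact subset_closure rfl
  have hxe1 : ∀ a ∈ N, Commute z a → Commute ⁅x, e⁆ a := fun a ha hza => by
    rw [cxe]; exact hza.mul_left (hgc g1 hg1 a)
  have hxex : Commute ⁅x, e⁆ x := by rw [cxe]; exact hxz.symm.mul_left (hgc g1 hg1 x)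
  have hzn : ∀ i : ℕ, z * u ^ i ∈ Phi p N → False := fun i hi =>
    one_ne_zero (α := ZMod p) (by simpa using (d.indep 0 1 i (by simpa using hi)).2.1)
  -- the exact coordinates
  have hcoord : ∀ a ∈ N, ∃ i j : ℕ, ∃ w ∈ zpowers u, a = e ^ i * z ^ j * w := by
    intro a ha
    obtain ⟨i, j, l, hco⟩ := v.coords a ha
    obtain ⟨g, hg, cg⟩ := hcn (e ^ i * z ^ j * u ^ l) a (by
      rw [hco, map_mul, map_mul, map_pow, map_pow, map_pow])
    exact ⟨i, j, u ^ l * g, mul_mem (pow_mem (mem_zpowers u) l) (hPu hg), by rw [cg, mul_assoc]⟩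
  have hcenN : ∀ g ∈ center X, g ∈ N := by
    intro g hg
    obtain ⟨a, ha, i, rfl⟩ := d.decomp g
    have hit : π0 x ^ i * π0 e * (π0 x ^ i)⁻¹ = π0 e * π0 z ^ i := conj_iter v.xe v.xz i
    have h1 := congrArg π0 (mem_center_iff.1 hg e)
    simp only [map_mul, map_pow] at h1
    have h2 : π0 z ^ i = 1 := by
      have h3 : π0 a * (π0 x ^ i * π0 e * (π0 x ^ i)⁻¹) * (π0 a)⁻¹ = π0 e := by
        calc _ = π0 a * π0 x ^ i * π0 e * (π0 a * π0 x ^ i)⁻¹ := by group
          _ = _ := by rw [← h1, mul_inv_cancel_right]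
      rw [hit, ((v.comm a ha _ d.eN).mul_right ((v.comm a ha _ d.zN).pow_right i)).eq,
        mul_inv_cancel_right, mul_eq_left] at h3
      exact h3
    have hi := (v.indep 0 i 0 (by rw [pow_zero, pow_zero, one_mul, mul_one, h2])).2.1
    obtain ⟨q, hq⟩ := (ZMod.natCast_eq_zero_iff i p).1 hi
    rw [hq, pow_mul]
    exact mul_mem ha (pow_mem d.xp_mem q)
  refine ⟨f, ucen, hxz, hpows, htrip, fun hΦ => ?_, hzn, fun hc => ?_, fun hc => ?_⟩
  · -- the commutator is central when `Φ` is trivial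
    have hce : Commute e z := commutatorElement_eq_one_iff_commute.1 (by
      have := hΦ.le (mem_sup_left (comm_mem_lcs_one d.eN d.zN) : ⁅e, z⁆ ∈ Phi p N)
      exact mem_bot.1 this)
    refine mem_center_iff.2 fun g => ?_
    obtain ⟨a, ha, i, rfl⟩ := d.decomp g
    have hza : Commute z a := by
      have hle : N ≤ centralizer ({z} : Set X) := d.closure_eq.ge.trans ((closure_le _).2 (by
        rintro y (rfl | rfl | rfl) <;> rw [SetLike.mem_coe, mem_centralizer_singleton_iff]
        exacts [hce.eq, f.czu.eq.symm]))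
      exact (mem_centralizer_singleton_iff.1 (hle ha)).symm
    exact ((hxe1 a ha hza).symm.mul_left (hxex.symm.pow_left i)).eq
  · -- nonabelian
    have hcz : ∀ g ∈ N, (∀ a ∈ N, Commute g a) → g ∈ closure ({u} : Set X) := by
      intro g hg hgN
      obtain ⟨i, j, w, hw, rfl⟩ := hcoord g hg
      have hcl : Cl2 N := fun a ha b hb c hc => by
        have h1 : ⁅a, b⁆ ∈ P := f.phi.le (mem_sup_left (comm_mem_lcs_one ha hb))
        exact hgc _ h1 c
      have hwN : w ∈ N := zpowers_le.2 d.uN hw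
      have hc1 : ∀ a ∈ N, ⁅w, a⁆ = 1 := fun a ha => comm_one_left (hzu w hw a ha)
      have e1 := comm_one_left (hgN z d.zN)
      rw [hcl.mul_left (mul_mem (pow_mem d.eN i) (pow_mem d.zN j)) hwN d.zN, hc1 z d.zN, mul_one,
        hcl.mul_left (pow_mem d.eN i) (pow_mem d.zN j) d.zN, hcl.pow_left d.eN d.zN,
        comm_one_left ((Commute.refl z).pow_left j), mul_one] at e1
      have e2 := comm_one_left (hgN e d.eN)
      rw [hcl.mul_left (mul_mem (pow_mem d.eN i) (pow_mem d.zN j)) hwN d.eN, hc1 e d.eN, mul_one,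
        hcl.mul_left (pow_mem d.eN i) (pow_mem d.zN j) d.eN, comm_one_left ((Commute.refl e).pow_left i),
        one_mul, hcl.pow_left d.zN d.eN, ← commutatorElement_inv, inv_pow, inv_eq_one] at e2
      have hi : (i : ZMod p) = 0 := by
        by_contra hne
        exact hc (eq_one_of_pow_eq f.cp (e1.trans (pow_zero _).symm) (by simpa using hne))
      have hj : (j : ZMod p) = 0 := by
        by_contra hne
        exact hc (eq_one_of_pow_eq f.cp (e2.trans (pow_zero _).symm) (by simpa using hne))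
      rw [pow_eq_pow_of_cast f.ep (b := 0) (by rw [hi, Nat.cast_zero]), pow_zero, one_mul,
        pow_eq_pow_of_cast f.zp (b := 0) (by rw [hj, Nat.cast_zero]), pow_zero, one_mul,
        ← zpowers_eq_closure]
      exact hw
    refine ⟨le_antisymm (fun g hg => hcz g (hcenN g hg) fun a _ => (mem_center_iff.1 hg a).symm) ?_,
      hcz, fun w hw hle => ?_⟩
    · rw [← zpowers_eq_closure]; exact zpowers_le.2 ucen
    · have h1 : ⁅e, z⁆ ∈ zpowers w := hle (commutator_mem_commutator (mem_top e) (mem_top z))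
      have h2 : ⁅x, e⁆ ∈ zpowers w := hle (commutator_mem_commutator (mem_top x) (mem_top e))
      have hw1 : w ≠ 1 := by
        rintro rfl; rw [zpowers_one_eq_bot, mem_bot] at h1; exact hc h1
      have h3 : zpowers ⁅e, z⁆ = zpowers w := by
        refine eq_of_le_of_card_ge (zpowers_le.2 h1) ?_
        rw [Nat.card_zpowers, Nat.card_zpowers, orderOf_eq_prime hw hw1, orderOf_eq_prime f.cp hc]
      have h4 : ⁅x, e⁆ ∈ Phi p N := f.phi.ge (zpowers_le.2 f.cmem (h3.ge h2))
      exact hzn 0 (by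
        rw [pow_zero, mul_one]
        have := mul_mem h4 (inv_mem (f.phi.ge hg1))
        rwa [cxe, mul_inv_cancel_right] at this)
  · -- abelian
    have hce : Commute e z := commutatorElement_eq_one_iff_commute.1 hc
    have hab : ∀ a ∈ N, ∀ b ∈ N, Commute a b := by
      have hle : N ≤ centralizer (N : Set X) := by
        conv_rhs => rw [← d.closure_eq, centralizer_closure]
        refine d.closure_eq.ge.trans ((closure_le _).2 ?_)
        rintro y (rfl | rfl | rfl) <;> rw [SetLike.mem_coe, mem_centralizer_iff] <;>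
          rintro b (rfl | rfl | rfl)
        exacts [rfl, hce.eq.symm, f.ceu.eq.symm, hce.eq, rfl, f.czu.eq.symm, f.ceu.eq, f.czu.eq, rfl]
      exact fun a ha b hb => (mem_centralizer_iff.1 (hle ha) b hb).symm
    have hxeN : ⁅x, e⁆ ∈ N := by
      rw [cxe]; exact mul_mem d.zN (hPN g1 hg1)
    have hz1c : ⁅x, e⁆ ∈ center X := mem_center_iff.2 fun g => by
      obtain ⟨a, ha, i, rfl⟩ := d.decomp g
      exact ((hab a ha _ hxeN).mul_left (hxex.symm.pow_left i)).eq
    have hp1 : ⁅x, e⁆ ^ p = 1 := by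
      have h1 : (⁅x, e⁆ * e) ^ p = (x * e * x⁻¹) ^ p := by
        rw [commutatorElement_def, inv_mul_cancel_right]
      rw [(hab _ hxeN e d.eN).mul_pow, conj_pow, f.ep, mul_one, mul_one, mul_inv_cancel] at h1
      exact h1
    have hzy : ∀ y ∈ ({x, e, z, u} : Set X), ∀ y' ∈ ({x, e, z, u} : Set X), ⁅y, y'⁆ ∈ zpowers ⁅x, e⁆ := by
      have cu' : ∀ a, Commute u a := fun a => (mem_center_iff.1 ucen a).symm
      rintro y (rfl | rfl | rfl | rfl) y' (rfl | rfl | rfl | rfl)
      all_goals first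
        | (rw [commutatorElement_self]; exact one_mem _)
        | exact mem_zpowers _
        | (rw [← zpowers_inv, commutatorElement_inv]; exact mem_zpowers _)
        | (rw [comm_one_left (cu' _)]; exact one_mem _)
        | (rw [comm_one_left (cu' _).symm]; exact one_mem _)
        | (rw [comm_one_left hxz]; exact one_mem _)
        | (rw [comm_one_left hxz.symm]; exact one_mem _)
        | (rw [comm_one_left hce]; exact one_mem _)
        | (rw [comm_one_left hce.symm]; exact one_mem _)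
    have hgen : closure ({x, e, z, u} : Set X) = ⊤ := by
      refine top_le_iff.1 fun g _ => ?_
      obtain ⟨a, ha, i, rfl⟩ := d.decomp g
      refine mul_mem ?_ (pow_mem (subset_closure (by simp)) i)
      refine (d.closure_eq.ge.trans (closure_mono ?_)) ha
      simp
    have hzc' : zpowers ⁅x, e⁆ ≤ center X := zpowers_le.2 hz1c
    have hccX : CommCentral X := commCentral_of_gens hgen fun a ha b hb g =>
      (mem_center_iff.1 (hzc' (hzy a ha b hb)) g).symm
    refine ⟨le_antisymm ?_ (zpowers_le.2 (commutator_mem_commutator (mem_top x) (mem_top e))), hp1,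
      hab, le_antisymm ?_ ((closure_le _).2 ?_)⟩
    · rw [_root_.commutator_def, commutator_le]
      exact fun a _ b _ => commutator_le_of_gens hccX hgen hzy a b
    · intro g hg
      obtain ⟨i, j, w, hw, rfl⟩ := hcoord g (hcenN g hg)
      have e1 : Commute (e ^ i) x := by
        have h1 := (mem_center_iff.1 hg x).symm
        have c1 : Commute (z ^ j * w) x :=
          (hxz.symm.pow_left j).mul_left ((mem_center_iff.1 ((zpowers_le.2 ucen) hw) x).symm)
        have h2 : Commute (e ^ i * (z ^ j * w)) x := by rw [← mul_assoc]; exact h1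
        have h3 := h2.mul_left c1.inv_left
        rwa [mul_inv_cancel_right] at h3
      have hi : (i : ZMod p) = 0 := by
        have h2 : π0 x * π0 e ^ i * (π0 x)⁻¹ = π0 e ^ i := by
          rw [← map_pow, (e1.symm.map π0).eq, mul_inv_cancel_right]
        rw [← conj_pow, v.xe, (v.comm _ d.eN _ d.zN).mul_pow, mul_eq_left] at h2
        exact (v.indep 0 i 0 (by rw [pow_zero, pow_zero, one_mul, mul_one, h2])).2.1
      rw [pow_eq_pow_of_cast f.ep (b := 0) (by rw [hi, Nat.cast_zero]), pow_zero, one_mul]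
      have hzm : z ∈ closure ({⁅x, e⁆, u} : Set X) := by
        have : z = ⁅x, e⁆ * g1⁻¹ := by rw [cxe, mul_inv_cancel_right]
        rw [this]
        exact mul_mem (subset_closure (by simp))
          (inv_mem ((zpowers_le.2 (subset_closure (by simp))) (hPu hg1)))
      exact mul_mem (pow_mem hzm j) ((zpowers_le.2 (subset_closure (by simp))) hw)
    · rintro y (rfl | rfl)
      exacts [hz1c, ucen]

end Cfsg.Agent.RankThreeEss.Pearl
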