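import Cfsg.Agent.RankThreeEss.Reg3
import Cfsg.Agent.RankThreeEss.Pearl.PairExact

/-!
A regular maximal subgroup among the others.
-/

set_option autoImplicit false
set_option linter.style.haveILetI false

namespace Cfsg.Agent.RankThreeEss.Pearl

open Subgroup
open scoped commutatorElement

variable {p : ℕ} [hp : Fact p.Prime] {X : Type*} [Group X] [Finite X] {E : Subgroup X} [hEn : E.Normal]
  {x : X} {e t z : E}

/-- Where the `p`-th power of the outside element lies. -/
theorem xp_line (h : RegData p E x e t z) [((frattini E).map E.subtype).Normal] :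
    QuotientGroup.mk' ((frattini E).map E.subtype) (x ^ p) ∈
      zpowers (QuotientGroup.mk' ((frattini E).map E.subtype) (z : X)) := by
  haveI : NeZero p := ⟨hp.out.ne_zero⟩
  set F := frattini E with hF
  obtain ⟨hqc, hqe⟩ := h.hyp.quot_props
  set π := QuotientGroup.mk' F with hπ
  have hxp : x ^ p ∈ E := h.index ▸ pow_index_mem E x
  set y : E := ⟨x ^ p, hxp⟩ with hy
  set c := MulAut.conjNormal (H := E) x with hc
  have hch : ∀ u : E, u ∈ F → c u ∈ F := fun u hu => by
    have := characteristic_iff_map_eq.1 (inferInstance : (frattini E).Characteristic) c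
    exact this.le (mem_map_of_mem c.toMonoidHom hu)
  have hcy : c y = y := Subtype.ext (by
    rw [hc, MulAut.conjNormal_apply, hy]
    show x * x ^ p * x⁻¹ = x ^ p
    rw [← pow_succ', pow_succ, mul_inv_cancel_right])
  obtain ⟨i, j, l, hco⟩ := h.hyp.coords y
  have hπc : ∀ u w : E, Cg u w → π (c u) = π (c w) := fun u w huw => by
    refine QuotientGroup.eq.2 ?_
    rw [← map_inv, ← map_mul]
    exact hch _ huw
  have key : π y = π (e ^ i * t ^ (i + j) * z ^ (j + l)) := by
    conv_lhs => rw [← hcy, hπc _ _ hco]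
    simp only [map_mul, map_pow]
    rw [show π (c e) = π (e * t) from QuotientGroup.eq.2 h.xe,
      show π (c t) = π (t * z) from QuotientGroup.eq.2 h.xt,
      show π (c z) = π z from QuotientGroup.eq.2 h.xz, map_mul, map_mul,
      (show Commute (π e) (π t) from hqc _ _).mul_pow, (show Commute (π t) (π z) from hqc _ _).mul_pow,
      pow_add, pow_add]
    simp only [mul_assoc]
  have key2 : π y = π (e ^ i * t ^ j * z ^ l) := QuotientGroup.eq.2 hco
  have hij : π (t ^ i * z ^ j) = 1 := by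
    rw [key2, pow_add, pow_add] at key
    simp only [map_mul] at key ⊢
    have e1 : π (e ^ i) * (π (t ^ i) * π (t ^ j)) * (π (z ^ j) * π (z ^ l)) =
        π (t ^ i) * π (z ^ j) * (π (e ^ i) * π (t ^ j) * π (z ^ l)) := by
      rw [hqc (π (e ^ i)), mul_assoc (π (t ^ i)) (π (t ^ j)),
        (show Commute (π (t ^ j) * π (e ^ i)) (π (z ^ j)) from hqc _ _).mul_mul_mul_comm,
        hqc (π (t ^ j))]
    rw [e1] at key
    exact right_eq_mul.1 key
  rw [hπ, QuotientGroup.mk'_apply, QuotientGroup.eq_one_iff] at hij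
  obtain ⟨-, hi0, hj0⟩ := h.hyp.indep (i := 0) (j := i) (l := j) (by simpa using hij)
  have hy' : π y = π z ^ l := by
    rw [key2, map_mul, map_mul, map_pow, map_pow, map_pow, pow_eq_pow_of_cast (hqe _) (b := 0)
      (by rw [hi0, Nat.cast_zero]), pow_eq_pow_of_cast (hqe (π t)) (b := 0)
      (by rw [hj0, Nat.cast_zero]), pow_zero, pow_zero, one_mul, one_mul]
  rw [← map_pow] at hy'
  refine mem_zpowers_iff.2 ⟨(l : ℤ), ?_⟩
  rw [zpow_natCast, ← map_pow, QuotientGroup.mk'_apply, QuotientGroup.mk'_apply, QuotientGroup.eq]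
  exact ⟨(z ^ l)⁻¹ * y, QuotientGroup.eq.1 hy'.symm, rfl⟩

omit hp hEn in
theorem comm_le_agemo {R : Subgroup X} (h : commutator R ≤ agemo p (⊤ : Subgroup R)) :
    ⁅R, R⁆ ≤ agemo p R := by
  rw [← agemo_map_subtype, ← map_subtype_commutator]
  exact map_mono h

/-- Another maximal subgroup with derived subgroup among the powers has larger exponent. -/
theorem other_max (h : RegData p E x e t z) {n : ℕ}
    (hn : ∀ a : E, a ∉ frattini E → a ^ p ^ n ≠ 1) {B : Subgroup X} (hB : B.index = p) (hne : B ≠ E)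
    (hBc : ⁅B, B⁆ ≤ agemo p B) : ∃ b ∈ B, b ^ p ^ (n + 1) ≠ 1 := by
  haveI : NeZero p := ⟨hp.out.ne_zero⟩
  haveI hΦn : ((frattini E).map E.subtype).Normal := ⟨fun g hg y => by
    obtain ⟨g, hg, rfl⟩ := hg
    refine ⟨MulAut.conjNormal y g, ?_, MulAut.conjNormal_apply y g⟩
    exact (characteristic_iff_map_eq.1 (inferInstance : (frattini E).Characteristic)
      (MulAut.conjNormal y)).le (mem_map_of_mem (MulAut.conjNormal y).toMonoidHom hg)⟩
  set π := QuotientGroup.mk' ((frattini E).map E.subtype) with hπ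
  have hxp := xp_line h
  obtain ⟨hmul, hexp, het, hm, hz⟩ :=
    h.quot π (QuotientGroup.mk'_surjective _) (QuotientGroup.ker_mk' _) hxp
  have h0 : ∀ g : X, π g = 1 ↔ g ∈ (frattini E).map E.subtype := fun g => QuotientGroup.eq_one_iff g
  obtain ⟨hBn, hBc', hBp⟩ := max_props h.pgroup hB
  obtain ⟨l, hl⟩ := (isOfFinOrder_of_finite _).mem_powers_iff_mem_zpowers.2 hxp
  change π (z : X) ^ l = π (x ^ p) at hl
  obtain ⟨b, hb, hbE⟩ : ∃ b ∈ B, b ∉ E := by
    by_contra! hall
    exact hne (max_eq_of_le hB h.index hall)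
  obtain ⟨a, i, rfl⟩ := h.decomp b
  have hi : (i : ZMod p) ≠ 0 := fun e0 => hbE (mul_mem a.2 (by
    obtain ⟨k, rfl⟩ := (ZMod.natCast_eq_zero_iff i p).1 e0
    rw [pow_mul]
    exact pow_mem (h.index ▸ pow_index_mem E x) k))
  have hbp : π (((a : X) * x ^ i) ^ p) = π (z : X) ^ (l * i) := by
    rw [map_pow, map_mul, hmul, hexp, one_mul, map_pow, ← pow_mul, mul_comm i, pow_mul, ← map_pow, ← hl,
      ← pow_mul]
  by_cases hl0 : (l : ZMod p) = 0
  · exfalso
    have hag : agemo p B ≤ (frattini E).map E.subtype := agemo_le_iff.2 fun g _ => by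
      obtain ⟨c, j, rfl⟩ := h.decomp g
      rw [← h0, map_pow, map_mul, hmul, hexp, one_mul, map_pow, ← pow_mul, mul_comm j, pow_mul,
        ← map_pow, ← hl, ← pow_mul]
      obtain ⟨q, rfl⟩ := (ZMod.natCast_eq_zero_iff l p).1 hl0
      rw [mul_assoc, pow_mul, hexp, one_pow]
    have hker : ∀ c, π c = 1 → c ∈ B := by
      intro c hc
      rw [h0, h.frattini_eq, agemo_map_subtype] at hc
      exact (agemo_le_iff.2 fun y _ => hBp y) hc
    have htB : (t : X) ∈ B := by
      have h1 : ⁅x, (e : X)⁆⁻¹ * (t : X) ∈ B := hker _ (by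
        rw [map_mul, map_inv, map_commutatorElement, ← het, inv_mul_cancel])
      have := mul_mem (hBc' x e) h1
      rwa [mul_inv_cancel_left] at this
    have h1 : π ⁅(a : X) * x ^ i, (t : X)⁆ = 1 :=
      (h0 _).2 (hag (hBc (commutator_mem_commutator hb htB)))
    rw [map_commutatorElement, hm] at h1
    exact hi (hz i h1)
  · refine ⟨_, hb, fun hb1 => ?_⟩
    set y : E := ⟨((a : X) * x ^ i) ^ p, h.index ▸ pow_index_mem E _⟩ with hy
    refine hn y (fun hyF => ?_) (Subtype.ext ?_)
    · have h1 : π (y : X) = 1 := (h0 _).2 (mem_map_of_mem E.subtype hyF)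
      rw [show (y : X) = ((a : X) * x ^ i) ^ p from rfl, hbp] at h1
      exact mul_ne_zero hl0 hi (by simpa using hz _ h1)
    · rw [SubmonoidClass.coe_pow, OneMemClass.coe_one]
      show (((a : X) * x ^ i) ^ p) ^ p ^ n = 1
      rw [← pow_mul, ← pow_succ', hb1]

variable {R : Subgroup X} [R.Normal] {y : X} {e' t' z' : R}

/-- Two regular maximal subgroups coincide. -/
theorem reg_reg (hE : RegData p E x e t z) {n : ℕ} (hn1 : ∀ a : E, a ^ p ^ (n + 1) = 1)
    (hn : ∀ a : E, a ∉ frattini E → a ^ p ^ n ≠ 1) (hR : RegData p R y e' t' z') {m : ℕ}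
    (hm1 : ∀ a : R, a ^ p ^ (m + 1) = 1) (hm : ∀ a : R, a ∉ frattini R → a ^ p ^ m ≠ 1) : E = R := by
  by_contra hne
  obtain ⟨b, hb, hb1⟩ := other_max hE hn hR.index (Ne.symm hne) (comm_le_agemo hR.omega)
  obtain ⟨c, hc, hc1⟩ := other_max hR hm hE.index hne (comm_le_agemo hE.omega)
  have e1 : b ^ p ^ (m + 1) = 1 := congrArg Subtype.val (hm1 ⟨b, hb⟩)
  have e2 : c ^ p ^ (n + 1) = 1 := congrArg Subtype.val (hn1 ⟨c, hc⟩)
  rcases le_total m n with hle | hle
  · refine hb1 ?_
    obtain ⟨k, hk⟩ := pow_dvd_pow p (Nat.add_le_add_right hle 1)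
    rw [hk, pow_mul, e1, one_pow]
  · refine hc1 ?_
    obtain ⟨k, hk⟩ := pow_dvd_pow p (Nat.add_le_add_right hle 1)
    rw [hk, pow_mul, e2, one_pow]

/-- A regular maximal subgroup does not coexist with a transvection one. -/
theorem reg_pair (hE : RegData p E x e t z) {N : Subgroup X} {h : MulAut X} {σ : X → X} {k : ZMod p}
    {x' e'' z'' u : X} (d : TD p N h σ k x' e'' z'' u) (P : PairOut p N h k x' e'' z'' u)
    (hN3 : (frattini N).index = p ^ 3) : False := by
  haveI hΦn : ((frattini E).map E.subtype).Normal := ⟨fun g hg y => by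
    obtain ⟨g, hg, rfl⟩ := hg
    refine ⟨MulAut.conjNormal y g, ?_, MulAut.conjNormal_apply y g⟩
    exact (characteristic_iff_map_eq.1 (inferInstance : (frattini E).Characteristic)
      (MulAut.conjNormal y)).le (mem_map_of_mem (MulAut.conjNormal y).toMonoidHom hg)⟩
  set π := QuotientGroup.mk' ((frattini E).map E.subtype) with hπ
  obtain ⟨-, -, het, hm, hz⟩ :=
    hE.quot π (QuotientGroup.mk'_surjective _) (QuotientGroup.ker_mk' _) (xp_line hE)
  have hPle : (frattini E).map E.subtype ≤ closure ({u ^ p} : Set X) := by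
    rw [hE.frattini_eq, agemo_map_subtype]
    exact agemo_le_iff.2 fun g _ => P.pows g
  have hcard : Nat.card ↥(closure ({u ^ p} : Set X)) = Nat.card ↥((frattini E).map E.subtype) := by
    rw [← P.facts.phi, ← phi_eq d.pgN, card_map_of_injective (Subgroup.subtype_injective _),
      card_map_of_injective (Subgroup.subtype_injective _)]
    have e1 := (frattini E).card_mul_index
    have e2 := (frattini N).card_mul_index
    have e3 := E.card_mul_index
    have e4 := N.card_mul_index
    rw [hE.hyp.index] at e1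
    rw [hN3] at e2
    rw [hE.index, ← e1] at e3
    rw [d.index, ← e2, ← e3] at e4
    exact Nat.eq_of_mul_eq_mul_right (pow_pos hp.out.pos 3) (Nat.eq_of_mul_eq_mul_right hp.out.pos e4)
  have heq := eq_of_le_of_card_ge hPle hcard.le
  have h1 : π ⁅⁅x, (e : X)⁆, x⁆ = 1 :=
    (QuotientGroup.eq_one_iff _).2 (heq.ge (P.trip x e x))
  rw [map_commutatorElement, map_commutatorElement, ← het, ← commutatorElement_inv, inv_eq_one] at h1
  have h2 := hm 1 1
  rw [Subgroup.coe_one, one_mul, pow_one, h1] at h2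
  simpa using hz 1 h2.symm

end Cfsg.Agent.RankThreeEss.Pearl
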