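import Cfsg.Agent.RankThreeEss.Pearl.Extract
import Cfsg.Agent.RankThreeEss.Pearl.Reg

/-!
Consequences for the whole group: shapes of maximal subgroups excluding each other, and tools for normality.
-/

set_option autoImplicit false
set_option linter.style.haveILetI false

namespace Cfsg.Agent.RankThreeEss.Pearl

open Cfsg Cfsg.FusionSystem Cfsg.Agent.FusSys Subgroup
open scoped commutatorElement

universe u

variable {p : ℕ} [hp : Fact p.Prime]

section Groups

variable {X : Type*} [Group X] {N : Subgroup X}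

omit hp in
theorem Gen2.map {X' : Type*} [Group X'] (f : X →* X') (hN : Gen2 N) : Gen2 (N.map f) := by
  obtain ⟨a, ha, b, hb, hle⟩ := hN
  refine ⟨f a, mem_map_of_mem f ha, f b, mem_map_of_mem f hb, (map_mono hle).trans ?_⟩
  rw [MonoidHom.map_closure, Set.image_insert_eq, Set.image_singleton]

omit hp in
/-- A twisted maximal subgroup is invariant under every automorphism. -/
theorem Twisted.map_eq (T : Twisted p N) (hidx : N.index = p) (c : MulAut X) :
    N.map c.toMonoidHom = N := by
  by_contra hne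
  refine (T.other _ ((index_map_equiv N c).trans hidx) hne).1 ⟨?_, T.gen2.map _⟩
  rw [← Subgroup.map_lowerCentralSeries, T.lcs3, Subgroup.map_bot]

variable [Finite X]

theorem not_gen2 {b1 b2 b3 : N} (h : EHyp p b1 b2 b3) : ¬ Gen2 N := by
  rintro ⟨a, ha, b, hb, hle⟩
  refine h.not_two ⟨a, ha⟩ ⟨b, hb⟩ (top_le_iff.1 fun g _ => mem_sup_left ?_)
  have h1 : (g : X) ∈ (closure ({⟨a, ha⟩, ⟨b, hb⟩} : Set N)).map N.subtype := by
    rw [MonoidHom.map_closure, Set.image_insert_eq, Set.image_singleton]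
    exact hle g.2
  obtain ⟨g', hg', hgg⟩ := h1
  rwa [← Subtype.ext hgg]

/-- A transvection maximal subgroup leaves the group of class at most three. -/
theorem pair_class_three {h : MulAut X} {σ : X → X} {k : ZMod p} {x e z u : X}
    (_d : TD p N h σ k x e z u) (P : PairOut p N h k x e z u) :
    (⊤ : Subgroup X).lowerCentralSeries 3 = ⊥ := by
  set W := closure ({u ^ p} : Set X) with hW
  have hWc : ∀ w ∈ W, ∀ g : X, Commute w g := fun w hw g => by
    have h1 : W ≤ center X := (closure_le _).2 (Set.singleton_subset_iff.2 (pow_mem P.ucen p))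
    exact (mem_center_iff.1 (h1 hw) g).symm
  let K : Subgroup X :=
    { carrier := {a | ∀ g, ⁅a, g⁆ ∈ W}
      one_mem' := fun g => by rw [commutatorElement_one_left]; exact one_mem _
      mul_mem' := fun {a b} ha hb g => by
        rw [show ⁅a * b, g⁆ = a * ⁅b, g⁆ * a⁻¹ * ⁅a, g⁆ by simp only [commutatorElement_def]; group,
          ((hWc _ (hb g) a).symm).eq, mul_inv_cancel_right]
        exact mul_mem (hb g) (ha g)
      inv_mem' := fun {a} ha g => by
        rw [show ⁅a⁻¹, g⁆ = a⁻¹ * ⁅a, g⁆⁻¹ * a by simp only [commutatorElement_def]; group,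
          ((hWc _ (inv_mem (ha g)) a⁻¹).symm).eq, inv_mul_cancel_right]
        exact inv_mem (ha g) }
  have h1 : (⊤ : Subgroup X).lowerCentralSeries 1 ≤ K := by
    rw [lcs_one, commutator_le]
    exact fun a _ b _ g => P.trip a b g
  have h2 : (⊤ : Subgroup X).lowerCentralSeries 2 ≤ W := by
    rw [Subgroup.lowerCentralSeries_succ, commutator_le]
    exact fun a ha g _ => h1 ha g
  rw [eq_bot_iff, Subgroup.lowerCentralSeries_succ, commutator_le]
  exact fun a ha g _ => mem_bot.2 (comm_one_left (hWc a (h2 ha) g))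

end Groups

variable {Ω : Type u} [Group Ω] {S : Subgroup Ω} {F : FusionSystem S} {E : Subgroup Ω}

/-- The shapes of an essential subgroup that is no pearl, once it is normal in `S`. -/
def Kind (F : FusionSystem S) (p : ℕ) (E : Subgroup Ω) : Prop :=
  Twisted p (E.subgroupOf S) ∨ ((frattini (E.subgroupOf S)).index = p ^ 3 ∧
    (RegAt p E S ∨ PairAt F p E S))

omit hp in
theorem s_ne_bot (hsr : ¬ SectionalPRankLE p 2 S) (hp1 : 1 ≤ p) : S ≠ ⊥ := by
  rintro rfl
  refine hsr fun H N _ A _ _ => ?_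
  haveI : Subsingleton (H ⧸ N) := (QuotientGroup.mk'_surjective N).subsingleton
  exact (Finite.card_le_one_iff_subsingleton.2 inferInstance).trans (Nat.one_le_pow _ _ hp1)

omit hp in
theorem essential_ne_bot (hne : S ≠ ⊥) (hE : F.IsEssential p E) : E ≠ ⊥ := by
  rintro rfl
  refine hne (le_bot_iff.1 fun s hs => centric_self hE.1 ⟨hs, mem_centralizer_iff.2 ?_⟩)
  intro b hb
  rw [SetLike.mem_coe, mem_bot] at hb
  rw [hb, one_mul, mul_one]

omit hp in
theorem eq_bot_of_normal [Finite S] (hO : F.core = ⊥) {Q : Subgroup Ω} (h : F.IsNormal Q) : Q = ⊥ :=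
  le_bot_iff.1 ((le_core h).trans hO.le)

omit hp in
theorem pearl_transfer [Finite S] [Fact p.Prime] {M : Subgroup Ω} (hEM : E ≤ M) (hES : E ≤ S)
    (h : IsPearl p (E.subgroupOf M)) :
    (Cfsg.IsElementaryAbelian p E ∧ Nat.card E = p ^ 2) ∨
      (Cfsg.IsExtraspecial p E ∧ Nat.card E = p ^ 3 ∧ ∀ a ∈ E, a ^ p = 1) := by
  haveI := finite_of_le hES
  set ι : E.subgroupOf M ≃* E := subgroupOfEquivOfLe hEM
  have hexp : (∀ a ∈ E.subgroupOf M, a ^ p = 1) → ∀ a ∈ E, a ^ p = 1 := fun h1 a ha =>
    congrArg Subtype.val (h1 ⟨a, hEM ha⟩ (mem_subgroupOf.2 ha))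
  rcases h with ⟨⟨hc, he⟩, hcard⟩ | ⟨hx, hcard, he⟩
  · refine Or.inl ⟨⟨⟨⟨fun a b => ?_⟩⟩, hexp he⟩, (Nat.card_congr ι.toEquiv).symm.trans hcard⟩
    obtain ⟨a, rfl⟩ := ι.surjective a
    obtain ⟨b, rfl⟩ := ι.surjective b
    rw [← map_mul, ← map_mul, hc.is_comm.comm a b]
  · have hc3 : Nat.card E = p ^ 3 := (Nat.card_congr ι.toEquiv).symm.trans hcard
    refine Or.inr ⟨extraspecial_of_cube hc3 fun hab => ?_, hc3, hexp he⟩
    have htop : center (E.subgroupOf M) = ⊤ := top_le_iff.1 fun a _ => mem_center_iff.2 fun b =>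
      ι.injective (by rw [map_mul, map_mul, hab.is_comm.comm (ι b) (ι a)])
    have h1 := hx.2
    rw [htop, card_top, hcard] at h1
    exact (Nat.pow_right_injective (Fact.out : p.Prime).two_le).ne (by norm_num : (3 : ℕ) ≠ 1)
      (h1.trans (pow_one p).symm)

/-- Every essential subgroup is a pearl or has one of the shapes. -/
theorem kind_of_essential [Finite S] (hp5 : 5 ≤ p) (hS : IsPGroup p S) (hF : F.IsSaturated p)
    (hsr : SectionalPRankLE p 3 S) (hE : F.IsEssential p E) :
    ((Cfsg.IsElementaryAbelian p E ∧ Nat.card E = p ^ 2) ∨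
      (Cfsg.IsExtraspecial p E ∧ Nat.card E = p ^ 3 ∧ ∀ a ∈ E, a ^ p = 1)) ∨
    ((E.subgroupOf S).index = p ∧ normalizerIn S E = S ∧ Kind F p E) := by
  have hES : E ≤ S := hE.1.1
  haveI := finite_of_le hES
  rcases frattini_cases hS hsr hE with hrk | hrk
  · obtain ⟨hidx, hP | hT⟩ := extract_two hp5 hS hF hsr hE hrk (M := normalizerIn S E) rfl
    · exact Or.inl (pearl_transfer (le_normalizerIn hES) hES hP)
    have hMS : normalizerIn S E ≤ S := inf_le_left
    haveI := finite_of_le hMS
    have hNS : normalizerIn S E = S := by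
      refine eq_of_normalizerIn_eq hS hMS (le_antisymm ?_ (le_normalizerIn hMS))
      intro g hg
      refine ⟨hg.1, mem_normalizer_fintype (S := (E : Set Ω)) fun a ha => ?_⟩
      have h1 := hT.map_eq hidx
        ((normalizerIn S E).normalizerMonoidHom ⟨g, hg.2⟩)
      have h2 := h1.le (mem_map_of_mem _ (show (⟨a, le_normalizerIn hES ha⟩ : normalizerIn S E) ∈
        E.subgroupOf (normalizerIn S E) from mem_subgroupOf.2 ha))
      exact mem_subgroupOf.1 h2
    obtain ⟨hidx', hP | hT'⟩ := extract_two hp5 hS hF hsr hE hrk (M := S) hNS.symm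
    · exact Or.inl (pearl_transfer hES hES hP)
    · exact Or.inr ⟨hidx', hNS, Or.inl hT'⟩
  · have hNS : normalizerIn S E = S :=
      le_antisymm inf_le_left (le_inf le_rfl (normal_of_rank_three hp5 hS hF hsr hE hrk))
    have hr : (frattini (E.subgroupOf S)).index = p ^ 3 := by
      rw [← hrk, ← frattini_map_iso (subgroupOfEquivOfLe hES)]
      exact (index_map_equiv _ (subgroupOfEquivOfLe hES)).symm
    have hat := extract_three hp5 hS hF hsr hE hrk (M := S) hNS.symm
    refine Or.inr ⟨?_, hNS, Or.inr ⟨hr, hat⟩⟩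
    rcases hat with ⟨_, x, e, t, z, d, -⟩ | ⟨h, σ, k, x, e, z, u, -, d, -⟩
    exacts [d.index, d.index]

/-- An automorphism of `S` preserving the copy of `E` preserves `E`. -/
theorem apl_iff_of_map {α : MulAut S} (h : (E.subgroupOf S).map α.toMonoidHom = E.subgroupOf S)
    {x : Ω} (hx : x ∈ S) : apl α x ∈ E ↔ x ∈ E := by
  rw [apl_apply α hx]
  constructor
  · intro h1
    have h2 : α ⟨x, hx⟩ ∈ (E.subgroupOf S).map α.toMonoidHom := h.ge (mem_subgroupOf.2 h1)
    exact mem_subgroupOf.1 ((mem_map_iff_mem (f := α.toMonoidHom) α.injective).1 h2)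
  · intro h1
    have h2 := h.le (mem_map_of_mem α.toMonoidHom
      (show (⟨x, hx⟩ : S) ∈ E.subgroupOf S from mem_subgroupOf.2 h1))
    exact mem_subgroupOf.1 h2

/-- A unique essential subgroup kept by every automorphism of `S` cannot occur. -/
theorem unique_false [Finite S] (hS : IsPGroup p S) (hF : F.IsSaturated p) (hO : F.core = ⊥)
    (hne : S ≠ ⊥) (hE : F.IsEssential p E) (huniq : ∀ B, F.IsEssential p B → B = E)
    (hinv : ∀ α : MulAut S, (E.subgroupOf S).map α.toMonoidHom = E.subgroupOf S) : False := by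
  refine essential_ne_bot hne hE (eq_bot_of_normal hO ((isNormal_iff_essential hS hF).2 fun P hP => ?_))
  rcases hP with rfl | hP
  · exact ⟨hE.1.1, fun α _ => invariant_of_apl fun x hx => apl_iff_of_map (hinv α) hx⟩
  · obtain rfl := huniq P hP
    refine ⟨le_rfl, fun α _ => ?_⟩
    rw [subgroupOf_self]
    exact map_top_of_surjective _ α.surjective

end Cfsg.Agent.RankThreeEss.Pearl
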