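import Cfsg.Agent.RankThreeEss.Tools
import Mathlib.Algebra.Module.LinearMap.End
import Mathlib.Algebra.Ring.GeomSum

/-!
Automorphisms of order `p` of an abelian `p`-group that are unipotent of small degree modulo `p`.
-/

set_option autoImplicit false

namespace Cfsg.Agent.RankThreeEss.Pearl

open Finset

variable {p : ℕ} [hp : Fact p.Prime]

section Add
variable {A : Type*} [AddCommGroup A]

local notation "End'" => Module.End ℤ A

omit hp in
theorem pow_eq_binom (T : End') (n : ℕ) :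
    T ^ n = ∑ j ∈ range (n + 1), n.choose j • (T - 1) ^ j := by
  have h := (Commute.one_right (T - 1)).add_pow n
  rw [sub_add_cancel] at h
  rw [h]
  refine sum_congr rfl fun j _ => ?_
  rw [one_pow, mul_one, nsmul_eq_mul, (Nat.cast_commute _ _).eq]

omit hp in
theorem geom_eq_binom (T : End') (n : ℕ) :
    ∑ i ∈ range n, T ^ i = ∑ j ∈ range n, n.choose (j + 1) • (T - 1) ^ j := by
  induction n with
  | zero => simp
  | succ n ih =>
    rw [sum_range_succ, ih, pow_eq_binom,
      show ∑ j ∈ range n, n.choose (j + 1) • (T - 1) ^ j =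
        ∑ j ∈ range (n + 1), n.choose (j + 1) • (T - 1) ^ j by
        rw [sum_range_succ, Nat.choose_eq_zero_of_lt n.lt_succ_self, zero_smul, add_zero],
      ← sum_add_distrib]
    refine sum_congr rfl fun j _ => ?_
    rw [Nat.choose_succ_succ, add_smul, add_comm]

/-- Lifting: `p (T - 1) = 0` and the sum of the powers of `T` is multiplication by `p`. -/
theorem lift_core (hp5 : 5 ≤ p) {n : ℕ} (hexp : ∀ a : A, p ^ n • a = 0) {T : End'} (hT : T ^ p = 1)
    (h3 : ∀ a : A, ∃ b : A, ((T - 1) ^ 3 : End') a = p • b) :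
    (∀ a : A, p • (T - 1) a = 0) ∧ ∀ a : A, (∑ i ∈ range p, T ^ i : End') a = p • a := by
  set N := T - 1 with hN
  have hdvd : ∀ j, 1 ≤ j → j + 1 < p → p ∣ p.choose (j + 1) := fun j _ hj =>
    hp.out.dvd_choose_self (by omega) hj
  have happ : ∀ (i j : ℕ) (a : A), (N ^ (i + j)) a = (N ^ i) ((N ^ j) a) := fun i j a => by
    rw [pow_add, Module.End.mul_apply]
  have hN1 : ∀ a, (N ^ 1) a = N a := fun a => by rw [pow_one]
  -- the relation
  have hrel : ∀ a, ∑ j ∈ range p, p.choose (j + 1) • (N ^ (j + 1)) a = 0 := fun a => by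
    have h1 : (∑ i ∈ range p, T ^ i) * N = 0 := by rw [hN, geom_sum_mul, hT, sub_self]
    rw [geom_eq_binom, ← hN, sum_mul] at h1
    have h2 := LinearMap.congr_fun h1 a
    rw [LinearMap.sum_apply] at h2
    refine Eq.trans ?_ (h2.trans (LinearMap.zero_apply a))
    refine sum_congr rfl fun j _ => ?_
    rw [smul_mul_assoc, ← pow_succ, LinearMap.smul_apply]
  have hstep : ∀ a, ∃ b, p • N a = p • (N ^ 2) b := by
    intro a
    let L : A →+ A := DistribSMul.toAddMonoidHom A p |>.comp (N ^ 2).toAddMonoidHom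
    suffices h : p • N a ∈ L.range by
      obtain ⟨b, hb⟩ := h
      exact ⟨b, hb.symm⟩
    have h1 := hrel a
    rw [← Finset.add_sum_erase _ _ (mem_range.2 hp.out.pos), zero_add, Nat.choose_one_right, hN1,
      add_eq_zero_iff_eq_neg] at h1
    rw [h1]
    refine L.range.neg_mem (L.range.sum_mem fun j hj => ?_)
    obtain ⟨hj0, hjp⟩ := mem_erase.1 hj
    rw [mem_range] at hjp
    rcases Nat.lt_or_ge (j + 1) p with hlt | hge
    · obtain ⟨c, hc⟩ := hdvd j (Nat.one_le_iff_ne_zero.2 hj0) hlt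
      refine ⟨c • (N ^ (j - 1)) a, ?_⟩
      show p • (N ^ 2) (c • (N ^ (j - 1)) a) = _
      rw [hc, mul_smul, map_nsmul, ← happ, show 2 + (j - 1) = j + 1 by omega]
    · obtain ⟨b, hb⟩ := h3 a
      refine ⟨(N ^ (p - 5)) b, ?_⟩
      show p • (N ^ 2) ((N ^ (p - 5)) b) = _
      rw [← happ, show j + 1 = (2 + (p - 5)) + 3 by omega, happ _ 3, hb, map_nsmul,
        show 2 + (p - 5) + 3 = p by omega, Nat.choose_self, one_smul]
  have hiter : ∀ j a, ∃ b, p • N a = p • (N ^ (j + 1)) b := fun j => by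
    induction j with
    | zero => exact fun a => ⟨a, by rw [hN1]⟩
    | succ j ih =>
      intro a
      obtain ⟨b1, hb1⟩ := hstep a
      obtain ⟨b, hb⟩ := ih b1
      exact ⟨b, by rw [hb1, pow_two, Module.End.mul_apply, ← map_nsmul, hb, map_nsmul,
        ← Module.End.mul_apply, ← pow_succ']⟩
  have hnil : ∀ m a, ∃ b, (N ^ (3 * m)) a = p ^ m • b := fun m => by
    induction m with
    | zero => exact fun a => ⟨a, by simp⟩
    | succ m ih =>
      intro a
      obtain ⟨b1, hb1⟩ := h3 a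
      obtain ⟨b, hb⟩ := ih b1
      exact ⟨b, by rw [show 3 * (m + 1) = 3 * m + 3 by ring, happ, hb1, map_nsmul, hb, smul_smul,
        ← pow_succ']⟩
  have h0 : ∀ a, p • N a = 0 := fun a => by
    obtain ⟨b, hb⟩ := hiter (3 * n) a
    obtain ⟨c, hc⟩ := hnil n b
    rw [hb, pow_succ', Module.End.mul_apply, hc, hexp, map_zero, smul_zero]
  refine ⟨h0, fun a => ?_⟩
  rw [geom_eq_binom, ← hN, LinearMap.sum_apply, ← Finset.add_sum_erase _ _ (mem_range.2 hp.out.pos),
    zero_add, Nat.choose_one_right, pow_zero, LinearMap.smul_apply, Module.End.one_apply,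
    add_eq_left]
  refine sum_eq_zero fun j hj => ?_
  obtain ⟨hj0, hjp⟩ := mem_erase.1 hj
  rw [mem_range] at hjp
  rw [LinearMap.smul_apply]
  rcases Nat.lt_or_ge (j + 1) p with hlt | hge
  · obtain ⟨c, hc⟩ := hdvd j (Nat.one_le_iff_ne_zero.2 hj0) hlt
    rw [hc, mul_comm, mul_smul, show j = 1 + (j - 1) by omega, happ, hN1, h0, smul_zero]
  · obtain ⟨b, hb⟩ := h3 a
    rw [show j = (1 + (p - 5)) + 3 by omega, happ, hb, map_nsmul, happ, hN1, h0, smul_zero]

end Add

section Mul

open Additive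

variable {A : Type*} [CommGroup A] [Finite A]

/-- The multiplicative form of the lifting lemma. -/
theorem lift_mul (hp5 : 5 ≤ p) (hA : IsPGroup p A) {t : MulAut A} (ht : t ^ p = 1)
    (h3 : ∀ a, ∃ b : A, (fun y => t y / y)^[3] a = b ^ p) :
    (∀ a, (t a / a) ^ p = 1) ∧ ∀ a, ∏ i ∈ range p, (t ^ i) a = a ^ p := by
  obtain ⟨n, hn⟩ := IsPGroup.iff_card.1 hA
  set T : Module.End ℤ (Additive A) := t.toMonoidHom.toAdditive.toIntLinearMap with hT
  have hTa : ∀ a, T (ofMul a) = ofMul (t a) := fun a => rfl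
  have hTn : ∀ (m : ℕ) (a : A), (T ^ m) (ofMul a) = ofMul ((t ^ m) a) := fun m => by
    induction m with
    | zero => intro a; rfl
    | succ m ih => intro a; rw [pow_succ', Module.End.mul_apply, ih, hTa, pow_succ', MulAut.mul_apply]
  have hN : ∀ a, (T - 1) (ofMul a) = ofMul (t a / a) := fun a => rfl
  have hTp : T ^ p = 1 := LinearMap.ext fun a => by
    obtain ⟨a, rfl⟩ := Additive.ofMul.surjective a
    rw [hTn, ht]; rfl
  obtain ⟨h1, h2⟩ := lift_core (p := p) hp5 (n := n) (fun a => by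
      obtain ⟨a, rfl⟩ := Additive.ofMul.surjective a
      rw [← ofMul_pow, ← hn, pow_card_eq_one', ofMul_one]) hTp (fun a => by
      obtain ⟨a, rfl⟩ := Additive.ofMul.surjective a
      obtain ⟨b, hb⟩ := h3 a
      refine ⟨ofMul b, ?_⟩
      rw [pow_succ', pow_two, Module.End.mul_apply, Module.End.mul_apply, hN, hN, hN, ← ofMul_pow, ← hb]
      rfl)
  refine ⟨fun a => ?_, fun a => ?_⟩
  · exact Additive.ofMul.injective (by rw [ofMul_pow, ← hN, h1]; rfl)
  · refine Additive.ofMul.injective ?_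
    rw [ofMul_prod, ofMul_pow, ← h2, LinearMap.sum_apply]
    simp only [hTn]

end Mul

end Cfsg.Agent.RankThreeEss.Pearl
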