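import Cfsg.Agent.RankThreeEss.Pearl.Torus
import Cfsg.Agent.RankThreeEss.Pearl.Lift

/-!
The abelianisation: its `p`-th powers come from the fixed vector.
-/

set_option autoImplicit false
set_option linter.style.haveILetI false

namespace Cfsg.Agent.RankThreeEss.Pearl

open Subgroup
open scoped commutatorElement

variable {p : ℕ} [hp : Fact p.Prime]

/-- The lifting lemma for the action by conjugation on an abelian normal subgroup. -/
theorem lift_conj {Y : Type*} [Group Y] [Finite Y] (hY : IsPGroup p Y) (hp5 : 5 ≤ p) {A : Subgroup Y}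
    [hA : A.Normal] (hc : ∀ a ∈ A, ∀ b ∈ A, Commute a b) {T : Y}
    (hT : ∀ a ∈ A, Commute (T ^ p) a)
    (h3 : ∀ a ∈ A, ∃ b ∈ A, ⁅T, ⁅T, ⁅T, a⁆⁆⁆ = b ^ p) :
    (∀ a ∈ A, ⁅T, a⁆ ^ p = 1) ∧ ∀ g, ⁅T, g⁆ ∈ A → Commute (T ^ p) g → ⁅T, g⁆ ^ p = 1 := by
  letI : CommGroup A := { (inferInstance : Group A) with mul_comm := fun a b => Subtype.ext (hc a a.2 b b.2).eq }
  set t : MulAut A := MulAut.conjNormal T with ht
  have hd : ∀ a : A, ((t a / a : A) : Y) = ⁅T, (a : Y)⁆ := fun a => by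
    rw [div_eq_mul_inv, commutatorElement_def]
    show ((t a : A) : Y) * ((a : Y))⁻¹ = _
    rw [ht, MulAut.conjNormal_apply]
  have htn : ∀ (n : ℕ) (a : A), (((t ^ n) a : A) : Y) = T ^ n * a * (T ^ n)⁻¹ := fun n a => by
    rw [ht, ← map_pow, MulAut.conjNormal_apply]
  have ht1 : t ^ p = 1 := MulEquiv.ext fun a => Subtype.ext (by
    rw [htn, (hT a a.2).eq, mul_inv_cancel_right, MulAut.one_apply])
  obtain ⟨h1, h2⟩ := lift_mul hp5 (hY.to_subgroup A) ht1 fun a => by
    obtain ⟨b, hb, hab⟩ := h3 a a.2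
    refine ⟨⟨b, hb⟩, Subtype.ext ?_⟩
    show ((t (t (t a / a) / (t a / a)) / (t (t a / a) / (t a / a)) : A) : Y) = b ^ p
    rw [hd, hd, hd, hab]
  refine ⟨fun a ha => ?_, fun g hg hgc => ?_⟩
  · rw [← hd ⟨a, ha⟩, ← SubmonoidClass.coe_pow, h1, OneMemClass.coe_one]
  · set m : A := ⟨⁅T, g⁆, hg⟩ with hm
    have hn : ∀ n : ℕ, T ^ n * g * (T ^ n)⁻¹ = ((∏ i ∈ Finset.range n, (t ^ i) m : A) : Y) * g := by
      intro n
      induction n with
      | zero => simp
      | succ n ih =>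
        rw [Finset.prod_range_succ]
        show _ = ((∏ i ∈ Finset.range n, (t ^ i) m : A) : Y) * (((t ^ n) m : A) : Y) * g
        rw [hc _ (SetLike.coe_mem _) _ (SetLike.coe_mem _), htn, mul_assoc _ _ g, ← ih]
        show _ = T ^ n * ⁅T, g⁆ * (T ^ n)⁻¹ * (T ^ n * g * (T ^ n)⁻¹)
        rw [pow_succ, commutatorElement_def]
        group
    have h4 := hn p
    rw [hgc.eq, mul_inv_cancel_right, h2, SubmonoidClass.coe_pow, right_eq_mul] at h4
    exact h4

variable {X : Type*} [Group X] [Finite X] {N : Subgroup X} {h : MulAut X} {σ : X → X} {k : ZMod p}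
  {x e z u : X}

/-- `Φ = ⟨u ^ p⟩ [N, N]`. -/
theorem TD.phi_u (d : TD p N h σ k x e z u) (he : Eig p N h k x z u) :
    Phi p N = closure ({u ^ p} : Set X) ⊔ N.lowerCentralSeries 1 := by
  haveI := d.normal
  haveI hG1 : (N.lowerCentralSeries 1).Normal := (fullInv_lcs N 1).normal
  haveI := d.phi_normal
  set G1 := N.lowerCentralSeries 1 with hG1d
  set π := QuotientGroup.mk' G1 with hπ
  have hπs : Function.Surjective π := QuotientGroup.mk'_surjective _
  have h0 : ∀ c, π c = 1 ↔ c ∈ G1 := fun c => QuotientGroup.eq_one_iff c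
  haveI hAn : (N.map π).Normal := d.normal.map π hπs
  have hAc : ∀ a ∈ N.map π, ∀ b ∈ N.map π, Commute a b := by
    rintro _ ⟨a, ha, rfl⟩ _ ⟨b, hb, rfl⟩
    rw [← commutatorElement_eq_one_iff_commute, ← map_commutatorElement, h0]
    exact comm_mem_lcs_one ha hb
  -- powers form a subgroup
  have hAp : ∀ a ∈ agemo p (N.map π), ∃ b ∈ N.map π, a = b ^ p := by
    intro a ha
    induction ha using Subgroup.closure_induction with
    | mem y hy => obtain ⟨b, hb, rfl⟩ := hy; exact ⟨b, hb, rfl⟩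
    | one => exact ⟨1, one_mem _, (one_pow p).symm⟩
    | mul y y' _ _ hy hy' =>
      obtain ⟨b, hb, rfl⟩ := hy
      obtain ⟨b', hb', rfl⟩ := hy'
      exact ⟨b * b', mul_mem hb hb', ((hAc b hb b' hb').mul_pow p).symm⟩
    | inv y _ hy =>
      obtain ⟨b, hb, rfl⟩ := hy
      exact ⟨b⁻¹, inv_mem hb, (inv_pow b p).symm⟩
  have hPhi : ∀ c ∈ Phi p N, ∃ b ∈ N.map π, π c = b ^ p := fun c hc => by
    refine hAp _ ?_
    rw [agemo_map]
    have hle : Phi p N ≤ ((agemo p N).map π).comap π := sup_le (fun c hc => by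
      rw [mem_comap, (h0 c).2 hc]; exact one_mem _) (le_comap_map _ _)
    exact hle hc
  set π0 := QuotientGroup.mk' (Phi p N) with hπ0
  have v := d.vq π0 (QuotientGroup.ker_mk' _)
  have hxN : x ^ p ∈ N := d.xp_mem
  -- three steps land in `Φ`
  have h3 : ∀ a ∈ N, ⁅x, ⁅x, ⁅x, a⁆⁆⁆ ∈ Phi p N := by
    intro a ha
    have hT : ∀ b ∈ N, ∃ i : ℕ, π0 ⁅x, b⁆ = π0 z ^ i := fun b hb => by
      obtain ⟨i, j, l, hco⟩ := v.coords b hb
      refine ⟨i, ?_⟩
      rw [map_commutatorElement, commutatorElement_def, hco]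
      have e1 : π0 x * (π0 e ^ i * π0 z ^ j * π0 u ^ l) * (π0 x)⁻¹ =
          π0 z ^ i * (π0 e ^ i * π0 z ^ j * π0 u ^ l) := by
        rw [← conj_mul, ← conj_mul, ← conj_pow, v.xe, (v.comm _ d.eN _ d.zN).mul_pow,
          (v.xz.pow_right j).eq, mul_inv_cancel_right, (v.xu.pow_right l).eq, mul_inv_cancel_right,
          ((v.comm _ d.eN _ d.zN).pow_pow i i).eq]
        simp only [mul_assoc]
      rw [e1, mul_inv_cancel_right]
    obtain ⟨i, hi⟩ := hT a ha
    rw [← QuotientGroup.eq_one_iff]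
    show π0 _ = 1
    rw [map_commutatorElement, map_commutatorElement, hi,
      commutatorElement_eq_one_iff_commute.2 (v.xz.pow_right i), commutatorElement_one_right]
  obtain ⟨hl, -⟩ := lift_conj (d.pgroup.of_surjective π hπs) d.five (A := N.map π) hAc (T := π x)
    (fun a ha => hAc _ (by rw [← map_pow]; exact mem_map_of_mem π hxN) a ha) (by
      rintro _ ⟨a, ha, rfl⟩
      rw [← map_commutatorElement, ← map_commutatorElement, ← map_commutatorElement]
      exact hPhi _ (h3 a ha))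
  -- the subgroup `W`
  set J := G1 ⊔ agemo p (agemo p N) with hJ
  haveI : J.Normal := ((fullInv_lcs N 1).sup fullInv_self.agemo.agemo).normal
  have hG1J : ∀ a b, π a = π b → (a ∈ J → b ∈ J) := fun a b hab ha => by
    have h1 : a⁻¹ * b ∈ G1 := by rw [← h0, map_mul, map_inv, hab, inv_mul_cancel]
    simpa using mul_mem ha (mem_sup_left h1 : a⁻¹ * b ∈ J)
  let W : Subgroup X :=
    { carrier := {g | g ∈ N ∧ g ^ p ∈ J}
      one_mem' := ⟨one_mem _, by rw [one_pow]; exact one_mem _⟩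
      mul_mem' := fun {a b} ha hb => ⟨mul_mem ha.1 hb.1, hG1J (a ^ p * b ^ p) _ (by
        rw [map_mul, map_pow, map_pow, map_pow, map_mul,
          (hAc _ (mem_map_of_mem π ha.1) _ (mem_map_of_mem π hb.1)).mul_pow]) (mul_mem ha.2 hb.2)⟩
      inv_mem' := fun {a} ha => ⟨inv_mem ha.1, by rw [inv_pow]; exact inv_mem ha.2⟩ }
  have hΦW : Phi p N ≤ W := sup_le
    (fun c hc => ⟨(fullInv_lcs N 1).1 hc, mem_sup_left (pow_mem hc p)⟩)
    (agemo_le_iff.2 fun a ha => ⟨pow_mem ha p, mem_sup_right (pow_mem_agemo (pow_mem_agemo ha))⟩)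
  have hcW : ∀ a b, Cn (Phi p N) a b → a ∈ W → b ∈ W := fun a b hab ha => by
    simpa using mul_mem ha (hΦW hab)
  have hzW : z ∈ W := by
    have h1 : ⁅x, e⁆ ∈ W := by
      have hN' : ⁅x, e⁆ ∈ N := by
        rw [commutatorElement_def]
        exact mul_mem (d.normal.conj_mem e d.eN x) (inv_mem d.eN)
      refine ⟨hN', mem_sup_left ?_⟩
      rw [← h0, map_pow, map_commutatorElement]
      exact hl _ (mem_map_of_mem π d.eN)
    refine hcW _ _ ((cn_iff_mk _ _ _).2 ?_) h1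
    show π0 ⁅x, e⁆ = π0 z
    rw [map_commutatorElement, commutatorElement_def, v.xe, (v.comm _ d.eN _ d.zN).eq,
      mul_inv_cancel_right]
  have heW : e ∈ W := by
    have h1 : σ z ∈ W := ⟨d.hσ.mem _ d.zN, by
      rw [← d.hσ.map_pow d.zN]
      exact ((fullInv_lcs N 1).sup fullInv_self.agemo.agemo).2 σ d.hσ _ hzW.2⟩
    have h2 := mul_mem (inv_mem hzW) (hcW _ _ d.σz h1)
    rwa [inv_mul_cancel_left] at h2
  -- conclusion
  set K := closure ({u ^ p} : Set X) ⊔ G1 with hK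
  have hKΦ : K ≤ Phi p N := sup_le ((closure_le _).2 (by
    rintro y (rfl : y = u ^ p)
    exact mem_sup_right (pow_mem_agemo d.uN))) le_sup_left
  refine le_antisymm ?_ hKΦ
  haveI hKn : (K ⊔ agemo p (Phi p N)).Normal := by
    haveI : (closure ({π (u ^ p)} : Set (X ⧸ G1)) ⊔ ((agemo p (Phi p N)).map π)).Normal := by
      refine ⟨fun c hc g => ?_⟩
      obtain ⟨g, rfl⟩ := hπs g
      have hle : closure ({π (u ^ p)} : Set (X ⧸ G1)) ⊔ ((agemo p (Phi p N)).map π) ≤
          (closure ({π (u ^ p)} : Set (X ⧸ G1)) ⊔ ((agemo p (Phi p N)).map π)).comap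
            (MulAut.conj (π g)).toMonoidHom := by
        haveI : ((agemo p (Phi p N)).map π).Normal :=
          (agemo_normal (p := p) (Phi p N)).map π hπs
        refine sup_le ((closure_le _).2 ?_) fun c hc => mem_sup_right (Normal.conj_mem inferInstance c hc _)
        rintro y (rfl : y = π (u ^ p))
        obtain ⟨a, ha, i, rfl⟩ := d.decomp g
        show π (a * x ^ i) * π (u ^ p) * (π (a * x ^ i))⁻¹ ∈
          closure ({π (u ^ p)} : Set (X ⧸ G1)) ⊔ ((agemo p (Phi p N)).map π)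
        have hxiN : x ^ i * u * (x ^ i)⁻¹ ∈ N := d.normal.conj_mem u d.uN _
        have h1 : π0 (x ^ i * u * (x ^ i)⁻¹) = π0 u := by
          rw [map_mul, map_mul, map_inv, map_pow, ((v.xu.pow_left i)).eq, mul_inv_cancel_right]
        have h2 : π (a * x ^ i) * π (u ^ p) * (π (a * x ^ i))⁻¹ = π (x ^ i * u * (x ^ i)⁻¹) ^ p := by
          rw [← map_inv, ← map_mul, ← map_mul, ← map_pow, show a * x ^ i * u ^ p * (a * x ^ i)⁻¹ =
            a * (x ^ i * u ^ p * (x ^ i)⁻¹) * a⁻¹ by group, ← conj_pow, map_mul, map_mul π a, map_pow,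
            (hAc _ (mem_map_of_mem π ha) _ (pow_mem (mem_map_of_mem π hxiN) p)).eq, map_inv,
            mul_inv_cancel_right]
        rw [h2, show x ^ i * u * (x ^ i)⁻¹ = u * (u⁻¹ * (x ^ i * u * (x ^ i)⁻¹)) by group, map_mul,
          (hAc _ (mem_map_of_mem π d.uN) _ (mem_map_of_mem π (mul_mem (inv_mem d.uN) hxiN))).mul_pow,
          ← map_pow, ← map_pow]
        exact mul_mem (mem_sup_left (subset_closure rfl)) (mem_sup_right
          (mem_map_of_mem π (pow_mem_agemo ((cn_iff_mk _ _ _).2 h1.symm))))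
      exact hle hc
    rw [show K ⊔ agemo p (Phi p N) = (closure ({π (u ^ p)} : Set (X ⧸ G1)) ⊔
        ((agemo p (Phi p N)).map π)).comap π by
      rw [← Set.image_singleton, ← MonoidHom.map_closure, ← Subgroup.map_sup, comap_map_eq, hπ,
        QuotientGroup.ker_mk', hK]
      ac_rfl]
    infer_instance
  refine nakayama (d.pgroup.to_subgroup _) hKΦ ?_
  refine sup_le (le_sup_of_le_left le_sup_right) ?_
  set π2 := QuotientGroup.mk' (K ⊔ agemo p (Phi p N)) with hπ2
  have hmul : ∀ a ∈ N, ∀ b ∈ N, π2 ((a * b) ^ p) = π2 (a ^ p) * π2 (b ^ p) := fun a ha b hb => by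
    rw [← map_mul]
    refine ((cn_iff_mk _ _ _).1 ?_).symm
    have h1 : (a ^ p * b ^ p)⁻¹ * (a * b) ^ p ∈ G1 := by
      rw [← h0, map_mul, map_inv, map_mul, map_pow, map_pow, map_pow, map_mul,
        (hAc _ (mem_map_of_mem π ha) _ (mem_map_of_mem π hb)).mul_pow, inv_mul_cancel]
    exact mem_sup_left (mem_sup_right h1)
  let W2 : Subgroup X :=
    { carrier := {g | g ∈ N ∧ π2 (g ^ p) = 1}
      one_mem' := ⟨one_mem _, by rw [one_pow, map_one]⟩
      mul_mem' := fun {a b} ha hb => ⟨mul_mem ha.1 hb.1, by rw [hmul a ha.1 b hb.1, ha.2, hb.2, one_mul]⟩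
      inv_mem' := fun {a} ha => ⟨inv_mem ha.1, by rw [inv_pow, map_inv, ha.2, inv_one]⟩ }
  have hmem2 : ∀ g, π2 g = 1 ↔ g ∈ K ⊔ agemo p (Phi p N) := fun g => QuotientGroup.eq_one_iff g
  have hJK : ∀ g ∈ J, π2 g = 1 := fun g hg => by
    rw [hmem2]
    exact sup_le (le_sup_of_le_left le_sup_right)
      (le_sup_of_le_right (agemo_le_iff.2 fun a ha => pow_mem_agemo (mem_sup_right ha))) hg
  have hNW : N ≤ W2 := by
    refine d.gen.trans (sup_le ((closure_le _).2 ?_) fun c hc => ⟨fullInv_phi.1 hc, ?_⟩)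
    · rintro y (rfl | rfl | rfl)
      · exact ⟨heW.1, hJK _ heW.2⟩
      · exact ⟨hzW.1, hJK _ hzW.2⟩
      · exact ⟨d.uN, (hmem2 _).2 (mem_sup_left (mem_sup_left (subset_closure rfl)))⟩
    · rw [hmem2]; exact mem_sup_right (pow_mem_agemo hc)
  rw [agemo_le_iff]
  exact fun a ha => (hmem2 _).1 (hNW ha).2

end Cfsg.Agent.RankThreeEss.Pearl
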