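import Cfsg.Agent.RankThreeEss.Pearl.LayerOne

/-!
The group modulo the third term of the lower central series of the maximal subgroup.
-/

set_option autoImplicit false
set_option linter.style.haveILetI false

namespace Cfsg.Agent.RankThreeEss.Pearl

open Subgroup
open scoped commutatorElement

variable {p : ℕ}

theorem conj_comm {Y : Type*} [Group Y] (g a b : Y) :
    g * ⁅a, b⁆ * g⁻¹ = ⁅g * a * g⁻¹, g * b * g⁻¹⁆ := by
  simp only [commutatorElement_def]; group

theorem Cl2.comm_gen {Y : Type*} [Group Y] {A W : Subgroup Y} (hA : Cl2 A) {s : Set Y}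
    (hs : closure s = A) (h : ∀ a ∈ s, ∀ b ∈ s, ⁅a, b⁆ ∈ W) {a b : Y} (ha : a ∈ A) (hb : b ∈ A) :
    ⁅a, b⁆ ∈ W := by
  have hsA : s ⊆ A := fun c hc => hs.le (subset_closure hc)
  have hgen : closure ((↑) ⁻¹' s : Set A) = ⊤ := by
    refine map_injective A.subtype_injective ?_
    rw [MonoidHom.map_closure, ← MonoidHom.range_eq_map, range_subtype, coe_subtype,
      Set.image_preimage_eq_inter_range, Subtype.range_coe_subtype]
    exact (congrArg Subgroup.closure (Set.inter_eq_left.2 fun c hc => hsA hc)).trans hs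
  exact commutator_le_of_gens hA.cc hgen (W := W.comap A.subtype)
    (fun c hc d hd => h c hc d hd) ⟨a, ha⟩ ⟨b, hb⟩

/-- Facts modulo the third term. -/
structure T2 (p : ℕ) {X : Type*} [Group X] (N : Subgroup X) (x e z u : X) : Prop where
  ep : e ^ p ∈ N.lowerCentralSeries 2
  zp : z ^ p ∈ N.lowerCentralSeries 2
  eu : ⁅e, u⁆ ∈ N.lowerCentralSeries 2
  zu : ⁅z, u⁆ ∈ N.lowerCentralSeries 2
  cexp : ∀ a ∈ N, ∀ b ∈ N, ⁅a, b⁆ ^ p ∈ N.lowerCentralSeries 2
  g1 : N.lowerCentralSeries 1 ≤ closure ({⁅e, z⁆} : Set X) ⊔ N.lowerCentralSeries 2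
  phi : Phi p N = closure ({u ^ p} : Set X) ⊔ N.lowerCentralSeries 1
  xp : x ^ p ∈ Phi p N
  ag : agemo p N ≤ closure ({u ^ p} : Set X) ⊔ N.lowerCentralSeries 2

variable [hp : Fact p.Prime] {X : Type*} [Group X] [Finite X] {N : Subgroup X} {h : MulAut X}
  {σ : X → X} {k : ZMod p} {x e z u : X}

/-- `⟨z⟩ Φ` is normal. -/
theorem TD.zphi_normal (d : TD p N h σ k x e z u) :
    (closure ({z} : Set X) ⊔ Phi p N).Normal := by
  haveI := d.phi_normal
  set π0 := QuotientGroup.mk' (Phi p N) with hπ0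
  have v := d.vq π0 (QuotientGroup.ker_mk' _)
  have hz : π0 z ∈ center (X ⧸ Phi p N) := mem_center_iff.2 fun g => by
    obtain ⟨g, rfl⟩ := QuotientGroup.mk'_surjective _ g
    obtain ⟨a, ha, i, rfl⟩ := d.decomp g
    rw [map_mul, map_pow]
    exact ((v.comm a ha _ d.zN).mul_left (v.xz.pow_left i)).eq
  haveI : (closure ({π0 z} : Set (X ⧸ Phi p N))).Normal := ⟨fun c hc g => by
    have hc' := (closure_le (center (X ⧸ Phi p N))).2 (Set.singleton_subset_iff.2 hz) hc
    rwa [mem_center_iff.1 hc' g, mul_inv_cancel_right]⟩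
  rw [show closure ({z} : Set X) ⊔ Phi p N = (closure ({π0 z} : Set (X ⧸ Phi p N))).comap π0 by
    rw [← Set.image_singleton, ← MonoidHom.map_closure, comap_map_eq, hπ0, QuotientGroup.ker_mk']]
  infer_instance

theorem TD.eig_replace (d : TD p N h σ k x e z u) {z' : X} (hzz : Cn (Phi p N) z z')
    (he : Eig p N h k x z u) : Eig p N h k x z' u := by
  haveI := d.phi_normal
  obtain ⟨n, m, hn, hm, hx⟩ := he
  refine ⟨n, m, hn, ?_, hx⟩
  have hle : closure ({z, u} : Set X) ⊔ Phi p N ≤ closure ({z', u} : Set X) ⊔ Phi p N := by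
    refine sup_le ((closure_le _).2 ?_) le_sup_right
    rintro y (rfl | rfl)
    · have h1 : y = z' * (z'⁻¹ * y) := (mul_inv_cancel_left _ _).symm
      rw [h1]
      exact mul_mem (mem_sup_left (subset_closure (by simp))) (mem_sup_right (by
        simpa using inv_mem hzz))
    · exact mem_sup_left (subset_closure (by simp))
  exact hle hm

/-- The second layer. -/
theorem TD.layer_two (d : TD p N h σ k x e z u) (he : Eig p N h k x z u) :
    ∃ e' z', TD p N h σ k x e' z' u ∧ Eig p N h k x z' u ∧ T2 p N x e' z' u := by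
  haveI := d.normal
  haveI := d.phi_normal
  have hphi := d.phi_u he
  have hxp := d.xp_phi he
  set G1 := N.lowerCentralSeries 1 with hG1d
  set G2 := N.lowerCentralSeries 2 with hG2d
  have hG2i : FullInv N G2 := fullInv_lcs N 2
  haveI : G2.Normal := hG2i.normal
  set π := QuotientGroup.mk' G2 with hπ
  have hπs : Function.Surjective π := QuotientGroup.mk'_surjective _
  have h0 : ∀ c, π c = 1 ↔ c ∈ G2 := fun c => QuotientGroup.eq_one_iff c
  set Nb := N.map π with hNb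
  have hYp : IsPGroup p (X ⧸ G2) := d.pgroup.to_quotient _
  have hG1c : ∀ c ∈ G1, ∀ a ∈ N, Commute (π c) (π a) := fun c hc a ha => by
    rw [← commutatorElement_eq_one_iff_commute, ← map_commutatorElement, h0]
    exact comm_mem_lcs_succ hc ha
  have hcl : Cl2 Nb := by
    rintro _ ⟨a, ha, rfl⟩ _ ⟨b, hb, rfl⟩ _ ⟨c, hc, rfl⟩
    rw [← map_commutatorElement]
    exact hG1c _ (comm_mem_lcs_one ha hb) c hc
  have eN : π e ∈ Nb := mem_map_of_mem π d.eN
  have zN : π z ∈ Nb := mem_map_of_mem π d.zN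
  have uN : π u ∈ Nb := mem_map_of_mem π d.uN
  have hgen : closure ({π e, π z, π u} : Set (X ⧸ G2)) = Nb := by
    refine Eq.trans ?_ (congrArg (Subgroup.map π) d.closure_eq)
    rw [MonoidHom.map_closure]
    simp [Set.image_insert_eq]
  -- `Φ` is central in `N`
  set Fb := (Phi p N).map π with hFb
  have hFbN : Fb ≤ Nb := map_mono fullInv_phi.1
  have hFgen : Fb = closure ({π u ^ p} : Set (X ⧸ G2)) ⊔ G1.map π := by
    rw [hFb, hphi, Subgroup.map_sup, MonoidHom.map_closure, Set.image_singleton, map_pow]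
  have hFu : ∀ c ∈ Fb, Commute c (π u) := by
    have hle : Fb ≤ centralizer ({π u} : Set (X ⧸ G2)) := by
      rw [hFgen]
      refine sup_le ((closure_le _).2 ?_) ?_
      · rintro y (rfl : y = π u ^ p)
        exact mem_centralizer_singleton_iff.2 ((Commute.refl (π u)).pow_left p).eq
      · rintro _ ⟨c, hc, rfl⟩
        exact mem_centralizer_singleton_iff.2 (hG1c c hc u d.uN).eq
    exact fun c hc => mem_centralizer_singleton_iff.1 (hle hc)
  have hpF : ∀ {a : X}, a ∈ N → π a ^ p ∈ Fb := fun {a} ha => by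
    rw [← map_pow]
    exact mem_map_of_mem π (mem_sup_right (pow_mem_agemo ha))
  have huexp : ∀ a ∈ N, ⁅π a, π u⁆ ^ p = 1 := fun a ha => by
    rw [← hcl.pow_left (mem_map_of_mem π ha) uN, comm_one_left (hFu _ (hpF ha))]
  have hFc : ∀ c ∈ Fb, ∀ a ∈ Nb, Commute c a := by
    intro c hc a ha
    have hle : Fb ≤ centralizer (Nb : Set (X ⧸ G2)) := by
      rw [hFgen, ← hgen, centralizer_closure]
      refine sup_le ((closure_le _).2 ?_) ?_
      · rintro y (rfl : y = π u ^ p)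
        rw [SetLike.mem_coe, mem_centralizer_iff]
        have hu' : ∀ b ∈ N, π b * π u ^ p = π u ^ p * π b := fun b hb =>
          commutatorElement_eq_one_iff_mul_comm.1 (by
            rw [hcl.pow_right (mem_map_of_mem π hb) uN, huexp b hb])
        rintro b (rfl | rfl | rfl)
        exacts [hu' e d.eN, hu' z d.zN, hu' u d.uN]
      · rintro _ ⟨c, hc, rfl⟩
        rw [mem_centralizer_iff]
        rintro b (rfl | rfl | rfl)
        exacts [(hG1c c hc _ d.eN).symm, (hG1c c hc _ d.zN).symm, (hG1c c hc _ d.uN).symm]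
    exact (mem_centralizer_iff.1 (hle hc) a ha).symm
  have hcexp : ∀ a ∈ Nb, ∀ b ∈ Nb, ⁅a, b⁆ ^ p = 1 := by
    rintro _ ⟨a, ha, rfl⟩ b hb
    rw [← hcl.pow_left (mem_map_of_mem π ha) hb, comm_one_left (hFc _ (hpF ha) b hb)]
  have hmul : ∀ a ∈ Nb, ∀ b ∈ Nb, (a * b) ^ p = a ^ p * b ^ p := fun a ha b hb =>
    hcl.mul_pow (hYp.to_subgroup _) d.five hcexp ha hb
  have cen_mul : ∀ {a b c c' : X ⧸ G2}, a ∈ Nb → b ∈ Nb → c ∈ Fb → c' ∈ Fb →
      ⁅a * c, b * c'⁆ = ⁅a, b⁆ := fun {a b c c'} ha hb hc hc' => by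
    rw [hcl.mul_left ha (hFbN hc) (mul_mem hb (hFbN hc')),
      comm_one_left (hFc c hc _ (mul_mem hb (hFbN hc'))), mul_one, hcl.mul_right ha hb (hFbN hc'),
      comm_one_left (hFc c' hc' a ha).symm, mul_one]
  -- `U2`
  set U2 := closure ({(π u ^ p) ^ p} : Set (X ⧸ G2)) with hU2
  have hFp : ∀ c ∈ Fb, c ^ p ∈ U2 := by
    let R : Subgroup (X ⧸ G2) :=
      { carrier := {c | c ∈ Fb ∧ c ^ p ∈ U2}
        one_mem' := ⟨one_mem _, by rw [one_pow]; exact one_mem _⟩
        mul_mem' := fun {a b} ha hb => ⟨mul_mem ha.1 hb.1, by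
          rw [(hFc a ha.1 b (hFbN hb.1)).mul_pow]; exact mul_mem ha.2 hb.2⟩
        inv_mem' := fun {a} ha => ⟨inv_mem ha.1, by rw [inv_pow]; exact inv_mem ha.2⟩ }
    have hle : Fb ≤ R := by
      conv_lhs => rw [hFgen]
      refine sup_le ((closure_le _).2 ?_) ?_
      · rintro y (rfl : y = π u ^ p)
        exact ⟨hpF d.uN, subset_closure rfl⟩
      · rw [hG1d, lcs_one, map_commutator, commutator_le]
        intro a ha b hb
        refine ⟨?_, by rw [hcexp a ha b hb]; exact one_mem _⟩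
        obtain ⟨a, ha, rfl⟩ := ha
        obtain ⟨b, hb, rfl⟩ := hb
        rw [← map_commutatorElement]
        exact mem_map_of_mem π (mem_sup_left (comm_mem_lcs_one ha hb))
    exact fun c hc => (hle hc).2
  set π0 := QuotientGroup.mk' (Phi p N) with hπ0
  have v := d.vq π0 (QuotientGroup.ker_mk' _)
  have cg : ∀ a b : X, Cn (Phi p N) a b → ∃ c ∈ Fb, π b = π a * c := fun a b hab =>
    ⟨π (a⁻¹ * b), mem_map_of_mem π hab, by rw [← map_mul, mul_inv_cancel_left]⟩
  have cg' : ∀ a b : X, π0 a = π0 b → ∃ c ∈ Fb, π b = π a * c := fun a b hab =>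
    cg a b ((cn_iff_mk _ a b).2 hab)
  -- the abelian subgroup
  set A0 := closure ({z} : Set X) ⊔ Phi p N with hA0
  haveI : A0.Normal := d.zphi_normal
  set A := A0.map π with hA
  haveI hAn : A.Normal := Normal.map inferInstance π hπs
  have hAN : A ≤ Nb := map_mono (sup_le ((closure_le _).2 (Set.singleton_subset_iff.2 d.zN)) fullInv_phi.1)
  have hFA : Fb ≤ A := map_mono le_sup_right
  have hzA : π z ∈ A := mem_map_of_mem π (mem_sup_left (subset_closure rfl))
  have hAgen : A = closure ({π z} : Set (X ⧸ G2)) ⊔ Fb := by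
    rw [hA, hA0, Subgroup.map_sup, MonoidHom.map_closure, Set.image_singleton]
  have hAc : ∀ a ∈ A, ∀ b ∈ A, Commute a b := by
    intro a ha b hb
    have hle : A ≤ centralizer (A : Set (X ⧸ G2)) := by
      rw [hAgen]
      refine sup_le ((closure_le _).2 ?_) ?_
      · rintro y (rfl : y = π z)
        rw [SetLike.mem_coe, mem_centralizer_iff]
        intro b hb
        have hle : closure ({π z} : Set (X ⧸ G2)) ⊔ Fb ≤ centralizer ({π z} : Set (X ⧸ G2)) :=
          sup_le ((closure_le _).2 (by rintro y (rfl : y = π z); exact mem_centralizer_singleton_iff.2 rfl))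
            fun c hc => mem_centralizer_singleton_iff.2 (hFc c hc _ zN).eq
        exact mem_centralizer_singleton_iff.1 (hle hb)
      · intro c hc
        rw [mem_centralizer_iff]
        intro b hb
        exact (hFc c hc b (hAN (hAgen.ge hb))).symm.eq
    exact (mem_centralizer_iff.1 (hle ha) b hb).symm
  set T := π x with hT
  have hDm : ∀ a ∈ A, ⁅T, a⁆ ∈ A := fun a ha => by
    rw [commutatorElement_def]
    exact mul_mem (hAn.conj_mem a ha T) (inv_mem ha)
  have hD : ∀ a ∈ A, ∀ b ∈ A, ⁅T, a * b⁆ = ⁅T, a⁆ * ⁅T, b⁆ := fun a ha b hb => by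
    rw [show ⁅T, a * b⁆ = ⁅T, a⁆ * (a * ⁅T, b⁆ * a⁻¹) by simp only [commutatorElement_def]; group,
      (hAc a ha _ (hDm b hb)).eq, mul_inv_cancel_right]
  let preD : Subgroup (X ⧸ G2) → Subgroup (X ⧸ G2) := fun Q =>
    { carrier := {a | a ∈ A ∧ ⁅T, a⁆ ∈ Q}
      one_mem' := ⟨one_mem _, by rw [commutatorElement_one_right]; exact one_mem _⟩
      mul_mem' := fun {a b} ha hb => ⟨mul_mem ha.1 hb.1, by rw [hD a ha.1 b hb.1]; exact mul_mem ha.2 hb.2⟩
      inv_mem' := fun {a} ha => ⟨inv_mem ha.1, by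
        have h1 := hD a⁻¹ (inv_mem ha.1) a ha.1
        rw [inv_mul_cancel, commutatorElement_one_right] at h1
        rw [eq_inv_of_mul_eq_one_left h1.symm]
        exact inv_mem ha.2⟩ }
  obtain ⟨f1, hf1, c1⟩ := cg' (e * z) (x * e * x⁻¹) (by rw [map_mul, map_mul, map_mul, map_inv, v.xe])
  obtain ⟨f2, hf2, c2⟩ := cg' z (x * z * x⁻¹) (by
    rw [map_mul, map_mul, map_inv, v.xz.eq, mul_inv_cancel_right])
  obtain ⟨f3, hf3, c3⟩ := cg' u (x * u * x⁻¹) (by
    rw [map_mul, map_mul, map_inv, v.xu.eq, mul_inv_cancel_right])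
  rw [map_mul, map_mul, map_inv, ← hT] at c1 c2 c3
  rw [map_mul] at c1
  set zu := ⁅π z, π u⁆ with hzu
  have hG1F : ∀ a ∈ Nb, ∀ b ∈ Nb, ⁅a, b⁆ ∈ Fb := by
    rintro _ ⟨a, ha, rfl⟩ _ ⟨b, hb, rfl⟩
    rw [← map_commutatorElement]
    exact mem_map_of_mem π (mem_sup_left (comm_mem_lcs_one ha hb))
  have dzu : ⁅T, zu⁆ = 1 := by
    rw [commutatorElement_def, hzu, conj_comm, c2, c3, cen_mul zN uN hf2 hf3, mul_inv_cancel]
  have dez : ⁅T, ⁅π e, π z⁆⁆ = 1 := by
    rw [commutatorElement_def, conj_comm, c1, c2,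
      cen_mul (mul_mem eN zN) zN hf1 hf2, hcl.mul_left eN zN zN, commutatorElement_self, mul_one,
      mul_inv_cancel]
  have deu : ⁅T, ⁅π e, π u⁆⁆ = zu := by
    rw [commutatorElement_def, conj_comm, c1, c3, cen_mul (mul_mem eN zN) uN hf1 hf3,
      hcl.mul_left eN zN uN, (hcl _ eN _ uN zu (hFbN (hG1F _ zN _ uN))).eq, mul_inv_cancel_right]
  set Q1 := agemo p A ⊔ closure ({zu} : Set (X ⧸ G2)) with hQ1
  have hzuA : zu ∈ A := hFA (hG1F _ zN _ uN)
  have step1 : Fb ≤ preD Q1 := by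
    rw [hFgen]
    refine sup_le ((closure_le _).2 ?_) ?_
    · rintro y (rfl : y = π u ^ p)
      refine ⟨hFA (hpF d.uN), mem_sup_left ?_⟩
      rw [commutatorElement_def, ← conj_pow, c3, ((hFc f3 hf3 _ uN).symm).mul_pow,
        ((hFc _ (hpF d.uN) _ (hFbN (pow_mem hf3 p)))).eq, mul_inv_cancel_right]
      exact pow_mem_agemo (hFA hf3)
    · rw [hG1d, lcs_one, map_commutator, commutator_le]
      intro a ha b hb
      refine hcl.comm_gen hgen ?_ ha hb
      have m : ∀ a b, a ∈ Nb → b ∈ Nb → ⁅T, ⁅a, b⁆⁆ ∈ Q1 → ⁅a, b⁆ ∈ preD Q1 := fun a b ha hb hq =>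
        ⟨hFA (hG1F a ha b hb), hq⟩
      have mi : ∀ a b, ⁅a, b⁆ ∈ preD Q1 → ⁅b, a⁆ ∈ preD Q1 := fun a b hab => by
        rw [← commutatorElement_inv]; exact inv_mem hab
      have e1 := m _ _ eN zN (by rw [dez]; exact one_mem _)
      have e2 := m _ _ eN uN (by rw [deu]; exact mem_sup_right (subset_closure rfl))
      have e3 := m _ _ zN uN (by rw [dzu]; exact one_mem _)
      rintro a (rfl | rfl | rfl) b (rfl | rfl | rfl)
      exacts [by rw [commutatorElement_self]; exact one_mem _, e1, e2, mi _ _ e1,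
        by rw [commutatorElement_self]; exact one_mem _, e3, mi _ _ e2, mi _ _ e3,
        by rw [commutatorElement_self]; exact one_mem _]
  have hAp : ∀ b ∈ A, ∀ n : ℕ, ⁅T, b ^ n⁆ = ⁅T, b⁆ ^ n := fun b hb n => by
    induction n with
    | zero => rw [pow_zero, pow_zero, commutatorElement_one_right]
    | succ n ih => rw [pow_succ, hD _ (pow_mem hb n) b hb, ih, pow_succ]
  have step2 : Q1 ≤ preD (agemo p A) := by
    refine sup_le (agemo_le_iff.2 fun b hb => ⟨pow_mem hb p, ?_⟩) ((closure_le _).2 ?_)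
    · rw [hAp b hb]; exact pow_mem_agemo (hDm b hb)
    · rintro y (rfl : y = zu)
      exact ⟨hzuA, by rw [dzu]; exact one_mem _⟩
  have hAagemo : ∀ a ∈ agemo p A, ∃ b ∈ A, a = b ^ p := by
    intro a ha
    induction ha using Subgroup.closure_induction with
    | mem y hy => obtain ⟨b, hb, rfl⟩ := hy; exact ⟨b, hb, rfl⟩
    | one => exact ⟨1, one_mem _, (one_pow p).symm⟩
    | mul y y' _ _ hy hy' =>
      obtain ⟨b, hb, rfl⟩ := hy
      obtain ⟨b', hb', rfl⟩ := hy'
      exact ⟨b * b', mul_mem hb hb', ((hAc b hb b' hb').mul_pow p).symm⟩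
    | inv y _ hy =>
      obtain ⟨b, hb, rfl⟩ := hy
      exact ⟨b⁻¹, inv_mem hb, (inv_pow b p).symm⟩
  have hzT : ⁅T, π z⁆ ∈ Fb := by
    rw [commutatorElement_def, c2, ((hFc f2 hf2 _ zN).symm).eq, mul_inv_cancel_right]
    exact hf2
  have step0 : A ≤ preD Fb := by
    conv_lhs => rw [hAgen]
    refine sup_le ((closure_le _).2 ?_) fun c hc => ⟨hFA hc, ?_⟩
    · rintro y (rfl : y = π z)
      exact ⟨hzA, hzT⟩
    · rw [commutatorElement_def]
      haveI : Fb.Normal := Normal.map inferInstance π hπs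
      exact mul_mem (Normal.conj_mem inferInstance c hc T) (inv_mem hc)
  have hTp : ∀ a ∈ Nb, Commute (T ^ p) a := fun a ha =>
    hFc _ (by rw [hT, ← map_pow]; exact mem_map_of_mem π hxp) a ha
  obtain ⟨-, hl⟩ := lift_conj hYp d.five (A := A) hAc (T := T) (fun a ha => hTp a (hAN ha))
    (fun a ha => hAagemo _ (step2 (step1 (step0 ha).2).2).2)
  -- `z ^ p`
  obtain ⟨f0, hf0, c0⟩ := cg' z ⁅x, e⁆ (by
    rw [map_commutatorElement, commutatorElement_def, v.xe, (v.comm _ d.eN _ d.zN).eq,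
      mul_inv_cancel_right])
  rw [map_commutatorElement, ← hT] at c0
  have hTE : ⁅T, π e⁆ ^ p = 1 := hl _ (by rw [c0]; exact mul_mem hzA (hFA hf0)) (hTp _ eN)
  have hzp : π z ^ p ∈ U2 := by
    rw [c0, hmul _ zN _ (hFbN hf0)] at hTE
    rw [eq_inv_of_mul_eq_one_left hTE]
    exact inv_mem (hFp _ hf0)
  -- `e ^ p`
  have hσπ : ∀ a ∈ N, ∀ b ∈ N, π a = π b → π (σ a) = π (σ b) := fun a ha b hb hab =>
    (cn_iff_mk _ _ _).1 (d.hσ.cn hG2i ha hb ((cn_iff_mk _ _ _).2 hab))
  have hep : π e ^ p ∈ U2 := by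
    obtain ⟨m, hm⟩ := (mem_closure_singleton).1 hzp
    obtain ⟨fz, hfz, cz⟩ := cg _ _ (show Cn (Phi p N) (z * e) (σ z) by
      have := inv_mem d.σz; simpa [Cn] using this)
    obtain ⟨fu, hfu, cu⟩ := cg _ _ (show Cn (Phi p N) u (σ u) by
      have := inv_mem d.σu; simpa [Cn] using this)
    have huu : (u ^ p) ^ p ∈ N := pow_mem (pow_mem d.uN p) p
    have h1 : π (σ (z ^ p)) = π (σ (((u ^ p) ^ p) ^ m)) := hσπ _ (pow_mem d.zN p) _ (zpow_mem huu m)
      (by rw [map_zpow, map_pow, map_pow, map_pow, hm])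
    have h2 : π (σ (((u ^ p) ^ p) ^ m)) = π (σ ((u ^ p) ^ p)) ^ m := by
      obtain ⟨n, rfl | rfl⟩ := Int.eq_nat_or_neg m
      · rw [zpow_natCast, zpow_natCast, d.hσ.map_pow huu, map_pow]
      · rw [zpow_neg, zpow_neg, zpow_natCast, zpow_natCast, d.hσ.map_inv (pow_mem huu n), map_inv,
          d.hσ.map_pow huu, map_pow]
    rw [h2, d.hσ.map_pow d.zN, d.hσ.map_pow (pow_mem d.uN p), d.hσ.map_pow d.uN, map_pow, map_pow,
      map_pow, cz, cu, map_mul, hmul _ (mul_mem zN eN) _ (hFbN hfz), hmul _ zN _ eN,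
      ((hFc fu hfu _ uN).symm).mul_pow] at h1
    have h3 : ((π u ^ p * fu ^ p) ^ p) ^ m ∈ U2 := by
      refine zpow_mem ?_ m
      rw [((hFc _ (hpF d.uN) _ (hFbN (pow_mem hfu p)))).mul_pow]
      exact mul_mem (subset_closure rfl) (pow_mem (hFp _ hfu) p)
    rw [← h1] at h3
    have h4 := mul_mem (inv_mem hzp) (mul_mem h3 (inv_mem (hFp _ hfz)))
    rwa [mul_inv_cancel_right, inv_mul_cancel_left] at h4
  -- the new representatives
  have key : ∀ w : X, w ∈ N → π w ^ p ∈ U2 → ∃ w', w' ∈ N ∧ Cn (Phi p N) w w' ∧ π w' ^ p = 1 := by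
    intro w hw hwp
    obtain ⟨m, hm⟩ := mem_closure_singleton.1 hwp
    refine ⟨w * ((u ^ p) ^ m)⁻¹, mul_mem hw (inv_mem (zpow_mem (pow_mem d.uN p) m)), ?_, ?_⟩
    · show w⁻¹ * _ ∈ _
      rw [inv_mul_cancel_left]
      exact inv_mem (zpow_mem (mem_sup_right (pow_mem_agemo d.uN)) m)
    · rw [map_mul, map_inv, map_zpow, map_pow,
        hmul _ (mem_map_of_mem π hw) _ (inv_mem (zpow_mem (pow_mem uN p) m)), inv_pow, ← hm,
        mul_inv_eq_one, ← zpow_natCast (π u ^ p) p, ← zpow_natCast ((π u ^ p) ^ m) p, ← zpow_mul,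
        ← zpow_mul, mul_comm]
  obtain ⟨e', e'N, hee, hep'⟩ := key e d.eN hep
  obtain ⟨z', z'N, hzz, hzp'⟩ := key z d.zN hzp
  have d' := d.replace e'N z'N hee hzz
  refine ⟨e', z', d', d.eig_replace hzz he, ?_⟩
  have hgen' : closure ({π e', π z', π u} : Set (X ⧸ G2)) = Nb := by
    refine Eq.trans ?_ (congrArg (Subgroup.map π) d'.closure_eq)
    rw [MonoidHom.map_closure]
    simp [Set.image_insert_eq]
  have eN' : π e' ∈ Nb := mem_map_of_mem π e'N
  have zN' : π z' ∈ Nb := mem_map_of_mem π z'N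
  -- powers
  set UP := closure ({π u ^ p} : Set (X ⧸ G2)) with hUP
  have hU2P : U2 ≤ UP := (closure_le _).2 (by
    rintro y (rfl : y = (π u ^ p) ^ p)
    exact pow_mem (subset_closure rfl : π u ^ p ∈ UP) p)
  have hag : agemo p Nb ≤ UP := by
    let R : Subgroup (X ⧸ G2) :=
      { carrier := {c | c ∈ Nb ∧ c ^ p ∈ UP}
        one_mem' := ⟨one_mem _, by rw [one_pow]; exact one_mem _⟩
        mul_mem' := fun {a b} ha hb => ⟨mul_mem ha.1 hb.1, by
          rw [hmul a ha.1 b hb.1]; exact mul_mem ha.2 hb.2⟩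
        inv_mem' := fun {a} ha => ⟨inv_mem ha.1, by rw [inv_pow]; exact inv_mem ha.2⟩ }
    have hle : Nb ≤ R := by
      conv_lhs => rw [← hgen']
      rw [closure_le]
      rintro y (rfl | rfl | rfl)
      exacts [⟨eN', by rw [hep']; exact one_mem _⟩, ⟨zN', by rw [hzp']; exact one_mem _⟩,
        ⟨uN, subset_closure rfl⟩]
    exact agemo_le_iff.2 fun a ha => (hle ha).2
  have hhπ : ∀ a ∈ N, ∀ b ∈ N, π a = π b → π (h a) = π (h b) := fun a ha b hb hab =>
    (cn_iff_mk _ _ _).1 (d.ih_endOn.cn hG2i ha hb ((cn_iff_mk _ _ _).2 hab))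
  have v' := d'.vq π0 (QuotientGroup.ker_mk' _)
  obtain ⟨ge, hge, ce⟩ := cg' (e' ^ k⁻¹.val) (h e') (by rw [map_pow, v'.he])
  obtain ⟨gz, hgz, cz⟩ := cg' (z' ^ k.val) (h z') (by rw [map_pow, v'.hz])
  obtain ⟨gu, hgu, cu⟩ := cg' u (h u) v'.hu.symm
  rw [map_pow] at ce cz
  have hfix : ∀ a ∈ N, π a ∈ UP → π a ^ p = 1 → π (h a) = π a := by
    intro a ha haU hap
    obtain ⟨i, hi⟩ := mem_closure_singleton.1 haU
    obtain ⟨j, hj⟩ := mem_closure_singleton.1 (hFp gu hgu)
    rw [hhπ a ha _ (zpow_mem (pow_mem d.uN p) i) (by rw [map_zpow, map_pow, hi]), map_zpow h,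
      map_zpow π, map_pow h, map_pow π, cu, ((hFc gu hgu _ uN).symm).mul_pow,
      ((hFc _ (hpF d.uN) _ (hFbN (pow_mem hgu p)))).mul_zpow, hi]
    have h5 : (gu ^ p) ^ i = 1 := by
      rw [← hj, ← zpow_natCast (π u ^ p) p, ← zpow_mul, ← zpow_mul,
        show (p : ℤ) * (j * i) = i * p * j by ring, zpow_mul, zpow_mul (π u ^ p) i, hi, zpow_natCast, hap, one_zpow]
    rw [h5, mul_one]
  have kill : ∀ (r : ZMod p), r ≠ 1 → ∀ w ∈ N, π w ∈ Nb → ∀ g : X ⧸ G2, g ∈ Fb →
      π (h w) = π w ^ r.val * g → ⁅π w, π u⁆ ∈ UP → ⁅π w, π u⁆ = 1 := by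
    intro r hr w hw hwN g hg hgw hwU
    have hexp := huexp w hw
    refine zp_fixed hexp hr ?_
    have h1 := hfix ⁅w, u⁆ ((fullInv_lcs N 1).1 (comm_mem_lcs_one hw d.uN))
      (by rwa [map_commutatorElement])
      (by rwa [map_commutatorElement])
    rw [map_commutatorElement h, map_commutatorElement, map_commutatorElement, hgw, cu,
      cen_mul (pow_mem hwN _) uN hg hgu, hcl.pow_left hwN uN] at h1
    exact h1
  have hucent : ∀ w ∈ N, ⁅π w, π u⁆ ∈ UP := fun w hw => by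
    rw [← commutatorElement_inv, ← map_commutatorElement]
    refine inv_mem (hag ?_)
    rw [hNb, agemo_map]
    exact mem_map_of_mem π (d.ucent w hw)
  have hkinv : k⁻¹ ≠ 1 := fun e0 => d.k_one (inv_eq_one.1 e0)
  have heu : ⁅π e', π u⁆ = 1 := kill _ hkinv e' e'N eN' ge hge ce (hucent e' e'N)
  have hzu' : ⁅π z', π u⁆ = 1 := kill _ d.k_one z' z'N zN' gz hgz cz (hucent z' z'N)
  refine ⟨?_, ?_, ?_, ?_, fun a ha b hb => ?_, ?_, hphi, hxp, ?_⟩
  · exact (h0 _).1 (by rw [map_pow, hep'])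
  · exact (h0 _).1 (by rw [map_pow, hzp'])
  · exact (h0 _).1 (by rw [map_commutatorElement, heu])
  · exact (h0 _).1 (by rw [map_commutatorElement, hzu'])
  · exact (h0 _).1 (by
      rw [map_pow, map_commutatorElement]
      exact hcexp _ (mem_map_of_mem π ha) _ (mem_map_of_mem π hb))
  · set C := closure ({⁅π e', π z'⁆} : Set (X ⧸ G2)) with hC
    have hle : G1.map π ≤ C := by
      rw [hG1d, lcs_one, map_commutator, commutator_le]
      intro a ha b hb
      refine hcl.comm_gen hgen' ?_ ha hb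
      have mi : ∀ a b, ⁅a, b⁆ ∈ C → ⁅b, a⁆ ∈ C := fun a b hab => by
        rw [← commutatorElement_inv]; exact inv_mem hab
      have e1 : ⁅π e', π z'⁆ ∈ C := subset_closure rfl
      have e2 : ⁅π e', π u⁆ ∈ C := by rw [heu]; exact one_mem _
      have e3 : ⁅π z', π u⁆ ∈ C := by rw [hzu']; exact one_mem _
      rintro a (rfl | rfl | rfl) b (rfl | rfl | rfl)
      exacts [by rw [commutatorElement_self]; exact one_mem _, e1, e2, mi _ _ e1,
        by rw [commutatorElement_self]; exact one_mem _, e3, mi _ _ e2, mi _ _ e3,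
        by rw [commutatorElement_self]; exact one_mem _]
    intro c hc
    have h1 : π c ∈ C := hle (mem_map_of_mem π hc)
    rw [hC, ← map_commutatorElement, ← Set.image_singleton, ← MonoidHom.map_closure] at h1
    have h2 : c ∈ ((closure ({⁅e', z'⁆} : Set X)).map π).comap π := h1
    rwa [comap_map_eq, hπ, QuotientGroup.ker_mk'] at h2
  · intro c hc
    have h1 : π c ∈ UP := hag (by rw [hNb, agemo_map]; exact mem_map_of_mem π hc)
    rw [hUP, ← map_pow, ← Set.image_singleton, ← MonoidHom.map_closure] at h1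
    have h2 : c ∈ ((closure ({u ^ p} : Set X)).map π).comap π := h1
    rwa [comap_map_eq, hπ, QuotientGroup.ker_mk'] at h2

end Cfsg.Agent.RankThreeEss.Pearl
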