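import Cfsg.Agent.RankThreeEss.Pearl.Abelian

/-!
A reduced system over a group of sectional rank three has a pearl.
-/

set_option autoImplicit false
set_option linter.style.haveILetI false

namespace Cfsg.Agent.RankThreeEss.Pearl

open Cfsg Cfsg.FusionSystem Cfsg.Agent.FusSys Subgroup
open scoped commutatorElement

universe u

variable {p : ℕ} [hp : Fact p.Prime]
variable {Ω : Type u} [Group Ω] {S : Subgroup Ω} {F : FusionSystem S} {E : Subgroup Ω}

omit hp in
theorem subgroupOf_ne {B : Subgroup Ω} (hES : E ≤ S) (hBS : B ≤ S) (h : B ≠ E) :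
    B.subgroupOf S ≠ E.subgroupOf S := fun e => h (by
  rw [← map_subgroupOf_eq_of_le hBS, ← map_subgroupOf_eq_of_le hES, e])

omit hp in
theorem subgroupOf_self_map (Q : Subgroup S) : (Q.map S.subtype).subgroupOf S = Q :=
  comap_map_eq_self_of_injective S.subtype_injective Q

omit hp in
/-- Twisted and regular shapes are alone. -/
theorem twisted_false [Finite S] (hS : IsPGroup p S) (hF : F.IsSaturated p) (hO : F.core = ⊥)
    (hne : S ≠ ⊥) [Fact p.Prime]
    (hK : ∀ B, F.IsEssential p B → (B.subgroupOf S).index = p ∧ normalizerIn S B = S ∧ Kind F p B)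
    (hE : F.IsEssential p E) (T : Twisted p (E.subgroupOf S)) : False := by
  refine unique_false hS hF hO hne hE (fun B hB => ?_) (fun α => T.map_eq (hK E hE).1 α)
  by_contra hBE
  obtain ⟨hidx, -, hkind⟩ := hK B hB
  obtain ⟨h1, h2⟩ := T.other _ hidx (subgroupOf_ne hE.1.1 hB.1.1 hBE)
  rcases hkind with hT | ⟨-, ⟨hN, x, e, t, z, d, -⟩ | ⟨h, σ, k, x, e, z, u, -, d, P, -⟩⟩
  · exact h1 ⟨hT.lcs3, hT.gen2⟩
  · exact not_gen2 d.hyp (h2 (comm_le_agemo d.omega))
  · exact T.top3 (pair_class_three d P)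

theorem reg_false [Finite S] (hS : IsPGroup p S) (hF : F.IsSaturated p) (hO : F.core = ⊥)
    (hne : S ≠ ⊥)
    (hK : ∀ B, F.IsEssential p B → (B.subgroupOf S).index = p ∧ normalizerIn S B = S ∧
      ((frattini (B.subgroupOf S)).index = p ^ 3 ∧ (RegAt p B S ∨ PairAt F p B S)))
    (hE : F.IsEssential p E) (R : RegAt p E S) : False := by
  obtain ⟨hN, x, e, t, z, d, n, hn1, hn⟩ := R
  refine unique_false hS hF hO hne hE (fun B hB => ?_) (fun α => ?_)
  · by_contra hBE
    obtain ⟨hidx, -, hr, ⟨hM, x', e', t', z', d', m, hm1, hm⟩ | ⟨h, σ, k, x', e', z', u, -, d', P, -⟩⟩ :=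
      hK B hB
    · exact subgroupOf_ne hE.1.1 hB.1.1 hBE (reg_reg d hn1 hn d' hm1 hm).symm
    · exact reg_pair d d' P hr
  · by_contra hne'
    obtain ⟨b, hb, hb1⟩ := other_max d hn
      ((index_map_equiv (E.subgroupOf S) α).trans d.index) hne' (by
        rw [agemo_map, ← map_commutator]
        exact map_mono (comm_le_agemo d.omega))
    obtain ⟨a, ha, rfl⟩ := hb
    refine hb1 ?_
    rw [← map_pow, show a ^ p ^ (n + 1) = 1 from congrArg Subtype.val (hn1 ⟨a, ha⟩), map_one]

omit hp in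
/-- A subgroup of `E` seen inside `E`. -/
theorem map_subgroupOf_le {Q : Subgroup Ω} (h : Q ≤ E) : (Q.subgroupOf E).map E.subtype = Q :=
  map_subgroupOf_eq_of_le h

theorem all_pair_false [Finite S] (hS : IsPGroup p S) (hF : F.IsSaturated p) (hO : F.core = ⊥)
    (hne : S ≠ ⊥)
    (hK : ∀ B, F.IsEssential p B → normalizerIn S B = S ∧ PairAt F p B S) : False := by
  haveI : Nontrivial S := (nontrivial_iff_ne_bot S).2 hne
  have hnormal : ∀ Q : Subgroup Ω, Q ≤ S → (∀ α ∈ F.autGroup S, (Q.subgroupOf S).map α.toMonoidHom =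
      Q.subgroupOf S) → (∀ B, F.IsEssential p B → Q ≤ B ∧ ∀ α ∈ F.autGroup B,
        (Q.subgroupOf B).map α.toMonoidHom = Q.subgroupOf B) → Q = ⊥ := fun Q h1 h2 h3 => by
    refine eq_bot_of_normal hO ((isNormal_iff_essential hS hF).2 fun P hP => ?_)
    rcases hP with rfl | hP
    exacts [⟨h1, h2⟩, h3 P hP]
  by_cases habel : ∀ B, F.IsEssential p B → ∀ (h : MulAut S) (σ : S → S) (k : ZMod p) (x e z u : S),
      TD p (B.subgroupOf S) h σ k x e z u → PairOut p (B.subgroupOf S) h k x e z u → ⁅e, z⁆ ≠ 1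
  · have hQ := hnormal ((center S).map S.subtype) (map_subtype_le _) (fun α _ => by
      rw [subgroupOf_self_map]
      exact characteristic_iff_map_eq.1 inferInstance α) (fun B hB => by
      obtain ⟨-, h, σ, k, x, e, z, u, -, d, P, -⟩ := hK B hB
      obtain ⟨hc, hcN, -⟩ := P.nonab (habel B hB h σ k x e z u d P)
      have hle : (center S).map S.subtype ≤ B := by
        rintro _ ⟨g, hg, rfl⟩
        rw [hc] at hg
        exact mem_subgroupOf.1 ((closure_le _).2 (Set.singleton_subset_iff.2 d.uN) hg)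
      have heq : ((center S).map S.subtype).subgroupOf B = center B := by
        ext a
        rw [mem_subgroupOf, mem_center_iff]
        constructor
        · rintro ⟨g, hg, hga⟩ b
          refine Subtype.ext ?_
          rw [Subgroup.coe_mul, Subgroup.coe_mul, ← hga]
          exact congrArg Subtype.val (mem_center_iff.1 hg ⟨b, hB.1.1 b.2⟩)
        · intro ha
          refine ⟨⟨(a : Ω), hB.1.1 a.2⟩, hc.ge (hcN _ (mem_subgroupOf.2 a.2) fun b hb => ?_), rfl⟩
          exact Subtype.ext (congrArg (Subtype.val : B → Ω) (ha ⟨(b : Ω), mem_subgroupOf.1 hb⟩)).symm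
      refine ⟨hle, fun α _ => ?_⟩
      rw [heq]
      exact characteristic_iff_map_eq.1 inferInstance α)
    rw [Subgroup.map_eq_bot_iff_of_injective _ S.subtype_injective] at hQ
    haveI := hS.center_nontrivial
    exact (nontrivial_iff_ne_bot _).1 inferInstance hQ
  push Not at habel
  obtain ⟨E₀, hE₀, h₀, σ₀, k₀, x₀, e₀, z₀, u₀, d₀, P₀, hab₀⟩ := habel
  have hab : ∀ B, F.IsEssential p B → ∀ (h : MulAut S) (σ : S → S) (k : ZMod p) (x e z u : S),
      TD p (B.subgroupOf S) h σ k x e z u → PairOut p (B.subgroupOf S) h k x e z u → ⁅e, z⁆ = 1 := by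
    intro B _ h σ k x e z u d P
    by_contra hne'
    obtain ⟨h1, h2, -, -⟩ := P₀.abel hab₀
    exact (P.nonab hne').2.2 _ h2 h1.le
  have hag : ∀ B, F.IsEssential p B → ∀ (h : MulAut S) (σ : S → S) (k : ZMod p) (x e z u : S),
      TD p (B.subgroupOf S) h σ k x e z u → PairOut p (B.subgroupOf S) h k x e z u →
        agemo p (center S) = Phi p (B.subgroupOf S) ∧
          agemo p (center S) = agemo p (B.subgroupOf S) := by
    intro B hB h σ k x e z u d P
    have hle : ∀ H : Subgroup S, u ∈ H → agemo p H = closure ({u ^ p} : Set S) := fun H hu =>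
      le_antisymm (agemo_le_iff.2 fun g _ => P.pows g)
        ((closure_le _).2 (Set.singleton_subset_iff.2 (pow_mem_agemo hu)))
    rw [hle _ P.ucen, hle _ d.uN, P.facts.phi]
    exact ⟨rfl, rfl⟩
  have hQ0 := hnormal ((agemo p (center S)).map S.subtype) (map_subtype_le _) (fun α _ => by
    rw [subgroupOf_self_map, ← agemo_map,
      characteristic_iff_map_eq.1 (inferInstance : (center S).Characteristic) α]) (fun B hB => by
    obtain ⟨-, h, σ, k, x, e, z, u, -, d, P, -⟩ := hK B hB
    have hQB : (agemo p (center S)).map S.subtype = agemo p B := by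
      rw [(hag B hB h σ k x e z u d P).2, ← agemo_map, map_subgroupOf_eq_of_le hB.1.1]
    have heq : ((agemo p (center S)).map S.subtype).subgroupOf B = agemo p (⊤ : Subgroup B) := by
      refine map_injective B.subtype_injective ?_
      rw [hQB, agemo_map_subtype, map_subgroupOf_le (agemo_le B)]
    refine ⟨hQB ▸ agemo_le B, fun α _ => ?_⟩
    rw [heq, ← agemo_map, map_top_of_surjective _ α.surjective])
  rw [Subgroup.map_eq_bot_iff_of_injective _ S.subtype_injective] at hQ0
  have hdata : ∀ B, F.IsEssential p B → ∃ (h : MulAut S) (k : ZMod p) (z u : S),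
      AbData F p B h k z u ∧ u ≠ 1 := by
    intro B hB
    obtain ⟨hN, h, σ, k, x, e, z, u, hh, d, P, hu0, α, hα, hσ⟩ := hK B hB
    have hΦ : Phi p (B.subgroupOf S) = ⊥ := (hag B hB h σ k x e z u d P).1.symm.trans hQ0
    refine ⟨h, k, z, u, ab_data hS hF hB.1.1 hB.2.1 hN hh d P hu0 hα hσ
      (hab B hB h σ k x e z u d P) hΦ, fun e1 => ?_⟩
    have := hu0 1 (by rw [e1, one_pow]; exact one_mem _)
    rw [Nat.cast_one] at this
    exact one_ne_zero this
  obtain ⟨h, k, z, u, A, hu1⟩ := hdata E₀ hE₀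
  have huc : u ∈ center S := A.cen.ge (Subgroup.subset_closure (by simp))
  have hQ := hnormal ((zpowers u).map S.subtype) (map_subtype_le _) (fun α hα => by
    rw [subgroupOf_self_map]
    exact map_zpowers_eq α (A.fixed hS hF hα)) (fun B hB => by
    obtain ⟨h', k', z', u', A', -⟩ := hdata B hB
    haveI := finite_of_le hB.1.1
    have huc' : u' ∈ center S := A'.cen.ge (Subgroup.subset_closure (by simp))
    have hu' : (u' : Ω) ∈ B := A'.cenE u' huc'
    have hline : (zpowers u).map S.subtype = zpowers (u' : Ω) := by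
      rw [← AbData.same_line hS hF A A', MonoidHom.map_zpowers]
      rfl
    have heq : ((zpowers u).map S.subtype).subgroupOf B = zpowers (⟨u', hu'⟩ : B) := by
      refine map_injective B.subtype_injective ?_
      rw [hline, map_subgroupOf_le (zpowers_le.2 hu'), MonoidHom.map_zpowers]
      rfl
    refine ⟨hline ▸ zpowers_le.2 hu', fun α hα => ?_⟩
    rw [heq]
    exact map_zpowers_eq α (A'.line hu' α hα))
  rw [Subgroup.map_eq_bot_iff_of_injective _ S.subtype_injective, zpowers_eq_bot] at hQ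
  exact hu1 hQ

/-- The main result. -/
theorem exists_pearl [Finite S] (hp5 : 5 ≤ p) (hS : IsPGroup p S) (hF : F.IsSaturated p)
    (hsr : SectionalPRankLE p 3 S) (hsr2 : ¬ SectionalPRankLE p 2 S) (hO : F.core = ⊥) :
    ∃ E : Subgroup Ω, (F.IsEssential p E ∧ ((Cfsg.IsElementaryAbelian p E ∧ Nat.card E = p ^ 2) ∨
      (Cfsg.IsExtraspecial p E ∧ Nat.card E = p ^ 3 ∧ ∀ x ∈ E, x ^ p = 1))) := by
  by_contra hcon
  have hne : S ≠ ⊥ := s_ne_bot hsr2 hp.out.one_le
  have hK : ∀ B, F.IsEssential p B →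
      (B.subgroupOf S).index = p ∧ normalizerIn S B = S ∧ Kind F p B := fun B hB =>
    (kind_of_essential hp5 hS hF hsr hB).resolve_left fun h => hcon ⟨B, hB, h⟩
  by_cases hT : ∃ B, F.IsEssential p B ∧ Twisted p (B.subgroupOf S)
  · obtain ⟨B, hB, T⟩ := hT
    exact twisted_false hS hF hO hne hK hB T
  have hK' : ∀ B, F.IsEssential p B → (B.subgroupOf S).index = p ∧ normalizerIn S B = S ∧
      ((frattini (B.subgroupOf S)).index = p ^ 3 ∧ (RegAt p B S ∨ PairAt F p B S)) := fun B hB => by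
    obtain ⟨h1, h2, h3⟩ := hK B hB
    exact ⟨h1, h2, h3.resolve_left fun h => hT ⟨B, hB, h⟩⟩
  by_cases hR : ∃ B, F.IsEssential p B ∧ RegAt p B S
  · obtain ⟨B, hB, R⟩ := hR
    exact reg_false hS hF hO hne hK' hB R
  refine all_pair_false hS hF hO hne fun B hB => ?_
  obtain ⟨-, h2, -, h3⟩ := hK' B hB
  exact ⟨h2, h3.resolve_left fun h => hR ⟨B, hB, h⟩⟩

end Cfsg.Agent.RankThreeEss.Pearl
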