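import Cfsg.Agent.RankThreeEss.Pearl.LayerTwo

/-!
Three generators with a transvection: the maximal subgroup has class at most two.
-/

set_option autoImplicit false
set_option linter.style.haveILetI false

namespace Cfsg.Agent.RankThreeEss.Pearl

open Subgroup
open scoped commutatorElement

variable {p : ℕ} [hp : Fact p.Prime] {X : Type*} [Group X]

omit hp in
theorem comm_pow {Y : Type*} [Group Y] {a b : Y} (h : Commute a ⁅a, b⁆) (n : ℕ) :
    ⁅a ^ n, b⁆ = ⁅a, b⁆ ^ n := by
  induction n with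
  | zero => simp
  | succ n ih =>
    rw [show ⁅a ^ (n + 1), b⁆ = a * ⁅a ^ n, b⁆ * a⁻¹ * ⁅a, b⁆ by
      rw [pow_succ']; simp only [commutatorElement_def]; group,
      ih, (h.pow_right n).eq, mul_inv_cancel_right, ← pow_succ]

omit hp in
theorem mem_comap_closure {Y : Type*} [Group Y] (f : X →* Y) {K : Subgroup X} (hK : f.ker = K)
    {s : Set X} {g : X} (hg : f g ∈ closure (f '' s)) : g ∈ closure s ⊔ K := by
  rw [← MonoidHom.map_closure] at hg
  have h : g ∈ ((closure s).map f).comap f := hg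
  rwa [comap_map_eq, hK] at h

/-- The exact structure in the three-generator case. -/
structure PairFacts (p : ℕ) (N : Subgroup X) (x e z u : X) : Prop where
  cl2 : N.lowerCentralSeries 2 = ⊥
  ep : e ^ p = 1
  zp : z ^ p = 1
  ceu : Commute e u
  czu : Commute z u
  cmem : ⁅e, z⁆ ∈ closure ({u ^ p} : Set X)
  cp : ⁅e, z⁆ ^ p = 1
  phi : Phi p N = closure ({u ^ p} : Set X)
  xp : x ^ p ∈ closure ({u ^ p} : Set X)

variable [Finite X] {N : Subgroup X} {h : MulAut X} {σ : X → X} {k : ZMod p} {x e z u : X}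

theorem TD.pair_class (d : TD p N h σ k x e z u) (he : Eig p N h k x z u) (t : T2 p N x e z u)
    (hrank : ∀ (K : Subgroup X) [K.Normal], PRankLE p 3 (X ⧸ K))
    (hu0 : ∀ i j l : ℕ, e ^ i * z ^ j * u ^ l ∈ Phi p N → (l : ZMod p) = 0) :
    PairFacts p N x e z u := by
  haveI : NeZero p := ⟨hp.out.ne_zero⟩
  haveI := d.normal
  haveI := d.phi_normal
  set π0 := QuotientGroup.mk' (Phi p N) with hπ0
  have v := d.vq π0 (QuotientGroup.ker_mk' _)
  set G1 := N.lowerCentralSeries 1 with hG1d
  set G2 := N.lowerCentralSeries 2 with hG2d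
  set K := G2 ⊔ agemo p N with hK
  have hKi : FullInv N K := (fullInv_lcs N 2).sup fullInv_self.agemo
  haveI : K.Normal := hKi.normal
  have hKle : K ≤ closure ({u ^ p} : Set X) ⊔ G2 := sup_le le_sup_right t.ag
  have hKΦ : K ≤ Phi p N := sup_le
    (le_sup_of_le_left (Subgroup.lowerCentralSeries_antitone _ (by norm_num))) le_sup_right
  have hc : ⁅e, z⁆ ∈ K := by
    by_contra hne
    set π := QuotientGroup.mk' K with hπ
    have h0 : ∀ c, π c = 1 ↔ c ∈ K := fun c => QuotientGroup.eq_one_iff c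
    have hcn : ∀ a b : X, π0 a = π0 b → ∃ f ∈ Phi p N, π b = π a * π f := fun a b hab =>
      ⟨a⁻¹ * b, (cn_iff_mk _ a b).2 hab, by rw [← map_mul, mul_inv_cancel_left]⟩
    obtain ⟨C, hC⟩ : ∃ C, C = π ⁅e, z⁆ := ⟨_, rfl⟩
    have hC1 : C ≠ 1 := fun e0 => hne ((h0 _).1 (hC ▸ e0))
    set Cs := closure ({C} : Set (X ⧸ K)) with hCs
    have hΦC : ∀ f ∈ Phi p N, π f ∈ Cs := by
      intro f hf
      have hle : Phi p N ≤ Cs.comap π := by
        refine sup_le (t.g1.trans (sup_le ((closure_le _).2 ?_) fun g hg => ?_)) fun g hg => ?_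
        · rintro y (rfl : y = ⁅e, z⁆)
          show π ⁅e, z⁆ ∈ Cs
          rw [← hC]; exact subset_closure rfl
        · rw [mem_comap, (h0 g).2 (mem_sup_left hg)]; exact one_mem _
        · rw [mem_comap, (h0 g).2 (mem_sup_right hg)]; exact one_mem _
      exact hle hf
    have hez : ∀ a ∈ N, ∀ b ∈ N, π ⁅a, b⁆ ∈ Cs := fun a ha b hb =>
      hΦC _ (mem_sup_left (comm_mem_lcs_one ha hb))
    have hCN : ∀ a ∈ N, Commute C (π a) := fun a ha => by
      rw [hC, ← commutatorElement_eq_one_iff_commute, ← map_commutatorElement, h0]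
      exact mem_sup_left (comm_mem_lcs_succ (comm_mem_lcs_one d.eN d.zN) ha)
    have hCsN : ∀ c ∈ Cs, ∀ a ∈ N, Commute c (π a) := fun c hc a ha => by
      obtain ⟨i, rfl⟩ := mem_closure_singleton.1 hc
      exact (hCN a ha).zpow_left i
    have hexp : ∀ a ∈ N, π a ^ p = 1 := fun a ha => by
      rw [← map_pow, h0]; exact mem_sup_right (pow_mem_agemo ha)
    have hmc : ∀ a b f g : X, a ∈ N → b ∈ N → f ∈ Phi p N → g ∈ Phi p N →
        ⁅π a * π f, π b * π g⁆ = ⁅π a, π b⁆ := by
      intro a b f g ha hb hf hg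
      have cf := hCsN _ (hΦC f hf)
      have cg := hCsN _ (hΦC g hg)
      calc ⁅π a * π f, π b * π g⁆
          = π a * (π f * π (b * g) * (π f)⁻¹) * (π a)⁻¹ * ((π g)⁻¹ * (π b)⁻¹) := by
            simp only [commutatorElement_def, map_mul]; group
        _ = π a * π b * (π g * (π a)⁻¹) * ((π g)⁻¹ * (π b)⁻¹) := by
            rw [(cf _ (mul_mem hb (fullInv_phi.1 hg))).eq, mul_inv_cancel_right, map_mul]; group
        _ = _ := by rw [(cg _ ha).inv_right.eq, commutatorElement_def]; group
    obtain ⟨f1, hf1, c1⟩ := hcn (e * z) (x * e * x⁻¹) (by rw [map_mul, map_mul, map_mul, map_inv, v.xe])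
    obtain ⟨f2, hf2, c2⟩ := hcn z (x * z * x⁻¹) (by
      rw [map_mul, map_mul, map_inv, v.xz.eq, mul_inv_cancel_right])
    have hTC : Commute (π x) C := by
      have e1 : π x * C * (π x)⁻¹ = C := by
        rw [hC, map_commutatorElement, conj_comm, ← map_inv, ← map_mul, ← map_mul, ← map_mul,
          ← map_mul, c1, c2, hmc _ _ _ _ (mul_mem d.eN d.zN) d.zN hf1 hf2, map_mul,
          ← map_commutatorElement, ← map_mul, ← map_commutatorElement,
          show ⁅e * z, z⁆ = ⁅e, z⁆ by simp only [commutatorElement_def]; group]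
      exact mul_inv_eq_iff_eq_mul.1 e1
    have hCsT : ∀ c ∈ Cs, Commute (π x) c := fun c hc => by
      obtain ⟨i, rfl⟩ := mem_closure_singleton.1 hc
      exact hTC.zpow_right i
    have hCp : ∀ c ∈ Cs, c ^ p = 1 := fun c hc => by
      obtain ⟨i, rfl⟩ := mem_closure_singleton.1 hc
      rw [← zpow_natCast _ p, ← zpow_mul, mul_comm, zpow_mul, zpow_natCast, hC,
        hexp _ ((fullInv_lcs N 1).1 (comm_mem_lcs_one d.eN d.zN)), one_zpow]
    obtain ⟨ge, hge, ce⟩ := hcn (e ^ k⁻¹.val) (h e) (by rw [map_pow, v.he])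
    obtain ⟨gz, hgz, cz⟩ := hcn (z ^ k.val) (h z) (by rw [map_pow, v.hz])
    obtain ⟨gu, hgu, cu⟩ := hcn u (h u) v.hu.symm
    have hhC : π (h ⁅e, z⁆) = C := by
      rw [map_commutatorElement h, map_commutatorElement, ce, cz,
        hmc _ _ _ _ (pow_mem d.eN _) (pow_mem d.zN _) hge hgz, map_pow, map_pow]
      have hcl : Cl2 (N.map π) := by
        rintro _ ⟨a, ha, rfl⟩ _ ⟨b, hb, rfl⟩ _ ⟨c, hc, rfl⟩
        rw [← map_commutatorElement]
        exact hCsN _ (hez a ha b hb) c hc
      rw [hcl.pow_left (mem_map_of_mem π d.eN) (pow_mem (mem_map_of_mem π d.zN) _),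
        hcl.pow_right (mem_map_of_mem π d.eN) (mem_map_of_mem π d.zN), ← map_commutatorElement, ← hC,
        ← pow_mul]
      rw [pow_eq_pow_of_cast (hCp C (subset_closure rfl)) (b := 1) (by
        rw [Nat.cast_mul, ZMod.natCast_zmod_val, ZMod.natCast_zmod_val, mul_inv_cancel₀ d.k0,
          Nat.cast_one]), pow_one]
    have hfix : ∀ a : X, π a ∈ Cs → π (h a) = π a := fun a ha => by
      obtain ⟨i, hi⟩ := mem_closure_singleton.1 ha
      have h1 : π a = π (⁅e, z⁆ ^ i) := by rw [map_zpow, ← hC, hi]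
      have h2 : (⁅e, z⁆ ^ i)⁻¹ * a ∈ K := by rw [← h0, map_mul, map_inv, h1, inv_mul_cancel]
      have h3 : π (h a) = π (h (⁅e, z⁆ ^ i)) := by
        have := hKi.2 _ d.ih_endOn _ h2
        change h _ ∈ K at this
        rw [← h0, map_mul h, map_inv h, map_mul π, map_inv π, inv_mul_eq_one] at this
        exact this.symm
      rw [h3, map_zpow h, map_zpow π, hhC, hi]
    obtain ⟨n, m, hn, hm, hx⟩ := he
    -- `M` commutes with `z` and `u`
    have czu : Commute (π z) (π u) := by
      rw [← commutatorElement_eq_one_iff_commute, ← map_commutatorElement, h0]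
      exact mem_sup_left t.zu
    have hM : m ∈ N ∧ Commute (π m) (π z) ∧ Commute (π m) (π u) := by
      have hle : closure ({z, u} : Set X) ⊔ Phi p N ≤
          N ⊓ (centralizer ({π z} : Set (X ⧸ K))).comap π ⊓
            (centralizer ({π u} : Set (X ⧸ K))).comap π := by
        refine sup_le ((closure_le _).2 ?_) fun f hf => ⟨⟨fullInv_phi.1 hf, ?_⟩, ?_⟩
        · rintro y (rfl | rfl)
          · exact ⟨⟨d.zN, mem_centralizer_singleton_iff.2 rfl⟩, mem_centralizer_singleton_iff.2 czu.eq⟩
          · exact ⟨⟨d.uN, mem_centralizer_singleton_iff.2 czu.eq.symm⟩, mem_centralizer_singleton_iff.2 rfl⟩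
        · exact mem_centralizer_singleton_iff.2 (hCsN _ (hΦC f hf) _ d.zN).eq
        · exact mem_centralizer_singleton_iff.2 (hCsN _ (hΦC f hf) _ d.uN).eq
      obtain ⟨⟨h1, h2⟩, h3⟩ := hle hm
      exact ⟨h1, mem_centralizer_singleton_iff.1 h2, mem_centralizer_singleton_iff.1 h3⟩
    -- the eigenvector commutes with `z` and `u`
    have step : ∀ (w : X) (r : ℕ), w ∈ N → π0 x * π0 w * (π0 x)⁻¹ = π0 w → Commute (π m) (π w) →
        (∃ g ∈ Phi p N, π (h w) = π (w ^ r) * π g) → (n : ZMod p) * r ≠ 1 → Commute (π x) (π w) := by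
      intro w r hw hcx hmw hhw hne1
      obtain ⟨g, hg, hgw⟩ := hhw
      obtain ⟨f, hf, cf⟩ := hcn w (x * w * x⁻¹) (by rw [map_mul, map_mul, map_inv, hcx])
      obtain ⟨q, hq⟩ : ∃ q, q = π f := ⟨_, rfl⟩
      rw [map_mul, map_mul, map_inv, ← hq] at cf
      have hqC : q ∈ Cs := hq ▸ hΦC f hf
      have hit : ∀ i : ℕ, π x ^ i * π w * (π x ^ i)⁻¹ = π w * q ^ i := fun i => by
        induction i with
        | zero => simp
        | succ i ih =>
          calc π x ^ (i + 1) * π w * (π x ^ (i + 1))⁻¹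
              = π x * (π x ^ i * π w * (π x ^ i)⁻¹) * (π x)⁻¹ := by rw [pow_succ']; group
            _ = π x * π w * (π x)⁻¹ * (π x * q ^ i * (π x)⁻¹) := by rw [ih]; group
            _ = _ := by
              rw [cf, ((hCsT q hqC).pow_right i).eq, mul_inv_cancel_right, mul_assoc, ← pow_succ']
      have hgC : π g ∈ Cs := hΦC g hg
      have e1 : π (h (x * w * x⁻¹)) = π w ^ r * π g * q := by
        have e0 : π (x * w * x⁻¹) = π (w * f) := by rw [map_mul, map_mul, map_inv, cf, hq, map_mul]
        have h2 : (x * w * x⁻¹)⁻¹ * (w * f) ∈ K := by rw [← h0, map_mul, map_inv, e0, inv_mul_cancel]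
        have h3 := hKi.2 _ d.ih_endOn _ h2
        change h _ ∈ K at h3
        rw [← h0, map_mul h, map_inv h, map_mul π, map_inv π, inv_mul_eq_one] at h3
        rw [h3, map_mul h, map_mul π, hfix f (hq ▸ hqC), ← hq, hgw, map_pow]
      have e2 : π (h (x * w * x⁻¹)) = π w ^ r * (q ^ n) ^ r * π g := by
        rw [map_mul h, map_mul h, map_inv h, map_mul π, map_mul π, map_inv π, hgw, hx, map_mul π,
          map_pow π, map_pow π]
        have hg1 : Commute (π x ^ n) (π g) := (hCsT _ hgC).pow_left n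
        calc π m * π x ^ n * (π w ^ r * π g) * (π m * π x ^ n)⁻¹
            = π m * (π x ^ n * π w ^ r * (π x ^ n)⁻¹ * (π x ^ n * π g * (π x ^ n)⁻¹)) * (π m)⁻¹ := by
              group
          _ = π m * (π w ^ r * (q ^ n) ^ r * π g) * (π m)⁻¹ := by
              rw [← conj_pow, hit, hg1.eq, mul_inv_cancel_right,
                ((hCsN _ (pow_mem hqC n) w hw).symm).mul_pow]
          _ = _ := by
              rw [((hmw.pow_right r).mul_right ((hCsN _ (pow_mem (pow_mem hqC n) r) m hM.1).symm) |>.mul_right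
                ((hCsN _ hgC m hM.1).symm)).eq, mul_inv_cancel_right]
      rw [e2, mul_assoc, mul_assoc, mul_right_inj] at e1
      have hq1 : (q ^ n) ^ r = q := by
        have hcc : Commute (π g) q := by
          obtain ⟨i, hi⟩ := mem_closure_singleton.1 hgC
          obtain ⟨j, hj⟩ := mem_closure_singleton.1 hqC
          rw [← hi, ← hj]; exact (Commute.refl C).zpow_zpow i j
        rw [hcc.eq] at e1
        exact mul_right_cancel e1
      rw [← pow_mul] at hq1
      have hq2 : q = 1 := eq_one_of_pow_eq (hCp q hqC) (hq1.trans (pow_one q).symm)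
        (by push_cast; exact hne1)
      rw [hq2, mul_one] at cf
      exact mul_inv_eq_iff_eq_mul.1 cf
    have cxz : Commute (π x) (π z) := by
      refine step z k.val d.zN (by rw [v.xz.eq, mul_inv_cancel_right]) hM.2.1 ⟨gz, hgz, cz⟩ ?_
      rw [hn, ZMod.natCast_zmod_val]
      exact fun e0 => d.k3 (by linear_combination e0)
    have cxu : Commute (π x) (π u) := by
      refine step u 1 d.uN (by rw [v.xu.eq, mul_inv_cancel_right]) hM.2.2
        ⟨gu, hgu, by rw [pow_one]; exact cu⟩ ?_
      rw [hn, Nat.cast_one, mul_one]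
      exact d.k2
    have hxp : π x ^ p = 1 := by
      have hmem : π x ^ p ∈ Cs := by rw [← map_pow]; exact hΦC _ t.xp
      have hmT : Commute (π m) (π x) := by
        have hle : closure ({z, u} : Set X) ⊔ Phi p N ≤ (centralizer ({π x} : Set (X ⧸ K))).comap π := by
          refine sup_le ((closure_le _).2 ?_) fun f hf => ?_
          · rintro y (rfl | rfl)
            exacts [mem_centralizer_singleton_iff.2 cxz.eq.symm, mem_centralizer_singleton_iff.2 cxu.eq.symm]
          · exact mem_centralizer_singleton_iff.2 (hCsT _ (hΦC f hf)).eq.symm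
        exact mem_centralizer_singleton_iff.1 (hle hm)
      have e1 := hfix (x ^ p) (by rwa [map_pow])
      rw [map_pow, hx, map_pow, map_mul, map_pow, (hmT.pow_right n).mul_pow, hexp m hM.1, one_mul,
        ← pow_mul, mul_comm, pow_mul, map_pow] at e1
      exact eq_one_of_pow_eq (hCp _ hmem) (e1.trans (pow_one _).symm) (by
        rw [hn, Nat.cast_one]; exact d.k2)
    -- an elementary abelian subgroup of order `p ^ 4`
    have hel := (elem_bot (Q := X ⧸ K) (p := p)).extend (x := C) (hCp C (subset_closure rfl))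
      (fun a ha => by rw [mem_bot.1 ha, one_mul, mul_one]) (fun h => hC1 (mem_bot.1 h))
    rw [bot_sup_eq, card_bot, one_mul, zpowers_eq_closure, ← hCs] at hel
    obtain ⟨el1, k1⟩ := hel
    have hΦback : ∀ g : X, π g ∈ Cs → g ∈ Phi p N := fun g hg => by
      rw [hCs, hC, ← Set.image_singleton] at hg
      exact sup_le ((closure_le _).2 (Set.singleton_subset_iff.2
        (mem_sup_left (comm_mem_lcs_one d.eN d.zN)))) hKΦ (mem_comap_closure π (QuotientGroup.ker_mk' K) hg)
    obtain ⟨el2, k2⟩ := el1.extend (x := π u) (hexp u d.uN) (fun a ha => (hCsN a ha u d.uN).eq.symm)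
      (fun hu => one_ne_zero (α := ZMod p) (by
        simpa using hu0 0 0 1 (by simpa using hΦback u hu)))
    have hcu2 : ∀ a ∈ Cs ⊔ zpowers (π u), π z * a = a * π z := by
      intro a ha
      refine ((?_ : Cs ⊔ zpowers (π u) ≤ centralizer ({π z} : Set (X ⧸ K))) ha |> fun h =>
        (mem_centralizer_singleton_iff.1 h).symm)
      refine sup_le (fun c hc => mem_centralizer_singleton_iff.2 (hCsN c hc z d.zN).eq)
        (zpowers_le.2 (mem_centralizer_singleton_iff.2 czu.eq.symm))
    have hzmem : π z ∉ Cs ⊔ zpowers (π u) := by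
      intro hz
      rw [hCs, hC, zpowers_eq_closure, ← Subgroup.closure_union, Set.singleton_union,
        ← Set.image_pair] at hz
      have h1 : z ∈ closure ({⁅e, z⁆, u} : Set X) ⊔ K := mem_comap_closure π (QuotientGroup.ker_mk' K) hz
      have h2 : closure ({⁅e, z⁆, u} : Set X) ⊔ K ≤ (closure ({π0 u} : Set _)).comap π0 := by
        refine sup_le ((closure_le _).2 ?_) fun g hg => ?_
        · rintro y (rfl | rfl)
          · rw [SetLike.mem_coe, mem_comap, show π0 ⁅e, z⁆ = 1 from (QuotientGroup.eq_one_iff _).2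
              (mem_sup_left (comm_mem_lcs_one d.eN d.zN))]
            exact one_mem _
          · exact subset_closure rfl
        · rw [mem_comap, show π0 g = 1 from (QuotientGroup.eq_one_iff _).2 (hKΦ hg)]; exact one_mem _
      obtain ⟨i, hi⟩ := mem_closure_singleton.1 (h2 h1)
      obtain ⟨l, hl⟩ := (isOfFinOrder_of_finite (π0 u)).mem_powers_iff_mem_zpowers.2 ⟨i, hi⟩
      change π0 u ^ l = π0 z at hl
      refine one_ne_zero (α := ZMod p) (by
        simpa using (v.indep 0 1 ((p - 1) * l) (by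
          rw [pow_zero, one_mul, pow_one, ← hl, ← pow_add, add_pred hp.out.ne_zero, pow_mul,
            v.exp _ d.uN, one_pow])).2.1)
    obtain ⟨el3, k3⟩ := el2.extend (x := π z) (hexp z d.zN) hcu2 hzmem
    have hcx : ∀ a ∈ Cs ⊔ zpowers (π u) ⊔ zpowers (π z), π x * a = a * π x := by
      intro a ha
      refine ((?_ : Cs ⊔ zpowers (π u) ⊔ zpowers (π z) ≤ centralizer ({π x} : Set (X ⧸ K))) ha |>
        fun h => (mem_centralizer_singleton_iff.1 h).symm)
      refine sup_le (sup_le (fun c hc => mem_centralizer_singleton_iff.2 (hCsT c hc).eq.symm)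
        (zpowers_le.2 (mem_centralizer_singleton_iff.2 cxu.eq.symm)))
        (zpowers_le.2 (mem_centralizer_singleton_iff.2 cxz.eq.symm))
    have hxmem : π x ∉ Cs ⊔ zpowers (π u) ⊔ zpowers (π z) := by
      intro hx'
      have hle : Cs ⊔ zpowers (π u) ⊔ zpowers (π z) ≤ N.map π := by
        refine sup_le (sup_le ((closure_le _).2 ?_) (zpowers_le.2 (mem_map_of_mem π d.uN)))
          (zpowers_le.2 (mem_map_of_mem π d.zN))
        rintro y (rfl : y = C)
        rw [hC]; exact mem_map_of_mem π ((fullInv_lcs N 1).1 (comm_mem_lcs_one d.eN d.zN))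
      have h2 : x ∈ (N.map π).comap π := hle hx'
      rw [comap_map_eq, hπ, QuotientGroup.ker_mk', sup_eq_left.2 hKi.1] at h2
      exact d.not_mem h2
    obtain ⟨el4, k4⟩ := el3.extend (x := π x) hxp hcx hxmem
    have h5 := el4.card_le (hrank K)
    have : p ^ 4 ≤ p ^ 3 :=
      calc p ^ 4 = p * p * p * p := by ring
        _ ≤ Nat.card Cs * p * p * p := Nat.mul_le_mul_right _ (Nat.mul_le_mul_right _ (Nat.mul_le_mul_right _ k1))
        _ ≤ _ := ((Nat.mul_le_mul_right _ ((Nat.mul_le_mul_right _ k2).trans k3)).trans k4).trans h5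
    rw [Nat.pow_le_pow_iff_right hp.out.one_lt] at this
    omega
  -- the third term is trivial
  have hcK : ⁅e, z⁆ ∈ closure ({u ^ p} : Set X) ⊔ G2 := hKle hc
  have hG1K : G1 ≤ closure ({u ^ p} : Set X) ⊔ G2 :=
    t.g1.trans (sup_le ((closure_le _).2 (Set.singleton_subset_iff.2 hcK)) le_sup_right)
  have hG2 : G2 = ⊥ := by
    refine lcs_eq_bot d.pgN ?_
    set G3 := N.lowerCentralSeries 3 with hG3d
    have hG3i : FullInv N G3 := fullInv_lcs N 3
    haveI : G3.Normal := hG3i.normal
    set π := QuotientGroup.mk' G3 with hπ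
    have h0 : ∀ c, π c = 1 ↔ c ∈ G3 := fun c => QuotientGroup.eq_one_iff c
    have hc2 : ∀ g ∈ G2, ∀ a ∈ N, Commute (π g) (π a) := fun g hg a ha => by
      rw [← commutatorElement_eq_one_iff_commute, ← map_commutatorElement, h0]
      exact comm_mem_lcs_succ hg ha
    -- exponent of `G2`
    have hG1p : ∀ a ∈ G1, a ^ p ∈ G2 := by
      intro a ha
      haveI : G2.Normal := (fullInv_lcs N 2).normal
      obtain ⟨y, hy, g, hg, rfl⟩ := mem_sup_of_normal_right.1 (t.g1 ha)
      obtain ⟨i, rfl⟩ := mem_closure_singleton.1 hy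
      rw [← QuotientGroup.eq_one_iff, QuotientGroup.mk_pow, QuotientGroup.mk_mul,
        (QuotientGroup.eq_one_iff _).2 hg, mul_one, QuotientGroup.mk_zpow, ← zpow_natCast _ p,
        ← zpow_mul, mul_comm, zpow_mul, zpow_natCast, ← QuotientGroup.mk_pow,
        (QuotientGroup.eq_one_iff _).2 (t.cexp e d.eN z d.zN), one_zpow]
    have hG2p : ∀ g ∈ G2, π g ^ p = 1 := by
      let R : Subgroup X :=
        { carrier := {g | g ∈ G2 ∧ π g ^ p = 1}
          one_mem' := ⟨one_mem _, by rw [map_one, one_pow]⟩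
          mul_mem' := fun {a b} ha hb => ⟨mul_mem ha.1 hb.1, by
            rw [map_mul, (hc2 a ha.1 b ((fullInv_lcs N 2).1 hb.1)).mul_pow, ha.2, hb.2, one_mul]⟩
          inv_mem' := fun {a} ha => ⟨inv_mem ha.1, by rw [map_inv, inv_pow, ha.2, inv_one]⟩ }
      have hle : G2 ≤ R := by
        conv_lhs => rw [hG2d, Subgroup.lowerCentralSeries_succ]
        rw [commutator_le]
        intro a ha g hg
        refine ⟨comm_mem_lcs_succ ha hg, ?_⟩
        have hcomm : Commute (π a) ⁅π a, π g⁆ := by
          rw [← map_commutatorElement]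
          exact (hc2 _ (comm_mem_lcs_succ ha hg) a ((fullInv_lcs N 1).1 ha)).symm
        rw [map_commutatorElement, ← comm_pow hcomm, ← map_pow, ← map_commutatorElement, h0]
        exact comm_mem_lcs_succ (hG1p a ha) hg
      exact fun g hg => (hle hg).2
    have hug : ∀ g ∈ N, ⁅u, g⁆ ∈ G2 := by
      intro g hg
      haveI : G2.Normal := (fullInv_lcs N 2).normal
      set π2 := QuotientGroup.mk' G2 with hπ2
      have hle : N ≤ (centralizer ({π2 u} : Set (X ⧸ G2))).comap π2 := by
        refine d.closure_eq.ge.trans ((closure_le _).2 ?_)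
        rintro y (rfl | rfl | rfl) <;> rw [SetLike.mem_coe, mem_comap, mem_centralizer_singleton_iff]
        · exact commutatorElement_eq_one_iff_mul_comm.1 (by
            rw [← map_commutatorElement]; exact (QuotientGroup.eq_one_iff _).2 t.eu)
        · exact commutatorElement_eq_one_iff_mul_comm.1 (by
            rw [← map_commutatorElement]; exact (QuotientGroup.eq_one_iff _).2 t.zu)
      rw [← QuotientGroup.eq_one_iff]
      show π2 _ = 1
      rw [map_commutatorElement, commutatorElement_eq_one_iff_mul_comm]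
      exact (mem_centralizer_singleton_iff.1 (hle hg)).symm
    have hle : closure ({u ^ p} : Set X) ⊔ G2 ≤ (centralizer (N.map π : Set (X ⧸ G3))).comap π := by
      refine sup_le ((closure_le _).2 ?_) fun g hg => ?_
      · rintro y (rfl : y = u ^ p)
        rw [SetLike.mem_coe, mem_comap, mem_centralizer_iff]
        rintro _ ⟨g, hg, rfl⟩
        refine (commutatorElement_eq_one_iff_mul_comm.1 ?_).symm
        have hcomm : Commute (π u) ⁅π u, π g⁆ := by
          rw [← map_commutatorElement]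
          exact (hc2 _ (hug g hg) u d.uN).symm
        rw [map_pow, comm_pow hcomm, ← map_commutatorElement, hG2p _ (hug g hg)]
      · rw [mem_comap, mem_centralizer_iff]
        rintro _ ⟨a, ha, rfl⟩
        exact (hc2 g hg a ha).symm.eq
    conv_lhs => rw [Subgroup.lowerCentralSeries_succ]
    rw [commutator_le]
    intro a ha g hg
    show ⁅a, g⁆ ∈ G3
    rw [← h0, map_commutatorElement, commutatorElement_eq_one_iff_mul_comm]
    exact (mem_centralizer_iff.1 (hle (hG1K ha)) _ (mem_map_of_mem π hg)).symm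
  have hu' : closure ({u ^ p} : Set X) ⊔ G2 = closure ({u ^ p} : Set X) := by rw [hG2, sup_bot_eq]
  have g0 : ∀ {a : X}, a ∈ G2 → a = 1 := fun ha => mem_bot.1 (hG2 ▸ ha)
  have hphi : Phi p N = closure ({u ^ p} : Set X) := by
    rw [t.phi]
    exact le_antisymm (sup_le le_rfl (hG1K.trans hu'.le)) le_sup_left
  exact ⟨hG2, g0 t.ep, g0 t.zp, commutatorElement_eq_one_iff_commute.1 (g0 t.eu),
    commutatorElement_eq_one_iff_commute.1 (g0 t.zu), hu'.le hcK, g0 (t.cexp e d.eN z d.zN), hphi,
    hphi ▸ t.xp⟩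

end Cfsg.Agent.RankThreeEss.Pearl
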