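import Cfsg.Agent.RankThreeEss.Pearl.Base

/-!
A maximal subgroup with a transvection, an opposite transvection and a torus element, modulo its
Frattini subgroup.
-/

set_option autoImplicit false
set_option linter.style.haveILetI false

namespace Cfsg.Agent.RankThreeEss.Pearl

open Subgroup
open scoped commutatorElement

variable {p : ℕ} [hp : Fact p.Prime] {X : Type*} [Group X] [Finite X]

/-- The data. -/
structure TD (p : ℕ) (N : Subgroup X) (h : MulAut X) (σ : X → X) (k : ZMod p) (x e z u : X) :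
    Prop where
  pgroup : IsPGroup p X
  five : 5 ≤ p
  normal : N.Normal
  index : N.index = p
  not_mem : x ∉ N
  eN : e ∈ N
  zN : z ∈ N
  uN : u ∈ N
  gen : N ≤ closure ({e, z, u} : Set X) ⊔ Phi p N
  indep : ∀ i j l : ℕ, e ^ i * z ^ j * u ^ l ∈ Phi p N →
    (i : ZMod p) = 0 ∧ (j : ZMod p) = 0 ∧ u ^ l ∈ Phi p N
  xe : Cn (Phi p N) (x * e * x⁻¹) (e * z)
  xz : Cn (Phi p N) (x * z * x⁻¹) z
  xu : Cn (Phi p N) (x * u * x⁻¹) u
  k0 : k ≠ 0
  k2 : k ^ 2 ≠ 1
  k3 : k ^ 3 ≠ 1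
  hN : ∀ a ∈ N, h a ∈ N
  he : Cn (Phi p N) (h e) (e ^ k⁻¹.val)
  hz : Cn (Phi p N) (h z) (z ^ k.val)
  hu : Cn (Phi p N) (h u) u
  hσ : EndOn N σ
  σe : Cn (Phi p N) (σ e) e
  σz : Cn (Phi p N) (σ z) (z * e)
  σu : Cn (Phi p N) (σ u) u
  ucent : ∀ g ∈ N, ⁅u, g⁆ ∈ agemo p N

/-- The element outside is an eigenvector modulo `⟨z, u⟩ Φ`. -/
def Eig (p : ℕ) (N : Subgroup X) (h : MulAut X) (k : ZMod p) (x z u : X) : Prop :=
  ∃ (n : ℕ) (m : X), (n : ZMod p) = k ^ 2 ∧ m ∈ closure ({z, u} : Set X) ⊔ Phi p N ∧ h x = m * x ^ n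

variable {N : Subgroup X} {h : MulAut X} {σ : X → X} {k : ZMod p} {x e z u : X}

theorem TD.k_one (d : TD p N h σ k x e z u) : k ≠ 1 := fun e0 => d.k2 (by rw [e0, one_pow])

omit hp in
theorem TD.pgN (d : TD p N h σ k x e z u) : IsPGroup p N := d.pgroup.to_subgroup N

theorem TD.phi_normal (d : TD p N h σ k x e z u) : (Phi p N).Normal :=
  haveI := d.normal
  fullInv_phi.normal

theorem TD.closure_eq (d : TD p N h σ k x e z u) : closure ({e, z, u} : Set X) = N := by
  have hle : closure ({e, z, u} : Set X) ≤ N := by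
    rw [closure_le]
    rintro y (rfl | rfl | rfl)
    exacts [d.eN, d.zN, d.uN]
  exact le_antisymm hle (eq_top_of_sup_phi d.pgN hle d.gen)

theorem TD.sup_x (d : TD p N h σ k x e z u) : N ⊔ zpowers x = ⊤ :=
  (isCoatom_of_index_prime d.index).2 _ (lt_of_le_of_ne le_sup_left fun e0 =>
    d.not_mem (e0 ▸ mem_sup_right (mem_zpowers x)))

theorem TD.decomp (d : TD p N h σ k x e z u) (g : X) : ∃ a ∈ N, ∃ i : ℕ, g = a * x ^ i := by
  haveI := d.normal
  obtain ⟨a, ha, y, hy, rfl⟩ := mem_sup_of_normal_left.1 (d.sup_x ▸ mem_top g)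
  obtain ⟨i, hi⟩ := (isOfFinOrder_of_finite x).mem_powers_iff_mem_zpowers.2 hy
  exact ⟨a, ha, i, congrArg (a * ·) hi.symm⟩

theorem TD.xp_mem (d : TD p N h σ k x e z u) : x ^ p ∈ N := by
  haveI := d.normal
  exact d.index ▸ pow_index_mem N x

theorem TD.ih_endOn (d : TD p N h σ k x e z u) : EndOn N (h : X → X) := endOn_hom h d.hN

omit hp [Finite X] in
/-- Congruences modulo a subgroup kept by a map. -/
theorem EndOn.cn {f : X → X} {K : Subgroup X} (hf : EndOn N f) (hK : FullInv N K) {a b : X}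
    (ha : a ∈ N) (hb : b ∈ N) (hab : Cn K a b) : Cn K (f a) (f b) := by
  show (f a)⁻¹ * f b ∈ K
  rw [← hf.map_inv ha, ← hf.map_mul _ (inv_mem ha) _ hb]
  exact hK.2 f hf _ hab

/-- The facts modulo the Frattini subgroup. -/
structure VQ (p : ℕ) (N : Subgroup X) (h : MulAut X) (σ : X → X) (k : ZMod p) (x e z u : X)
    {Y : Type*} [Group Y] (π : X →* Y) : Prop where
  comm : ∀ a ∈ N, ∀ b ∈ N, Commute (π a) (π b)
  exp : ∀ a ∈ N, π a ^ p = 1
  coords : ∀ a ∈ N, ∃ i j l : ℕ, π a = π e ^ i * π z ^ j * π u ^ l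
  indep : ∀ i j l : ℕ, π e ^ i * π z ^ j * π u ^ l = 1 →
    (i : ZMod p) = 0 ∧ (j : ZMod p) = 0 ∧ π u ^ l = 1
  hh : ∀ a b, π a = π b → π (h a) = π (h b)
  he : π (h e) = π e ^ k⁻¹.val
  hz : π (h z) = π z ^ k.val
  hu : π (h u) = π u
  xe : π x * π e * (π x)⁻¹ = π e * π z
  xz : Commute (π x) (π z)
  xu : Commute (π x) (π u)

theorem TD.vq (d : TD p N h σ k x e z u) {Y : Type*} [Group Y] (π : X →* Y)
    (hker : π.ker = Phi p N) : VQ p N h σ k x e z u π := by
  have h0 : ∀ c, π c = 1 ↔ c ∈ Phi p N := fun c => by rw [← hker]; exact MonoidHom.mem_ker.symm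
  have hcn : ∀ {a b}, Cn (Phi p N) a b → π a = π b := fun {a b} hab =>
    inv_mul_eq_one.1 (by rw [← map_inv, ← map_mul, h0]; exact hab)
  have hcomm : ∀ a ∈ N, ∀ b ∈ N, Commute (π a) (π b) := fun a ha b hb => by
    rw [← commutatorElement_eq_one_iff_commute, ← map_commutatorElement, h0]
    exact mem_sup_left (comm_mem_lcs_one ha hb)
  have hexp : ∀ a ∈ N, π a ^ p = 1 := fun a ha => by
    rw [← map_pow, h0]
    exact mem_sup_right (pow_mem_agemo ha)
  refine ⟨hcomm, hexp, fun a ha => ?_, fun i j l hl => ?_, fun a b hab => ?_, ?_, ?_, hcn d.hu, ?_, ?_, ?_⟩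
  · set A : Subgroup Y := N.map π
    have hcA : ∀ a b : A, a * b = b * a := by
      rintro ⟨_, a, ha, rfl⟩ ⟨_, b, hb, rfl⟩
      exact Subtype.ext (hcomm a ha b hb).eq
    have heA : ∀ a : A, a ^ p = 1 := by
      rintro ⟨_, a, ha, rfl⟩
      exact Subtype.ext (hexp a ha)
    have hgen : (closure ({⟨π e, mem_map_of_mem π d.eN⟩, ⟨π z, mem_map_of_mem π d.zN⟩,
        ⟨π u, mem_map_of_mem π d.uN⟩} : Set A)) = ⊤ := by
      refine map_injective A.subtype_injective ?_
      rw [MonoidHom.map_closure, ← MonoidHom.range_eq_map, range_subtype]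
      show _ = N.map π
      refine Eq.trans ?_ (congrArg (Subgroup.map π) d.closure_eq)
      rw [MonoidHom.map_closure]
      simp [Set.image_insert_eq]
    obtain ⟨i, j, l, hijl⟩ := closure_three_coords heA hcA
      (g := ⟨π a, mem_map_of_mem π ha⟩) (hgen ▸ mem_top _)
    exact ⟨i, j, l, congrArg Subtype.val hijl⟩
  · rw [← map_pow, ← map_pow, ← map_pow, ← map_mul, ← map_mul, h0] at hl
    obtain ⟨h1, h2, h3⟩ := d.indep i j l hl
    exact ⟨h1, h2, by rw [← map_pow, h0]; exact h3⟩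
  · have h1 : a⁻¹ * b ∈ Phi p N := by rw [← h0, map_mul, map_inv, hab, inv_mul_cancel]
    refine hcn ?_
    show (h a)⁻¹ * h b ∈ _
    rw [← map_inv, ← map_mul]
    exact fullInv_phi.2 _ d.ih_endOn _ h1
  · rw [← map_pow]; exact hcn d.he
  · rw [← map_pow]; exact hcn d.hz
  · rw [← map_inv, ← map_mul, ← map_mul, ← map_mul]; exact hcn d.xe
  · exact mul_inv_eq_iff_eq_mul.1 (by rw [← map_inv, ← map_mul, ← map_mul]; exact hcn d.xz)
  · exact mul_inv_eq_iff_eq_mul.1 (by rw [← map_inv, ← map_mul, ← map_mul]; exact hcn d.xu)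

/-- Replacing the basis by congruent elements. -/
theorem TD.replace (d : TD p N h σ k x e z u) {e' z' : X} (e'N : e' ∈ N) (z'N : z' ∈ N)
    (hee : Cn (Phi p N) e e') (hzz : Cn (Phi p N) z z') : TD p N h σ k x e' z' u := by
  haveI := d.phi_normal
  set π := QuotientGroup.mk' (Phi p N) with hπ
  have hcn : ∀ a b, Cn (Phi p N) a b ↔ π a = π b := fun a b => cn_iff_mk _ a b
  have ee : π e' = π e := ((hcn _ _).1 hee).symm
  have zz : π z' = π z := ((hcn _ _).1 hzz).symm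
  have v := d.vq π (QuotientGroup.ker_mk' _)
  have hσ' : ∀ a ∈ N, ∀ b ∈ N, π a = π b → π (σ a) = π (σ b) := fun a ha b hb hab =>
    (hcn _ _).1 (d.hσ.cn fullInv_phi ha hb ((hcn _ _).2 hab))
  refine
    { pgroup := d.pgroup, five := d.five, normal := d.normal, index := d.index, not_mem := d.not_mem
      eN := e'N, zN := z'N, uN := d.uN, gen := ?_, indep := fun i j l hl => ?_
      xe := (hcn _ _).2 ?_, xz := (hcn _ _).2 ?_, xu := d.xu, k0 := d.k0, k2 := d.k2, k3 := d.k3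
      hN := d.hN, he := (hcn _ _).2 ?_, hz := (hcn _ _).2 ?_, hu := d.hu, hσ := d.hσ
      σe := (hcn _ _).2 ?_, σz := (hcn _ _).2 ?_, σu := d.σu, ucent := d.ucent }
  · refine d.gen.trans (sup_le ((closure_le _).2 ?_) le_sup_right)
    rintro y (rfl | rfl | rfl)
    · have h1 : y = e' * (e'⁻¹ * y) := (mul_inv_cancel_left _ _).symm
      rw [h1]
      exact mul_mem (mem_sup_left (subset_closure (by simp))) (mem_sup_right (by
        simpa using inv_mem hee))
    · have h1 : y = z' * (z'⁻¹ * y) := (mul_inv_cancel_left _ _).symm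
      rw [h1]
      exact mul_mem (mem_sup_left (subset_closure (by simp))) (mem_sup_right (by
        simpa using inv_mem hzz))
    · exact mem_sup_left (subset_closure (by simp))
  · refine d.indep i j l ?_
    rw [← QuotientGroup.eq_one_iff] at hl ⊢
    change π _ = 1 at hl ⊢
    simpa only [map_mul, map_pow, ee, zz] using hl
  · simp only [map_mul, map_inv, ee, zz]; exact v.xe
  · simp only [map_mul, map_inv, zz]; exact mul_inv_eq_iff_eq_mul.2 v.xz
  · rw [map_pow, v.hh _ _ ee, v.he, ee]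
  · rw [map_pow, v.hh _ _ zz, v.hz, zz]
  · rw [hσ' _ e'N _ d.eN ee, (hcn _ _).1 d.σe, ee]
  · rw [hσ' _ z'N _ d.zN zz, (hcn _ _).1 d.σz, map_mul, map_mul, ee, zz]

omit hp [Finite X] in
/-- A power of a product under a conjugation relation. -/
theorem pow_conj_mul {Y : Type*} [Group Y] {X₀ A Z : Y} (hA : X₀ * A * X₀⁻¹ = A * Z)
    (hAZ : Commute A Z) (hXZ : Commute X₀ Z) (n : ℕ) :
    ∃ c : ℕ, (A * X₀) ^ n = A ^ n * Z ^ c * X₀ ^ n := by
  have hm : ∀ m : ℕ, X₀ ^ m * A = A * Z ^ m * X₀ ^ m := fun m => by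
    induction m with
    | zero => simp
    | succ m ih =>
      calc X₀ ^ (m + 1) * A = X₀ * (X₀ ^ m * A) := by rw [pow_succ', mul_assoc]
        _ = X₀ * A * X₀⁻¹ * (X₀ * Z ^ m * X₀⁻¹) * X₀ ^ (m + 1) := by rw [ih, pow_succ']; group
        _ = _ := by rw [hA, (hXZ.pow_right m).eq, mul_inv_cancel_right, pow_succ' Z, mul_assoc A Z]
  induction n with
  | zero => exact ⟨0, by simp⟩
  | succ n ih =>
    obtain ⟨c, hc⟩ := ih
    refine ⟨c + n, ?_⟩
    calc (A * X₀) ^ (n + 1) = A ^ n * Z ^ c * (X₀ ^ n * A) * X₀ := by rw [pow_succ, hc]; group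
      _ = A ^ n * (Z ^ c * A) * Z ^ n * (X₀ ^ n * X₀) := by rw [hm]; group
      _ = _ := by
        rw [(hAZ.symm.pow_left c).eq, ← pow_succ]
        simp only [pow_succ, pow_add, mul_assoc]

/-- An eigenvector outside. -/
theorem TD.exists_eig (d : TD p N h σ k x e z u) :
    ∃ x', TD p N h σ k x' e z u ∧ Eig p N h k x' z u := by
  haveI : NeZero p := ⟨hp.out.ne_zero⟩
  haveI := d.phi_normal
  set π := QuotientGroup.mk' (Phi p N) with hπ
  have v := d.vq π (QuotientGroup.ker_mk' _)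
  obtain ⟨a, ha, j, hj⟩ := d.decomp (h x)
  obtain ⟨al, be, ga, hco⟩ := v.coords a ha
  have hn : ∀ n : ℕ, π x ^ n * π e * (π x ^ n)⁻¹ = π e * π z ^ n := fun n => by
    induction n with
    | zero => simp
    | succ n ih =>
      calc π x ^ (n + 1) * π e * (π x ^ (n + 1))⁻¹
          = π x * (π x ^ n * π e * (π x ^ n)⁻¹) * (π x)⁻¹ := by rw [pow_succ']; group
        _ = π x * π e * (π x)⁻¹ * (π x * π z ^ n * (π x)⁻¹) := by rw [ih]; group
        _ = _ := by rw [v.xe, (v.xz.pow_right n).eq, mul_inv_cancel_right, mul_assoc, ← pow_succ']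
  have cez : Commute (π e) (π z) := v.comm _ d.eN _ d.zN
  -- the exponent
  have key : π z ^ (j * k⁻¹.val) = π z ^ k.val := by
    have h1 : π (h (x * e * x⁻¹)) = π (h (e * z)) := v.hh _ _ (by rw [map_mul, map_mul, map_inv, map_mul, v.xe])
    rw [map_mul, map_mul, map_inv, map_mul, map_mul, map_inv, map_mul h, map_mul, v.he, v.hz, hj,
      map_mul, map_pow, mul_inv_rev] at h1
    have h2 : π a * (π x ^ j * π e ^ k⁻¹.val * (π x ^ j)⁻¹) * (π a)⁻¹ =
        π e ^ k⁻¹.val * π z ^ k.val := by rw [← h1]; group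
    rw [← conj_pow, hn, (cez.pow_right j).mul_pow, ← pow_mul] at h2
    have hca : Commute (π a) (π e ^ k⁻¹.val * π z ^ (j * k⁻¹.val)) :=
      ((v.comm _ ha _ d.eN).pow_right _).mul_right ((v.comm _ ha _ d.zN).pow_right _)
    rw [hca.eq, mul_inv_cancel_right] at h2
    exact mul_left_cancel h2
  have hjk : (j : ZMod p) = k ^ 2 := by
    have h1 := (v.indep 0 (j * k⁻¹.val + (p - 1) * k.val) 0 (by
      rw [pow_zero, pow_zero, one_mul, mul_one, pow_add, key, ← pow_add,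
        show k.val + (p - 1) * k.val = p * k.val from add_pred hp.out.ne_zero _, pow_mul, v.exp _ d.zN,
        one_pow])).2.1
    push_cast [Nat.cast_sub hp.out.pos, ZMod.natCast_self, ZMod.natCast_zmod_val] at h1
    have := d.k0
    field_simp at h1
    linear_combination h1
  obtain ⟨i, hi⟩ : ∃ i : ℕ, (i : ZMod p) = (al : ZMod p) / (k ^ 2 - k⁻¹) := ⟨_, ZMod.natCast_zmod_val _⟩
  have hne : k ^ 2 - k⁻¹ ≠ 0 := fun e0 => d.k3 (by
    rw [pow_succ, sub_eq_zero.1 e0, inv_mul_cancel₀ d.k0])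
  have hi' : (i : ZMod p) * (k ^ 2 - k⁻¹) = al := by rw [hi, div_mul_cancel₀ _ hne]
  have hei : π x * π e ^ i * (π x)⁻¹ = π e ^ i * π z ^ i := by rw [← conj_pow, v.xe, cez.mul_pow]
  refine ⟨e ^ i * x, ?_, ?_⟩
  · have hE : ∀ b ∈ N, π (e ^ i * x) * π b * (π (e ^ i * x))⁻¹ = π x * π b * (π x)⁻¹ := fun b hb => by
      have hbN : x * b * x⁻¹ ∈ N := d.normal.conj_mem b hb x
      have hc := v.comm _ (pow_mem d.eN i) _ hbN
      rw [map_mul, mul_inv_rev]
      calc π (e ^ i) * π x * π b * ((π x)⁻¹ * (π (e ^ i))⁻¹)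
          = π (e ^ i) * π (x * b * x⁻¹) * (π (e ^ i))⁻¹ := by rw [map_mul, map_mul, map_inv]; group
        _ = _ := by rw [hc.eq, mul_inv_cancel_right, map_mul, map_mul, map_inv]
    exact
    { d with
      not_mem := fun hm => d.not_mem (by
        simpa using N.mul_mem (N.inv_mem (pow_mem d.eN i)) hm)
      xe := (cn_iff_mk _ _ _).2 (show π _ = π _ by
        rw [map_mul, map_mul, map_inv, hE _ d.eN, v.xe, map_mul])
      xz := (cn_iff_mk _ _ _).2 (show π _ = π _ by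
        rw [map_mul, map_mul, map_inv, hE _ d.zN, v.xz.eq, mul_inv_cancel_right])
      xu := (cn_iff_mk _ _ _).2 (show π _ = π _ by
        rw [map_mul, map_mul, map_inv, hE _ d.uN, v.xu.eq, mul_inv_cancel_right]) }
  · refine ⟨j, h (e ^ i * x) * ((e ^ i * x) ^ j)⁻¹, hjk, ?_, by rw [inv_mul_cancel_right]⟩
    obtain ⟨c, hc⟩ := pow_conj_mul hei ((cez.pow_left i).pow_right i) (v.xz.pow_right i) j
    have h1 : π (h (e ^ i * x) * ((e ^ i * x) ^ j)⁻¹) =
        π e ^ (k⁻¹.val * i + al + (p - 1) * (i * j)) * π z ^ (be + (p - 1) * (i * c)) * π u ^ ga := by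
      rw [map_mul h, map_pow h, hj, map_mul, map_mul, map_inv, map_pow π (e ^ i * x), map_mul π (e ^ i),
        map_pow π e, hc, map_pow π (h e), v.he, map_mul π a, hco, map_pow π x]
      have inv_p : ∀ (w : X) (m : ℕ), w ∈ N → (π w ^ m)⁻¹ = π w ^ ((p - 1) * m) := fun w m hw => by
        rw [inv_eq_iff_mul_eq_one, ← pow_add, add_pred hp.out.ne_zero, pow_mul, v.exp _ hw, one_pow]
      rw [mul_inv_rev, mul_inv_rev, ← pow_mul (π e) i j, ← pow_mul (π z) i c, inv_p _ _ d.eN,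
        inv_p _ _ d.zN, ← pow_mul (π e) k⁻¹.val i]
      have c1 : ∀ m n : ℕ, Commute (π u ^ m) (π z ^ n) := fun m n => (v.comm _ d.uN _ d.zN).pow_pow m n
      have c2 : ∀ m n : ℕ, Commute (π u ^ m) (π e ^ n) := fun m n => (v.comm _ d.uN _ d.eN).pow_pow m n
      have c3 : ∀ m n : ℕ, Commute (π z ^ m) (π e ^ n) := fun m n => (cez.symm).pow_pow m n
      simp only [mul_assoc, mul_inv_cancel_left]
      rw [(c1 ga _).left_comm, (c2 ga _).eq, ← mul_assoc (π z ^ be), ← pow_add, ← mul_assoc (π z ^ _),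
        (c3 _ _).eq, mul_assoc (π e ^ _) (π z ^ _), ← mul_assoc (π e ^ al), ← pow_add, ← mul_assoc,
        ← pow_add, add_assoc]
    have h2 : ((k⁻¹.val * i + al + (p - 1) * (i * j) : ℕ) : ZMod p) = 0 := by
      push_cast [Nat.cast_sub hp.out.pos, ZMod.natCast_self, ZMod.natCast_zmod_val]
      rw [hjk]
      linear_combination (-1 : ZMod p) * hi'
    rw [pow_eq_pow_of_cast (v.exp _ d.eN) (b := 0) (by rw [h2, Nat.cast_zero]), pow_zero, one_mul] at h1
    set m := h (e ^ i * x) * ((e ^ i * x) ^ j)⁻¹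
    have h3 : (z ^ (be + (p - 1) * (i * c)) * u ^ ga)⁻¹ * m ∈ Phi p N := by
      rw [← QuotientGroup.eq_one_iff]
      show π _ = 1
      rw [map_mul, map_inv, h1, map_mul, map_pow, map_pow, inv_mul_cancel]
    have h4 := mul_mem (mem_sup_left (T := Phi p N) (mul_mem (pow_mem (subset_closure (by simp :
      z ∈ ({z, u} : Set X))) _) (pow_mem (subset_closure (by simp : u ∈ ({z, u} : Set X))) _)) :
      z ^ (be + (p - 1) * (i * c)) * u ^ ga ∈ closure ({z, u} : Set X) ⊔ Phi p N) (mem_sup_right h3)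
    rwa [mul_inv_cancel_left] at h4

/-- The `p`-th power of the eigenvector. -/
theorem TD.xp_phi (d : TD p N h σ k x e z u) (he : Eig p N h k x z u) : x ^ p ∈ Phi p N := by
  haveI : NeZero p := ⟨hp.out.ne_zero⟩
  haveI := d.phi_normal
  set π := QuotientGroup.mk' (Phi p N) with hπ
  have v := d.vq π (QuotientGroup.ker_mk' _)
  obtain ⟨n, m, hn, hm, hx⟩ := he
  obtain ⟨a, b, c, hco⟩ := v.coords _ d.xp_mem
  rw [← QuotientGroup.eq_one_iff]
  show π (x ^ p) = 1
  have cez : Commute (π e) (π z) := v.comm _ d.eN _ d.zN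
  have hne : ∀ {w : X} {r : ℕ}, w ∈ N → (r : ZMod p) = 0 → π w ^ r = 1 := fun {w r} hw hr => by
    rw [pow_eq_pow_of_cast (v.exp _ hw) (b := 0) (by rw [hr, Nat.cast_zero]), pow_zero]
  have ha : (a : ZMod p) = 0 := by
    have h1 : π x * π (x ^ p) * (π x)⁻¹ = π (x ^ p) := by
      rw [map_pow, ← pow_succ', pow_succ, mul_inv_cancel_right]
    rw [hco, conj_mul.symm, conj_mul.symm, ← conj_pow, v.xe, cez.mul_pow, (v.xz.pow_right b).eq,
      (v.xu.pow_right c).eq, mul_inv_cancel_right, mul_inv_cancel_right, mul_assoc _ (π z ^ a),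
      mul_left_inj, mul_right_inj, mul_eq_right] at h1
    exact (v.indep 0 a 0 (by rw [pow_zero, pow_zero, one_mul, mul_one, h1])).2.1
  rw [hne d.eN ha, one_mul] at hco
  have hM : ∀ y ∈ closure ({z, u} : Set X) ⊔ Phi p N, Commute (π y) (π x) ∧ π y ^ p = 1 := by
    intro y hy
    have hle : closure ({z, u} : Set X) ⊔ Phi p N ≤ (centralizer ({π x} : Set _)).comap π ⊓ N := by
      refine sup_le ((closure_le _).2 ?_) fun y hy => ⟨?_, fullInv_phi.1 hy⟩
      · rintro y (rfl | rfl)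
        · exact ⟨mem_centralizer_singleton_iff.2 v.xz.symm.eq, d.zN⟩
        · exact ⟨mem_centralizer_singleton_iff.2 v.xu.symm.eq, d.uN⟩
      · show π y ∈ centralizer _
        rw [show π y = 1 from (QuotientGroup.eq_one_iff _).2 hy]
        exact one_mem _
    exact ⟨mem_centralizer_singleton_iff.1 (hle hy).1, v.exp _ (hle hy).2⟩
  obtain ⟨hmc, hmp⟩ := hM m hm
  have e1 : π (h (x ^ p)) = π (x ^ p) ^ n := by
    rw [map_pow, hx, map_pow, map_mul, map_pow, (hmc.pow_right n).mul_pow, hmp, one_mul, ← pow_mul,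
      mul_comm, pow_mul, map_pow]
  have e2 : π (h (x ^ p)) = π z ^ (k.val * b) * π u ^ c := by
    rw [v.hh (x ^ p) (z ^ b * u ^ c) (by rw [hco, map_mul, map_pow, map_pow]), map_mul h, map_pow h,
      map_pow h, map_mul, map_pow, map_pow, v.hz, v.hu, ← pow_mul]
  rw [e2, hco, ((v.comm _ d.zN _ d.uN).pow_pow b c).mul_pow, ← pow_mul, ← pow_mul] at e1
  have h3 : π z ^ (k.val * b + (p - 1) * (b * n)) * π u ^ (c + (p - 1) * (c * n)) = 1 := by
    rw [pow_add, pow_add, ((v.comm _ d.zN _ d.uN).pow_pow _ _).mul_mul_mul_comm, e1,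
      ((v.comm _ d.zN _ d.uN).symm.pow_pow _ _).mul_mul_mul_comm, ← pow_add, ← pow_add, add_pred hp.out.ne_zero,
      add_pred hp.out.ne_zero, pow_mul (π z) p, pow_mul (π u) p, v.exp _ d.zN, v.exp _ d.uN, one_pow, one_pow, one_mul]
  obtain ⟨-, hb, hc⟩ := v.indep 0 (k.val * b + (p - 1) * (b * n)) (c + (p - 1) * (c * n))
    (by rwa [pow_zero, one_mul])
  have hb0 : (b : ZMod p) = 0 := by
    push_cast [Nat.cast_sub hp.out.pos, ZMod.natCast_self, ZMod.natCast_zmod_val] at hb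
    rw [hn] at hb
    have : (b : ZMod p) * (k * (1 - k)) = 0 := by linear_combination hb
    rcases mul_eq_zero.1 this with h4 | h4
    · exact h4
    · rcases mul_eq_zero.1 h4 with h5 | h5
      exacts [absurd h5 d.k0, absurd (sub_eq_zero.1 h5).symm d.k_one]
  rw [hco, hne d.zN hb0, one_mul]
  have hcu : (π u ^ c) ^ p = 1 := by rw [← pow_mul, mul_comm, pow_mul, v.exp _ d.uN, one_pow]
  refine zp_eq_one (p := p) hcu (a := ((1 + (p - 1) * n : ℕ) : ZMod p)) ?_ ?_
  · push_cast [Nat.cast_sub hp.out.pos, ZMod.natCast_self]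
    rw [hn]
    intro e0
    exact d.k2 (by linear_combination -e0)
  · rw [zp_natCast hcu, ← pow_mul, show c * (1 + (p - 1) * n) = c + (p - 1) * (c * n) by ring, hc]

end Cfsg.Agent.RankThreeEss.Pearl
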