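import Cfsg.Agent.RankThreeEss.Pearl.TwoTop
import Cfsg.Agent.FusSys.EssentialCube

/-!
Two generators: a small maximal subgroup, or one of class three recognisable among the maximal ones.
-/

set_option autoImplicit false
set_option linter.style.haveILetI false

namespace Cfsg.Agent.RankThreeEss.Pearl

open Subgroup
open scoped commutatorElement

variable {p : ℕ} {X : Type*} [Group X]

/-- Generated by two elements. -/
def Gen2 (M : Subgroup X) : Prop := ∃ a ∈ M, ∃ b ∈ M, M ≤ closure ({a, b} : Set X)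

/-- The shapes sought. -/
def IsPearl (p : ℕ) (N : Subgroup X) : Prop :=
  (Cfsg.IsElementaryAbelian p N ∧ Nat.card N = p ^ 2) ∨
    (Cfsg.IsExtraspecial p N ∧ Nat.card N = p ^ 3 ∧ ∀ a ∈ N, a ^ p = 1)

/-- A maximal subgroup of class three that no other maximal subgroup resembles. -/
structure Twisted (p : ℕ) (N : Subgroup X) : Prop where
  lcs3 : N.lowerCentralSeries 3 = ⊥
  gen2 : Gen2 N
  top3 : (⊤ : Subgroup X).lowerCentralSeries 3 ≠ ⊥
  other : ∀ M : Subgroup X, M.index = p → M ≠ N →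
    ¬ (M.lowerCentralSeries 3 = ⊥ ∧ Gen2 M) ∧ (⁅M, M⁆ ≤ agemo p M → Gen2 M)

variable [hp : Fact p.Prime]

theorem mem_of_pow_mem {y : X} (hy : y ^ p = 1) {H : Subgroup X} {m : ℕ} (hm : (m : ZMod p) ≠ 0)
    (h : y ^ m ∈ H) : y ∈ H := by
  haveI : NeZero p := ⟨hp.out.ne_zero⟩
  have e : y = (y ^ m) ^ ((m : ZMod p)⁻¹).val := by
    rw [← pow_mul]
    conv_lhs => rw [← pow_one y]
    exact pow_eq_pow_of_cast hy (by
      rw [Nat.cast_one, Nat.cast_mul, ZMod.natCast_zmod_val, mul_inv_cancel₀ hm])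
  rw [e]
  exact pow_mem h _

variable [Finite X] {N : Subgroup X} {h : MulAut X} {σ : X → X} {k : ZMod p} {x e z : X}

/-- The image of `N` modulo its derived subgroup. -/
theorem TD.two_card (d : TD p N h σ k x e z 1) (t : T2 p N x e z 1) :
    Nat.card N = p ^ 2 * Nat.card (N.lowerCentralSeries 1) := by
  haveI := d.normal
  haveI : (N.lowerCentralSeries 1).Normal := (fullInv_lcs N 1).normal
  set π := QuotientGroup.mk' (N.lowerCentralSeries 1) with hπ
  have h0 : ∀ a, π a = 1 ↔ a ∈ N.lowerCentralSeries 1 := fun a => QuotientGroup.eq_one_iff a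
  have hE : Elem p (N.map π) := by
    refine ⟨?_, ?_⟩
    · rintro _ ⟨a, ha, rfl⟩ _ ⟨b, hb, rfl⟩
      refine commutatorElement_eq_one_iff_commute.1 ?_
      rw [← map_commutatorElement, h0]
      exact comm_mem_lcs_one ha hb
    · rintro _ ⟨a, ha, rfl⟩
      rw [← map_pow, h0]
      exact t.phi_one.le (mem_sup_right (pow_mem_agemo ha))
  have hle : N.map π ≤ closure ({π e, π z} : Set (X ⧸ N.lowerCentralSeries 1)) := by
    refine (map_mono d.closure_ez.ge).trans ?_
    rw [MonoidHom.map_closure, Set.image_insert_eq, Set.image_singleton]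
  have hup : Nat.card (N.map π) ≤ p ^ 2 :=
    (Nat.card_le_card_of_injective _ (Subgroup.inclusion_injective hle)).trans
      (card_closure_pair hE (mem_map_of_mem π d.eN) (mem_map_of_mem π d.zN))
  have hne : π e ∉ (⊥ : Subgroup (X ⧸ N.lowerCentralSeries 1)) := fun hin => by
    have h1 := (d.indep 1 0 0 (by
      rw [pow_one, pow_zero, pow_zero, mul_one, mul_one]
      exact t.phi_one.ge ((h0 e).1 (mem_bot.1 hin)))).1
    rw [Nat.cast_one] at h1
    exact one_ne_zero h1
  obtain ⟨E1, E1c⟩ := elem_bot.extend (x := π e) (hE.2 _ (mem_map_of_mem π d.eN))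
    (fun a ha => by rw [mem_bot.1 ha, mul_one, one_mul]) hne
  have hE1N : (⊥ : Subgroup (X ⧸ N.lowerCentralSeries 1)) ⊔ zpowers (π e) ≤ N.map π :=
    sup_le bot_le (zpowers_le.2 (mem_map_of_mem π d.eN))
  have hne2 : π z ∉ (⊥ : Subgroup (X ⧸ N.lowerCentralSeries 1)) ⊔ zpowers (π e) := fun hin => by
    rw [bot_sup_eq] at hin
    obtain ⟨i, hi⟩ := (isOfFinOrder_of_finite _).mem_powers_iff_mem_zpowers.2 hin
    change π e ^ i = π z at hi
    have h1 := (d.indep i (p - 1) 0 (by
      rw [pow_zero, mul_one]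
      refine t.phi_one.ge ((h0 _).1 ?_)
      rw [map_mul, map_pow, map_pow, hi, ← pow_succ', Nat.sub_add_cancel hp.out.one_le]
      exact hE.2 _ (mem_map_of_mem π d.zN))).2.1
    rw [Nat.cast_sub hp.out.one_le, Nat.cast_one, ZMod.natCast_self, zero_sub, neg_eq_zero] at h1
    exact one_ne_zero h1
  obtain ⟨E2, E2c⟩ := E1.extend (x := π z) (hE.2 _ (mem_map_of_mem π d.zN))
    (fun a ha => (hE.1 _ (mem_map_of_mem π d.zN) a (hE1N ha))) hne2
  have hlow : p ^ 2 ≤ Nat.card (N.map π) := by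
    rw [Subgroup.card_bot, one_mul] at E1c
    calc p ^ 2 = p * p := sq p
      _ ≤ _ := (Nat.mul_le_mul_right p E1c).trans E2c
      _ ≤ _ := Nat.card_le_card_of_injective _
        (Subgroup.inclusion_injective (sup_le hE1N (zpowers_le.2 (mem_map_of_mem π d.zN))))
  set f := π.comp N.subtype with hf
  have hk : f.ker = (N.lowerCentralSeries 1).subgroupOf N := by
    ext a
    rw [MonoidHom.mem_ker, mem_subgroupOf, hf, MonoidHom.comp_apply, h0]
    rfl
  have hr : f.range = N.map π := by rw [hf, MonoidHom.range_comp, range_subtype]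
  have hc := card_eq_card_quotient_mul_card_subgroup f.ker
  rw [Nat.card_congr (QuotientGroup.quotientKerEquivRange f).toEquiv, hr, le_antisymm hup hlow, hk,
    Nat.card_congr (Subgroup.subgroupOfEquivOfLe (lcs_le_self N 1)).toEquiv] at hc
  exact hc

theorem TD.two_pearl (d : TD p N h σ k x e z 1) (t : T2 p N x e z 1)
    (h2 : N.lowerCentralSeries 2 = ⊥) : IsPearl p N := by
  have hexp : ∀ a ∈ N, a ^ p = 1 := fun a ha =>
    mem_bot.1 (h2.le (t.ag_one (pow_mem_agemo ha)))
  have hg1 : N.lowerCentralSeries 1 ≤ zpowers ⁅e, z⁆ := by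
    refine t.g1.trans ?_
    rw [h2, sup_bot_eq, zpowers_eq_closure]
  have hcard := d.two_card t
  by_cases hc : ⁅e, z⁆ = 1
  · have h1 : N.lowerCentralSeries 1 = ⊥ := by
      rw [hc, zpowers_one_eq_bot] at hg1; exact le_bot_iff.1 hg1
    refine Or.inl ⟨⟨⟨⟨fun a b => Subtype.ext ?_⟩⟩, hexp⟩, by rw [hcard, h1, Subgroup.card_bot, mul_one]⟩
    exact commutatorElement_eq_one_iff_mul_comm.1 (mem_bot.1 (h1.le (comm_mem_lcs_one a.2 b.2)))
  · have hp1 : ⁅e, z⁆ ^ p = 1 := mem_bot.1 (h2.le (t.cexp e d.eN z d.zN))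
    have h1 : N.lowerCentralSeries 1 = zpowers ⁅e, z⁆ :=
      le_antisymm hg1 (zpowers_le.2 (comm_mem_lcs_one d.eN d.zN))
    have hcard3 : Nat.card N = p ^ 3 := by
      rw [hcard, h1, Nat.card_zpowers, orderOf_eq_prime hp1 hc, ← pow_succ]
    refine Or.inr ⟨FusSys.extraspecial_of_cube hcard3 fun hab => hc ?_, hcard3, hexp⟩
    exact commutatorElement_eq_one_iff_mul_comm.2
      (congrArg Subtype.val (hab.is_comm.comm ⟨e, d.eN⟩ ⟨z, d.zN⟩))

end Cfsg.Agent.RankThreeEss.Pearl
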