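import Cfsg.Agent.RankThreeEss.Pearl.Two
import Cfsg.Agent.RankThreeEss.Pearl.PairExact

/-!
Two generators, class three: commutators and powers with the element outside.
-/

set_option autoImplicit false
set_option linter.style.haveILetI false

namespace Cfsg.Agent.RankThreeEss.Pearl

open Subgroup
open scoped commutatorElement

/-- The structure of a maximal subgroup of class three with two generators, inside the whole group. -/
structure TwoFacts (p : ℕ) {X : Type*} [Group X] (N : Subgroup X) (x e z : X) : Prop where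
  lcs3 : N.lowerCentralSeries 3 = ⊥
  gen : N.lowerCentralSeries 2 ≤ closure ({⁅⁅e, z⁆, z⁆, ⁅⁅e, z⁆, e⁆} : Set X)
  c_mem : ⁅e, z⁆ ∈ N.lowerCentralSeries 1
  c_not : ⁅e, z⁆ ∉ N.lowerCentralSeries 2
  cp : ⁅e, z⁆ ^ p = 1
  p1 : ⁅⁅e, z⁆, z⁆ ^ p = 1
  p2 : ⁅⁅e, z⁆, e⁆ ^ p = 1
  indep : ∀ a b : ℕ, ⁅⁅e, z⁆, z⁆ ^ a * ⁅⁅e, z⁆, e⁆ ^ b = 1 → (a : ZMod p) = 0 ∧ (b : ZMod p) = 0
  cen : ⁅⁅e, z⁆, z⁆ ∈ center X
  xd2 : x * ⁅⁅e, z⁆, e⁆ * x⁻¹ = ⁅⁅e, z⁆, e⁆ * ⁅⁅e, z⁆, z⁆
  xz : ⁅x, z⁆ ∈ N.lowerCentralSeries 2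
  xc : ⁅x, ⁅e, z⁆⁆ ∈ zpowers ⁅⁅e, z⁆, z⁆
  zp : z ^ p ∈ zpowers ⁅⁅e, z⁆, z⁆
  xp : x ^ p ∈ zpowers ⁅⁅e, z⁆, z⁆

variable {p : ℕ} [hp : Fact p.Prime] {X : Type*} [Group X] [Finite X] {N : Subgroup X} {h : MulAut X}
  {σ : X → X} {k : ZMod p} {x e z : X}

set_option maxHeartbeats 800000 in
theorem TD.two_facts (d : TD p N h σ k x e z 1) (he : Eig p N h k x z 1) (t : T2 p N x e z 1)
    (hrank : ∀ (K : Subgroup X) [K.Normal], PRankLE p 3 (X ⧸ K))
    (hne : N.lowerCentralSeries 2 ≠ ⊥) : TwoFacts p N x e z := by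
  haveI : NeZero p := ⟨hp.out.ne_zero⟩
  haveI := d.normal
  have h3 := d.lcs_three t hrank
  have T3 := d.layer3 t hne (MonoidHom.id X) (by rw [MonoidHom.ker_id, h3])
  have L := T3.lay
  set c := ⁅e, z⁆ with hc
  set d1 := ⁅c, z⁆ with hd1
  set d2 := ⁅c, e⁆ with hd2
  have hd1p : d1 ^ p = 1 := T3.exp.1
  have hd2p : d2 ^ p = 1 := T3.exp.2
  have eh1 : h d1 = d1 ^ k.val := T3.h1
  have eh2 : h d2 = d2 ^ k⁻¹.val := T3.h2
  have ex1 : x * d1 * x⁻¹ = d1 := T3.x1
  have ex2 : x * d2 * x⁻¹ = d2 * d1 := T3.x2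
  have hind : ∀ a b : ℕ, d1 ^ a * d2 ^ b = 1 → (a : ZMod p) = 0 ∧ (b : ZMod p) = 0 := T3.indep
  set D := N.lowerCentralSeries 2 with hD
  have hDgen : D ≤ closure ({d1, d2} : Set X) := fun a ha => T3.gen ⟨a, ha, rfl⟩
  have m1 : d1 ∈ D := comm_mem_lcs_succ T3.cN d.zN
  have m2 : d2 ∈ D := comm_mem_lcs_succ T3.cN d.eN
  have hDN : ∀ a ∈ D, ∀ b ∈ N, Commute a b := fun a ha b hb => L.cen' ha hb
  have hD1 : D ≤ N.lowerCentralSeries 1 := Subgroup.lowerCentralSeries_antitone _ (by norm_num)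
  have hG1N : N.lowerCentralSeries 1 ≤ N := lcs_le_self N 1
  have hd1cen : d1 ∈ center X := mem_center_iff.2 fun g => by
    obtain ⟨a, ha, i, rfl⟩ := d.decomp g
    exact (((hDN d1 m1 a ha).symm).mul_left
      ((show Commute x d1 from mul_inv_eq_iff_eq_mul.1 ex1).pow_left i)).eq
  have hDel : Elem p D := by
    refine ⟨fun a ha b hb => hDN a ha b (lcs_le_self N 2 hb), fun a ha => ?_⟩
    let R : Subgroup X :=
      { carrier := {a | a ∈ D ∧ a ^ p = 1}
        one_mem' := ⟨one_mem _, one_pow p⟩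
        mul_mem' := fun {a b} ha hb => ⟨mul_mem ha.1 hb.1, by
          rw [(hDN a ha.1 b (lcs_le_self N 2 hb.1)).mul_pow, ha.2, hb.2, one_mul]⟩
        inv_mem' := fun {a} ha => ⟨inv_mem ha.1, by rw [inv_pow, ha.2, inv_one]⟩ }
    have hle : D ≤ R := hDgen.trans ((closure_le _).2 (by
      rintro y (rfl | rfl); exacts [⟨m1, hd1p⟩, ⟨m2, hd2p⟩]))
    exact (hle ha).2
  -- `c`
  have hGc : ∀ a ∈ N.lowerCentralSeries 1, Commute a c := by
    have hle : N.lowerCentralSeries 1 ≤ centralizer ({c} : Set X) := t.g1.trans (sup_le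
      ((closure_le _).2 (by rintro y (rfl : y = c); exact mem_centralizer_singleton_iff.2 rfl))
      fun a ha => mem_centralizer_singleton_iff.2 (hDN a ha c (hG1N T3.cN)).eq)
    exact fun a ha => mem_centralizer_singleton_iff.1 (hle ha)
  obtain ⟨gc, hgc, ec⟩ := cn_exists_mul T3.hc
  have hcp : c ^ p = 1 := by
    have hv : c ^ p ∈ D := t.cexp e d.eN z d.zN
    have hvs : h.toMonoidHom (c ^ p) = zp (c ^ p) (1 : ZMod p) := by
      rw [zp_one, MulEquiv.coe_toMonoidHom, map_pow, ec,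
        ((hDN gc hgc c (hG1N T3.cN)).symm).mul_pow, hDel.2 gc hgc, mul_one]
    have i0 : ∀ a ∈ (⊥ : Subgroup X), h.toMonoidHom a ∈ (⊥ : Subgroup X) := fun a ha => by
      rw [mem_bot.1 ha, map_one]; exact one_mem _
    have i1 : ∀ a ∈ (⊥ : Subgroup X) ⊔ zpowers d1, h.toMonoidHom a ∈ (⊥ : Subgroup X) ⊔ zpowers d1 := by
      intro a ha
      rw [bot_sup_eq] at ha ⊢
      obtain ⟨i, rfl⟩ := mem_zpowers_iff.1 ha
      rw [map_zpow, MulEquiv.coe_toMonoidHom, eh1]
      exact zpow_mem (pow_mem (mem_zpowers d1) _) _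
    have v2 : c ^ p ∈ (⊥ ⊔ zpowers d1) ⊔ zpowers d2 := by
      refine ((hDgen.trans ((closure_le _).2 ?_)) hv)
      rintro y (rfl | rfl)
      exacts [mem_sup_left (mem_sup_right (mem_zpowers _)), mem_sup_right (mem_zpowers _)]
    have v1 := eig_step hDel (sup_le bot_le (zpowers_le.2 m1)) i1 m2 (r := k⁻¹) eh2 v2 hvs
      (fun e0 => d.k_one (inv_eq_one.1 e0))
    exact mem_bot.1 (eig_step hDel bot_le i0 m1 (r := k) eh1 v1 hvs d.k_one)
  have hG1el : Elem p (N.lowerCentralSeries 1) := by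
    have hle : N.lowerCentralSeries 1 ≤ centralizer (N.lowerCentralSeries 1 : Set X) :=
      t.g1.trans (sup_le ((closure_le _).2 (Set.singleton_subset_iff.2
        (mem_centralizer_iff.2 fun a ha => (hGc a ha).eq)))
        fun a ha => mem_centralizer_iff.2 fun b hb => (hDN a ha b (hG1N hb)).symm.eq)
    have hcomm : ∀ a ∈ N.lowerCentralSeries 1, ∀ b ∈ N.lowerCentralSeries 1, Commute a b :=
      fun a ha b hb => (mem_centralizer_iff.1 (hle ha) b hb).symm
    refine ⟨hcomm, fun a ha => ?_⟩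
    let R : Subgroup X :=
      { carrier := {a | a ∈ N.lowerCentralSeries 1 ∧ a ^ p = 1}
        one_mem' := ⟨one_mem _, one_pow p⟩
        mul_mem' := fun {a b} ha hb => ⟨mul_mem ha.1 hb.1, by
          rw [(hcomm a ha.1 b hb.1).mul_pow, ha.2, hb.2, one_mul]⟩
        inv_mem' := fun {a} ha => ⟨inv_mem ha.1, by rw [inv_pow, ha.2, inv_one]⟩ }
    have hle : N.lowerCentralSeries 1 ≤ R := t.g1.trans (sup_le
      ((closure_le _).2 (by rintro y (rfl : y = c); exact ⟨T3.cN, hcp⟩))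
      fun b hb => ⟨hD1 hb, hDel.2 b hb⟩)
    exact (hle ha).2
  -- the eigen element outside
  obtain ⟨n, m, hn, hm, hx⟩ := he
  rw [t.phi_one] at hm
  -- modulo `D`
  haveI : D.Normal := (fullInv_lcs N 2).normal
  set π2 := QuotientGroup.mk' D with hπ2
  have h02 : ∀ a, π2 a = 1 ↔ a ∈ D := fun a => QuotientGroup.eq_one_iff a
  have L0 : Lay N 0 π2 := ⟨QuotientGroup.ker_mk' _⟩
  let η2 : X ⧸ D →* X ⧸ D :=
    QuotientGroup.map D D h.toMonoidHom fun a ha => (fullInv_lcs N 2).2 _ d.ih_endOn a ha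
  have hη2 : ∀ a, η2 (π2 a) = π2 (h a) := fun a => rfl
  have hC2 : Commute (π2 x) (π2 c) := by
    have := (cn_iff_mk D _ _).1 T3.xc
    change π2 (x * c * x⁻¹) = π2 c at this
    rw [map_mul, map_mul, map_inv] at this
    exact mul_inv_eq_iff_eq_mul.1 this
  have hG1c2 : ∀ a ∈ N.lowerCentralSeries 1, π2 a ∈ zpowers (π2 c) := by
    have hle : N.lowerCentralSeries 1 ≤ (zpowers (π2 c)).comap π2 := t.g1.trans (sup_le
      ((closure_le _).2 (by rintro y (rfl : y = c); exact mem_zpowers (π2 c)))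
      fun a ha => by rw [mem_comap, (h02 a).2 ha]; exact one_mem _)
    exact fun a ha => hle ha
  have hηC : η2 (π2 c) = π2 c := by
    rw [hη2, ec, map_mul, (h02 gc).2 hgc, mul_one]
  have hXZ : Commute (π2 x) (π2 z) := by
    obtain ⟨g, hg, eg⟩ := cn_exists_mul (show Cn (N.lowerCentralSeries 1) (x * z * x⁻¹) z from
      t.phi_one.le d.xz)
    obtain ⟨i, hi⟩ := mem_zpowers_iff.1 (hG1c2 g hg)
    obtain ⟨gz, hgz, ez⟩ := cn_exists_mul (show Cn (N.lowerCentralSeries 1) (h z) (z ^ k.val) from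
      t.phi_one.le d.hz)
    have hTZ : π2 x * π2 z * (π2 x)⁻¹ = π2 z * π2 g := by rw [← map_inv, ← map_mul, ← map_mul, eg, map_mul]
    have cg : ∀ a ∈ N.lowerCentralSeries 1, ∀ b ∈ N, Commute (π2 a) (π2 b) := fun a ha b hb =>
      L0.cen' ha hb
    have cTg : ∀ a ∈ N.lowerCentralSeries 1, Commute (π2 x) (π2 a) := fun a ha => by
      obtain ⟨j, hj⟩ := mem_zpowers_iff.1 (hG1c2 a ha)
      rw [← hj]; exact hC2.zpow_right j
    have hcm : Commute (π2 m) (π2 z) := by
      have hle : closure ({z, 1} : Set X) ⊔ N.lowerCentralSeries 1 ≤ (centralizer {π2 z}).comap π2 := by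
        refine sup_le ((closure_le _).2 ?_) fun a ha =>
          mem_centralizer_singleton_iff.2 (cg a ha z d.zN).eq
        rintro y (rfl | rfl)
        · exact mem_centralizer_singleton_iff.2 rfl
        · exact one_mem _
      exact mem_centralizer_singleton_iff.1 (hle hm)
    have hmN : m ∈ N := (sup_le ((closure_le _).2 (by
      rintro y (rfl | rfl); exacts [d.zN, one_mem _])) hG1N : _ ≤ N) hm
    have e1 := congrArg η2 hTZ
    rw [map_mul, map_mul, map_inv, map_mul, hη2, hη2, hx, ez, show η2 (π2 g) = π2 g by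
      rw [← hi, map_zpow, hηC], map_mul, map_mul, map_pow, map_pow] at e1
    have e2 : π2 m * π2 x ^ n * (π2 z ^ k.val * π2 gz) * (π2 m * π2 x ^ n)⁻¹ =
        π2 z ^ k.val * (π2 g ^ n) ^ k.val * π2 gz := by
      calc _ = π2 m * ((π2 x ^ n * π2 z ^ k.val * (π2 x ^ n)⁻¹) *
            (π2 x ^ n * π2 gz * (π2 x ^ n)⁻¹)) * (π2 m)⁻¹ := by group
        _ = π2 m * (π2 z ^ k.val * (π2 g ^ n) ^ k.val * π2 gz) * (π2 m)⁻¹ := by
          rw [← conj_pow, conj_iter hTZ (cTg g hg) n, ((cTg gz hgz).pow_left n).eq,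
            mul_inv_cancel_right, ((cg g hg z d.zN).pow_left n).symm.mul_pow]
        _ = _ := by
          rw [(((hcm.pow_right k.val).mul_right (((cg g hg m hmN).symm.pow_right n).pow_right k.val)).mul_right
            (cg gz hgz m hmN).symm).eq, mul_inv_cancel_right]
    rw [e2, mul_assoc, mul_assoc, mul_right_inj, (cg gz hgz g (hG1N hg)).eq, mul_left_inj, ← pow_mul] at e1
    have hgp : π2 g ^ p = 1 := by rw [← map_pow, hG1el.2 g hg, map_one]
    rw [eq_one_of_pow_eq hgp (e1.trans (pow_one _).symm) (by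
      rw [Nat.cast_mul, hn, ZMod.natCast_zmod_val, Nat.cast_one]
      exact fun e0 => d.k3 (by linear_combination e0)), mul_one] at hTZ
    exact mul_inv_eq_iff_eq_mul.1 hTZ
  -- modulo `d1`
  set K := zpowers d1 with hK
  haveI : K.Normal := ⟨fun a ha g => by
    obtain ⟨i, rfl⟩ := mem_zpowers_iff.1 ha
    rwa [mem_center_iff.1 (zpow_mem hd1cen i) g, mul_inv_cancel_right]⟩
  have hKD : K ≤ D := zpowers_le.2 m1
  have hKinv : K ≤ K.comap h.toMonoidHom := zpowers_le.2 (by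
    show h d1 ∈ K
    rw [eh1]; exact pow_mem (mem_zpowers d1) _)
  set π := QuotientGroup.mk' K with hπ
  have h0 : ∀ a, π a = 1 ↔ a ∈ K := fun a => QuotientGroup.eq_one_iff a
  let η : X ⧸ K →* X ⧸ K := QuotientGroup.map K K h.toMonoidHom hKinv
  have hη : ∀ a, η (π a) = π (h a) := fun a => rfl
  set T := π x with hT
  set C := π c with hC
  set Z := π z with hZ
  set D2 := π d2 with hD2
  have hπd1 : π d1 = 1 := (h0 d1).2 (mem_zpowers d1)
  have hDline : ∀ a ∈ D, π a ∈ zpowers D2 := by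
    have hle : D ≤ (zpowers D2).comap π := hDgen.trans ((closure_le _).2 (by
      rintro y (rfl | rfl)
      · show π d1 ∈ zpowers D2
        rw [hπd1]; exact one_mem _
      · exact mem_zpowers D2))
    exact fun a ha => hle ha
  have hD2cen : D2 ∈ center (X ⧸ K) := mem_center_iff.2 fun g => by
    obtain ⟨g, rfl⟩ := QuotientGroup.mk'_surjective _ g
    obtain ⟨a, ha, i, rfl⟩ := d.decomp g
    have hTd : Commute T D2 := by
      refine mul_inv_eq_iff_eq_mul.1 ?_
      rw [hT, hD2, ← map_inv, ← map_mul, ← map_mul, ex2, map_mul, hπd1, mul_one]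
    rw [map_mul, map_pow]
    exact (((hDN d2 m2 a ha).map π).symm.mul_left (hTd.pow_left i)).eq
  have hlinec : ∀ v ∈ zpowers D2, ∀ g, Commute v g := fun v hv g => by
    obtain ⟨i, rfl⟩ := mem_zpowers_iff.1 hv
    exact (show Commute D2 g from (mem_center_iff.1 hD2cen g).symm).zpow_left i
  have hD2p : D2 ^ p = 1 := by rw [hD2, ← map_pow, hd2p, map_one]
  have hD2ne : D2 ≠ 1 := fun e0 => by
    obtain ⟨i, hi⟩ := (isOfFinOrder_of_finite _).mem_powers_iff_mem_zpowers.2 ((h0 d2).1 e0)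
    change d1 ^ i = d2 at hi
    have h1 := (hind i (p - 1) (by rw [hi, ← pow_succ', Nat.sub_add_cancel hp.out.one_le]; exact hd2p)).2
    rw [Nat.cast_sub hp.out.one_le, Nat.cast_one, ZMod.natCast_self, zero_sub, neg_eq_zero] at h1
    exact one_ne_zero h1
  have hlineη : ∀ v ∈ zpowers D2, η v = v ^ k⁻¹.val := by
    intro v hv
    obtain ⟨i, rfl⟩ := mem_zpowers_iff.1 hv
    rw [map_zpow, hD2, hη, eh2, map_pow, ← zpow_natCast, ← zpow_mul, ← zpow_natCast (π d2 ^ i),
      ← zpow_mul, mul_comm]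
  have hlinep : ∀ v ∈ zpowers D2, v ^ p = 1 := fun v hv => by
    obtain ⟨i, rfl⟩ := mem_zpowers_iff.1 hv
    rw [← zpow_natCast, ← zpow_mul, mul_comm, zpow_mul, zpow_natCast, hD2p, one_zpow]
  have line_one : ∀ v ∈ zpowers D2, ∀ j : ℕ, η v = v ^ j → (j : ZMod p) ≠ k⁻¹ → v = 1 := by
    intro v hv j hj hjk
    refine eq_one_of_pow_eq (hlinep v hv) (hj.symm.trans (hlineη v hv)) ?_
    rwa [ZMod.natCast_zmod_val]
  have hk3' : k ^ 2 ≠ k⁻¹ := fun e0 =>
    d.k3 (by rw [pow_succ, e0, inv_mul_cancel₀ d.k0])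
  have hG1K : ∀ a ∈ N.lowerCentralSeries 1, π a ^ p = 1 := fun a ha => by
    rw [← map_pow, hG1el.2 a ha, map_one]
  have hTC : Commute T C := by
    obtain ⟨g, hg, eg⟩ := cn_exists_mul T3.xc
    have hv := hDline g hg
    have hTC0 : T * C * T⁻¹ = C * π g := by rw [hT, hC, ← map_inv, ← map_mul, ← map_mul, eg, map_mul]
    have hcm : Commute (π m) C := by
      have hle : closure ({z, 1} : Set X) ⊔ N.lowerCentralSeries 1 ≤ (centralizer {C}).comap π := by
        refine sup_le ((closure_le _).2 ?_) fun a ha =>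
          mem_centralizer_singleton_iff.2 ((hGc a ha).map π).eq
        rintro y (rfl | rfl)
        · refine mem_centralizer_singleton_iff.2 (Commute.symm ?_).eq
          rw [← commutatorElement_eq_one_iff_commute, hC, ← map_commutatorElement]
          exact hπd1
        · exact one_mem _
      exact mem_centralizer_singleton_iff.1 (hle hm)
    have e1 := congrArg η hTC0
    rw [map_mul, map_mul, map_inv, map_mul, hT, hC, hη, hη, hx, ec, map_mul, map_mul, map_pow,
      hlineη _ hv, ← hT, ← hC] at e1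
    have hcg := hlinec _ (hDline gc hgc)
    have e2 : π m * T ^ n * (C * π gc) * (π m * T ^ n)⁻¹ = C * π g ^ n * π gc := by
      calc _ = π m * ((T ^ n * C * (T ^ n)⁻¹) * (T ^ n * π gc * (T ^ n)⁻¹)) * (π m)⁻¹ := by group
        _ = π m * (C * π g ^ n * π gc) * (π m)⁻¹ := by
          rw [conj_iter hTC0 ((hlinec _ hv T).symm) n, ((hcg (T ^ n)).symm).eq, mul_inv_cancel_right]
        _ = _ := by
          rw [((hcm.mul_right ((hlinec _ (pow_mem hv n) _).symm)).mul_right (hcg _).symm).eq,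
            mul_inv_cancel_right]
    rw [e2, mul_assoc, mul_assoc, mul_right_inj, (hcg _).eq, mul_left_inj] at e1
    rw [eq_one_of_pow_eq (hlinep _ hv) e1 (by rwa [hn, ZMod.natCast_zmod_val]), mul_one] at hTC0
    exact mul_inv_eq_iff_eq_mul.1 hTC0
  have hG1T : ∀ a ∈ N.lowerCentralSeries 1, Commute T (π a) := by
    have hle : N.lowerCentralSeries 1 ≤ (centralizer {T}).comap π := t.g1.trans (sup_le
      ((closure_le _).2 (by rintro y (rfl : y = c); exact mem_centralizer_singleton_iff.2 hTC.symm.eq))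
      fun a ha => mem_centralizer_singleton_iff.2 (hlinec _ (hDline a ha) T).eq)
    exact fun a ha => (mem_centralizer_singleton_iff.1 (hle ha)).symm
  -- `⟨z⟩ ⊔ G1` modulo `d1`
  set P := closure ({z} : Set X) ⊔ N.lowerCentralSeries 1 with hP
  have hPN : P ≤ N := sup_le ((closure_le _).2 (Set.singleton_subset_iff.2 d.zN)) hG1N
  have hZG : ∀ a ∈ N.lowerCentralSeries 1, Commute Z (π a) := by
    have hle : N.lowerCentralSeries 1 ≤ (centralizer {Z}).comap π := t.g1.trans (sup_le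
      ((closure_le _).2 (by
        rintro y (rfl : y = c)
        refine mem_centralizer_singleton_iff.2 (commutatorElement_eq_one_iff_mul_comm.1 ?_)
        rw [hZ, ← map_commutatorElement]
        exact hπd1))
      fun a ha => mem_centralizer_singleton_iff.2 (hlinec _ (hDline a ha) Z).eq)
    exact fun a ha => (mem_centralizer_singleton_iff.1 (hle ha)).symm
  have hZp : Z ^ p = 1 := by
    obtain ⟨gz, hgz, ez⟩ := cn_exists_mul (show Cn (N.lowerCentralSeries 1) (h z) (z ^ k.val) from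
      t.phi_one.le d.hz)
    refine line_one _ (by rw [hZ, ← map_pow]; exact hDline _ t.zp) k.val ?_ ?_
    · rw [map_pow, hZ, hη, ez, map_mul, map_pow, ((hZG gz hgz).pow_left k.val).mul_pow, hG1K gz hgz,
        mul_one, ← pow_mul, ← pow_mul, mul_comm]
    · rw [ZMod.natCast_zmod_val]
      exact fun e0 => d.k2 (by rw [sq]; nth_rewrite 2 [e0]; exact mul_inv_cancel₀ d.k0)
  set V' := closure ({T, Z, C, D2} : Set (X ⧸ K)) with hV'
  have hTV : T ∈ V' := subset_closure (Set.mem_insert _ _)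
  have hZV : Z ∈ V' := subset_closure (by simp)
  have hCV : C ∈ V' := subset_closure (by simp)
  have hDV : D2 ∈ V' := subset_closure (by simp)
  haveI : (zpowers D2).Normal := ⟨fun v hv g => by rwa [← (hlinec v hv g).eq, mul_inv_cancel_right]⟩
  have hTZ : ⁅T, Z⁆ ∈ zpowers D2 := by
    rw [hT, hZ, ← map_commutatorElement]
    refine hDline _ ((h02 _).1 ?_)
    rw [map_commutatorElement, commutatorElement_eq_one_iff_commute]
    exact hXZ
  have hVcomm : ∀ a ∈ V', ∀ b ∈ V', ⁅a, b⁆ ∈ zpowers D2 := by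
    set ρ := QuotientGroup.mk' (zpowers D2) with hρ
    have hρ0 : ∀ a, ρ a = 1 ↔ a ∈ zpowers D2 := fun a => QuotientGroup.eq_one_iff a
    have hρD : ρ D2 = 1 := (hρ0 _).2 (mem_zpowers D2)
    have g1 : Commute (ρ T) (ρ Z) := by
      rw [← commutatorElement_eq_one_iff_commute, ← map_commutatorElement, hρ0]; exact hTZ
    have g2 : Commute (ρ T) (ρ C) := hTC.map ρ
    have g3 : Commute (ρ Z) (ρ C) := (hZG c T3.cN).map ρ
    have hle : V'.map ρ ≤ closure ({ρ T, ρ Z, ρ C} : Set _) := by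
      rw [hV', MonoidHom.map_closure, closure_le]
      rintro _ ⟨y, (rfl | rfl | rfl | rfl), rfl⟩
      exacts [subset_closure (by simp), subset_closure (by simp), subset_closure (by simp),
        by rw [hρD]; exact one_mem _]
    haveI := isMulCommutative_closure (k := ({ρ T, ρ Z, ρ C} : Set _)) (by
      rintro a (rfl | rfl | rfl) b (rfl | rfl | rfl)
      exacts [rfl, g1.eq, g2.eq, g1.eq.symm, rfl, g3.eq, g2.eq.symm, g3.eq.symm, rfl])
    intro a ha b hb
    rw [← hρ0, map_commutatorElement, commutatorElement_eq_one_iff_mul_comm]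
    exact congrArg Subtype.val (IsMulCommutative.is_comm.comm
      (⟨_, hle (mem_map_of_mem ρ ha)⟩ : closure ({ρ T, ρ Z, ρ C} : Set _))
      ⟨_, hle (mem_map_of_mem ρ hb)⟩)
  have hcl : Cl2 V' := fun a ha b hb g _ => hlinec _ (hVcomm a ha b hb) g
  have hVmul : ∀ a ∈ V', ∀ b ∈ V', (a * b) ^ p = a ^ p * b ^ p := fun a ha b hb =>
    hcl.mul_pow ((d.pgroup.to_quotient K).to_subgroup _) d.five
      (fun a ha b hb => hlinep _ (hVcomm a ha b hb)) ha hb
  have hG1V : ∀ a ∈ N.lowerCentralSeries 1, π a ∈ V' := by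
    have hle : N.lowerCentralSeries 1 ≤ V'.comap π := t.g1.trans (sup_le
      ((closure_le _).2 (by rintro y (rfl : y = c); exact hCV))
      fun a ha => zpowers_le.2 hDV (hDline a ha))
    exact fun a ha => hle ha
  have hmV : π m ∈ V' ∧ π m ^ p = 1 := by
    have hle : closure ({z, 1} : Set X) ⊔ N.lowerCentralSeries 1 ≤
        (({ carrier := {a | a ∈ V' ∧ a ^ p = 1}
            one_mem' := ⟨one_mem _, one_pow p⟩
            mul_mem' := fun {a b} ha hb => ⟨mul_mem ha.1 hb.1, by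
              rw [hVmul a ha.1 b hb.1, ha.2, hb.2, one_mul]⟩
            inv_mem' := fun {a} ha => ⟨inv_mem ha.1, by rw [inv_pow, ha.2, inv_one]⟩ } :
          Subgroup (X ⧸ K))).comap π := by
      refine sup_le ((closure_le _).2 ?_) fun a ha => ⟨hG1V a ha, hG1K a ha⟩
      rintro y (rfl | rfl)
      exacts [⟨hZV, hZp⟩, ⟨by rw [map_one]; exact one_mem _, by rw [map_one, one_pow]⟩]
    exact hle hm
  have hxp : x ^ p ∈ N.lowerCentralSeries 1 := t.phi_one.le t.xp
  have hηTp : η (T ^ p) = (T ^ p) ^ n := by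
    rw [map_pow, hT, hη, hx, map_mul, map_pow, hVmul _ hmV.1 _ (pow_mem hTV n), hmV.2, one_mul,
      ← pow_mul, ← pow_mul, mul_comm]
  have hxpD : x ^ p ∈ D := by
    have e1 : π2 (h (x ^ p)) = π2 ((x ^ p) ^ n) := by
      refine (cn_iff_mk D _ _).1 (hKD ((h0 _).1 ?_))
      rw [map_mul, map_inv, map_pow π (x ^ p), map_pow π x, ← hT, ← hηTp, hT, ← map_pow π x, hη,
        inv_mul_cancel]
    obtain ⟨i, hi⟩ := mem_zpowers_iff.1 (hG1c2 _ hxp)
    rw [← hη2, map_pow π2 (x ^ p), show η2 (π2 (x ^ p)) = π2 (x ^ p) by rw [← hi, map_zpow, hηC]] at e1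
    refine (h02 _).1 (eq_one_of_pow_eq (p := p) ?_ ((pow_one _).trans e1) ?_)
    · rw [← map_pow, hG1el.2 _ hxp, map_one]
    · rw [Nat.cast_one, hn]; exact Ne.symm d.k2
  have hTp : T ^ p = 1 := by
    refine line_one _ (by rw [hT, ← map_pow]; exact hDline _ hxpD) n hηTp ?_
    rw [hn]; exact hk3'
  refine ⟨h3, hDgen, T3.cN, T3.c_not, hcp, hd1p, hd2p, hind, hd1cen, ex2, ?_, ?_, ?_, ?_⟩
  · rw [← h02, map_commutatorElement, commutatorElement_eq_one_iff_commute]; exact hXZ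
  · exact (h0 _).1 (by rw [map_commutatorElement, commutatorElement_eq_one_iff_commute]; exact hTC)
  · exact (h0 _).1 (by rw [map_pow]; exact hZp)
  · exact (h0 _).1 (by rw [map_pow]; exact hTp)

end Cfsg.Agent.RankThreeEss.Pearl
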