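import Cfsg.Agent.RankThreeEss.Pearl.LayerTwo

/-!
Two generators: successive quotients of the lower central series of the maximal subgroup.
-/

set_option autoImplicit false
set_option linter.style.haveILetI false

namespace Cfsg.Agent.RankThreeEss.Pearl

open Subgroup
open scoped commutatorElement

variable {p : ℕ}

/-! ### A layer of the lower central series -/

section Lay

variable {X Y : Type*} [Group X] [Group Y] {N : Subgroup X} {n : ℕ} {π : X →* Y}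

/-- A homomorphism cutting the lower central series of `N` two steps below `n`. -/
structure Lay (N : Subgroup X) (n : ℕ) (π : X →* Y) : Prop where
  ker : π.ker = N.lowerCentralSeries (n + 2)

theorem Lay.one_iff (L : Lay N n π) {a : X} : π a = 1 ↔ a ∈ N.lowerCentralSeries (n + 2) := by
  rw [← L.ker]; exact MonoidHom.mem_ker.symm

theorem lcs_le_self (N : Subgroup X) (n : ℕ) : N.lowerCentralSeries n ≤ N := (fullInv_lcs N n).1

theorem Lay.cen (L : Lay N n π) {a b c : X} (ha : a ∈ N.lowerCentralSeries n) (hb : b ∈ N)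
    (hc : c ∈ N) : Commute (π ⁅a, b⁆) (π c) := by
  rw [← commutatorElement_eq_one_iff_commute, ← map_commutatorElement, L.one_iff]
  exact comm_mem_lcs_succ (comm_mem_lcs_succ ha hb) hc

theorem Lay.cen' (L : Lay N n π) {a c : X} (ha : a ∈ N.lowerCentralSeries (n + 1)) (hc : c ∈ N) :
    Commute (π a) (π c) := by
  rw [← commutatorElement_eq_one_iff_commute, ← map_commutatorElement, L.one_iff]
  exact comm_mem_lcs_succ ha hc

theorem Lay.mul_right (L : Lay N n π) {a b b' : X} (ha : a ∈ N.lowerCentralSeries n) (hb : b ∈ N)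
    (hb' : b' ∈ N) : π ⁅a, b * b'⁆ = π ⁅a, b⁆ * π ⁅a, b'⁆ := by
  rw [show ⁅a, b * b'⁆ = ⁅a, b⁆ * (b * ⁅a, b'⁆ * b⁻¹) by simp only [commutatorElement_def]; group,
    map_mul, map_mul, map_mul, map_inv, (L.cen ha hb' hb).symm.eq, mul_inv_cancel_right]

theorem Lay.mul_left (L : Lay N n π) {a a' b : X} (ha : a ∈ N.lowerCentralSeries n)
    (ha' : a' ∈ N.lowerCentralSeries n) (hb : b ∈ N) : π ⁅a * a', b⁆ = π ⁅a, b⁆ * π ⁅a', b⁆ := by
  rw [show ⁅a * a', b⁆ = a * ⁅a', b⁆ * a⁻¹ * ⁅a, b⁆ by simp only [commutatorElement_def]; group,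
    map_mul, map_mul, map_mul, map_inv, (L.cen ha' hb (lcs_le_self N n ha)).symm.eq,
    mul_inv_cancel_right,
    (L.cen ha' hb ((fullInv_lcs N (n + 1)).1 (comm_mem_lcs_succ ha hb))).eq]

theorem Lay.inv_right (L : Lay N n π) {a b : X} (ha : a ∈ N.lowerCentralSeries n) (hb : b ∈ N) :
    π ⁅a, b⁻¹⁆ = (π ⁅a, b⁆)⁻¹ := by
  refine eq_inv_of_mul_eq_one_left ?_
  rw [← L.mul_right ha (inv_mem hb) hb, inv_mul_cancel, commutatorElement_one_right, map_one]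

theorem Lay.inv_left (L : Lay N n π) {a b : X} (ha : a ∈ N.lowerCentralSeries n) (hb : b ∈ N) :
    π ⁅a⁻¹, b⁆ = (π ⁅a, b⁆)⁻¹ := by
  refine eq_inv_of_mul_eq_one_left ?_
  rw [← L.mul_left (inv_mem ha) ha hb, inv_mul_cancel, commutatorElement_one_left, map_one]

theorem Lay.pow_right (L : Lay N n π) {a b : X} (ha : a ∈ N.lowerCentralSeries n) (hb : b ∈ N)
    (i : ℕ) : π ⁅a, b ^ i⁆ = π ⁅a, b⁆ ^ i := by
  induction i with
  | zero => rw [pow_zero, pow_zero, commutatorElement_one_right, map_one]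
  | succ i ih => rw [pow_succ, L.mul_right ha (pow_mem hb i) hb, ih, pow_succ]

theorem Lay.pow_left (L : Lay N n π) {a b : X} (ha : a ∈ N.lowerCentralSeries n) (hb : b ∈ N)
    (i : ℕ) : π ⁅a ^ i, b⁆ = π ⁅a, b⁆ ^ i := by
  induction i with
  | zero => rw [pow_zero, pow_zero, commutatorElement_one_left, map_one]
  | succ i ih => rw [pow_succ, L.mul_left (pow_mem ha i) ha hb, ih, pow_succ]

theorem comm_lcs_le (N : Subgroup X) [N.Normal] (n : ℕ) :
    ⁅N.lowerCentralSeries n, N.lowerCentralSeries 1⁆ ≤ N.lowerCentralSeries (n + 2) := by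
  set K := N.lowerCentralSeries (n + 2) with hK
  haveI : K.Normal := (fullInv_lcs N (n + 2)).normal
  set q := QuotientGroup.mk' K
  have hq : ∀ H : Subgroup X, H.map q = ⊥ ↔ H ≤ K := fun H => by
    rw [Subgroup.map_eq_bot_iff, QuotientGroup.ker_mk']
  have e : N.lowerCentralSeries (n + 2) = ⁅⁅N.lowerCentralSeries n, N⁆, N⁆ := by
    rw [Subgroup.lowerCentralSeries_succ, Subgroup.lowerCentralSeries_succ]
  have h1 : ⁅⁅(N.lowerCentralSeries n).map q, N.map q⁆, N.map q⁆ = ⊥ := by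
    rw [← map_commutator, ← map_commutator, hq, hK, e]
  have h2 : ⁅⁅N.map q, (N.lowerCentralSeries n).map q⁆, N.map q⁆ = ⊥ := by
    rw [commutator_comm (N.map q) ((N.lowerCentralSeries n).map q), h1]
  rw [commutator_comm, lcs_one, ← hq, map_commutator, map_commutator]
  exact commutator_commutator_eq_bot_of_rotate h2 h1

theorem Lay.cong [N.Normal] (L : Lay N n π) {a g b g' : X} (ha : a ∈ N.lowerCentralSeries n)
    (hg : g ∈ N.lowerCentralSeries (n + 1)) (hb : b ∈ N) (hg' : g' ∈ N.lowerCentralSeries 1) :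
    π ⁅a * g, b * g'⁆ = π ⁅a, b⁆ := by
  have hgn : g ∈ N.lowerCentralSeries n :=
    Subgroup.lowerCentralSeries_antitone _ (Nat.le_succ n) hg
  have hg'N : g' ∈ N := lcs_le_self N 1 hg'
  rw [L.mul_left ha hgn (mul_mem hb hg'N), L.one_iff.2 (comm_mem_lcs_succ hg (mul_mem hb hg'N)),
    mul_one, L.mul_right ha hb hg'N, L.one_iff.2 (comm_lcs_le N n (commutator_mem_commutator ha hg')),
    mul_one]

theorem Lay.natural [N.Normal] (L : Lay N n π) {f : X → X} (hf : EndOn N f) {a a' b b' : X}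
    (ha : a ∈ N.lowerCentralSeries n) (hb : b ∈ N) (ha' : a' ∈ N.lowerCentralSeries n) (hb' : b' ∈ N)
    (ea : Cn (N.lowerCentralSeries (n + 1)) (f a) a') (eb : Cn (N.lowerCentralSeries 1) (f b) b') :
    π (f ⁅a, b⁆) = π ⁅a', b'⁆ := by
  rw [hf.map_comm (lcs_le_self N n ha) hb,
    ← L.cong ((fullInv_lcs N n).2 f hf a ha) ea (hf.mem b hb) eb, mul_inv_cancel_left,
    mul_inv_cancel_left]

theorem Lay.range_le (L : Lay N n π) {S : Set X} (hSn : S ⊆ N.lowerCentralSeries n)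
    (hS : N.lowerCentralSeries n ≤ closure S ⊔ N.lowerCentralSeries (n + 1)) {T : Set X}
    (hT : closure T = N) {W : Subgroup Y} (hW : ∀ a ∈ S, ∀ b ∈ T, π ⁅a, b⁆ ∈ W) :
    (N.lowerCentralSeries (n + 1)).map π ≤ W := by
  rw [map_le_iff_le_comap, Subgroup.lowerCentralSeries_succ, commutator_le]
  intro a ha b hb
  let R : X → Subgroup X := fun a₀ =>
    { carrier := {b | b ∈ N ∧ (a₀ ∈ N.lowerCentralSeries n → π ⁅a₀, b⁆ ∈ W)}
      one_mem' := ⟨one_mem _, fun _ => by rw [commutatorElement_one_right, map_one]; exact one_mem _⟩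
      mul_mem' := fun {b b'} h h' => ⟨mul_mem h.1 h'.1, fun h0 => by
        rw [L.mul_right h0 h.1 h'.1]; exact mul_mem (h.2 h0) (h'.2 h0)⟩
      inv_mem' := fun {b} h => ⟨inv_mem h.1, fun h0 => by
        rw [L.inv_right h0 h.1]; exact inv_mem (h.2 h0)⟩ }
  have hR : ∀ a₀ ∈ S, N ≤ R a₀ := fun a₀ h0 => hT.ge.trans ((closure_le _).2 fun b hb =>
    ⟨hT.le (subset_closure hb), fun _ => hW a₀ h0 b hb⟩)
  let Q : Subgroup X :=
    { carrier := {a | a ∈ N.lowerCentralSeries n ∧ π ⁅a, b⁆ ∈ W}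
      one_mem' := ⟨one_mem _, by rw [commutatorElement_one_left, map_one]; exact one_mem _⟩
      mul_mem' := fun {a a'} h h' => ⟨mul_mem h.1 h'.1, by
        rw [L.mul_left h.1 h'.1 hb]; exact mul_mem h.2 h'.2⟩
      inv_mem' := fun {a} h => ⟨inv_mem h.1, by rw [L.inv_left h.1 hb]; exact inv_mem h.2⟩ }
  have hQ : N.lowerCentralSeries n ≤ Q := hS.trans (sup_le
    ((closure_le _).2 fun a₀ h0 => ⟨hSn h0, (hR a₀ h0 hb).2 (hSn h0)⟩)
    fun a₀ h0 => ⟨Subgroup.lowerCentralSeries_antitone _ (Nat.le_succ n) h0, by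
      rw [L.one_iff.2 (comm_mem_lcs_succ h0 hb)]; exact one_mem _⟩)
  exact (hQ ha).2

end Lay

/-! ### Eigenvectors in elementary groups -/

variable [hp : Fact p.Prime]

theorem eig_step {Y : Type*} [Group Y] {η : Y →* Y} {W Z : Subgroup Y} (hW : Elem p W) (hZW : Z ≤ W)
    (hη : ∀ a ∈ Z, η a ∈ Z) {y v : Y} (hy : y ∈ W) {r s : ZMod p} (hyr : η y = zp y r)
    (hv : v ∈ Z ⊔ zpowers y) (hvs : η v = zp v s) (hrs : r ≠ s) : v ∈ Z := by
  haveI : NeZero p := ⟨hp.out.ne_zero⟩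
  have hc : ∀ a ∈ W, ∀ b ∈ W, Commute a b := hW.1
  let R : Subgroup Y :=
    { carrier := {g | g ∈ W ∧ η g ∈ W ∧ η g * (g ^ r.val)⁻¹ ∈ Z}
      one_mem' := ⟨one_mem _, by rw [map_one]; exact one_mem _, by
        rw [map_one, one_pow, inv_one, one_mul]; exact one_mem _⟩
      mul_mem' := fun {a b} ha hb => ⟨mul_mem ha.1 hb.1, by rw [map_mul]; exact mul_mem ha.2.1 hb.2.1, by
        rw [map_mul, (hc a ha.1 b hb.1).mul_pow, mul_inv_rev,
          show η a * η b * ((b ^ r.val)⁻¹ * (a ^ r.val)⁻¹) = η a * (η b * (b ^ r.val)⁻¹) * (a ^ r.val)⁻¹ by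
            group,
          mul_assoc, (hc _ (mul_mem hb.2.1 (inv_mem (pow_mem hb.1 _))) _ (inv_mem (pow_mem ha.1 _))).eq,
          ← mul_assoc]
        exact mul_mem ha.2.2 hb.2.2⟩
      inv_mem' := fun {a} ha => ⟨inv_mem ha.1, by rw [map_inv]; exact inv_mem ha.2.1, by
        rw [map_inv, inv_pow, inv_inv, (hc _ (inv_mem ha.2.1) _ (pow_mem ha.1 _)).eq,
          show a ^ r.val * (η a)⁻¹ = (η a * (a ^ r.val)⁻¹)⁻¹ by group]
        exact inv_mem ha.2.2⟩ }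
  have hR : Z ⊔ zpowers y ≤ R := sup_le
    (fun a ha => ⟨hZW ha, hZW (hη a ha), mul_mem (hη a ha) (inv_mem (pow_mem ha _))⟩)
    (zpowers_le.2 ⟨hy, by rw [hyr]; exact pow_mem hy _, by
      rw [hyr, zp, mul_inv_cancel]; exact one_mem _⟩)
  obtain ⟨hvW, -, h3⟩ := hR hv
  have hvp := hW.2 v hvW
  rw [hvs, show (v ^ r.val)⁻¹ = zp v (-r) from (zp_neg hvp r).symm, ← zp_add hvp] at h3
  have e : v = zp (zp v (s + -r)) (s + -r)⁻¹ := by
    rw [← zp_mul hvp, mul_inv_cancel₀ (fun e0 => hrs (by linear_combination -e0)), zp_one]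
  rw [e]
  exact pow_mem h3 _

/-- A subgroup of an elementary group generated by two elements. -/
theorem card_closure_pair {Y : Type*} [Group Y] {W : Subgroup Y} (hW : Elem p W) {a b : Y}
    (ha : a ∈ W) (hb : b ∈ W) : Nat.card (closure ({a, b} : Set Y)) ≤ p ^ 2 := by
  haveI : NeZero p := ⟨hp.out.ne_zero⟩
  have hc : ∀ c ∈ W, ∀ c' ∈ W, Commute c c' := hW.1
  let f : ZMod p × ZMod p → Y := fun q => zp a q.1 * zp b q.2
  let R : Subgroup Y :=
    { carrier := Set.range f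
      one_mem' := ⟨(0, 0), by simp only [f, zp_zero, mul_one]⟩
      mul_mem' := by
        rintro _ _ ⟨q, rfl⟩ ⟨q', rfl⟩
        refine ⟨(q.1 + q'.1, q.2 + q'.2), ?_⟩
        simp only [f, zp_add (hW.2 a ha), zp_add (hW.2 b hb)]
        exact Commute.mul_mul_mul_comm (hc _ (pow_mem ha _) _ (pow_mem hb _)) _ _
      inv_mem' := by
        rintro _ ⟨q, rfl⟩
        refine ⟨(-q.1, -q.2), ?_⟩
        simp only [f, zp_neg (hW.2 a ha), zp_neg (hW.2 b hb), mul_inv_rev]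
        exact (hc _ (inv_mem (pow_mem ha _)) _ (inv_mem (pow_mem hb _))).eq }
  have hle : closure ({a, b} : Set Y) ≤ R := (closure_le _).2 (by
    rintro y (rfl | rfl)
    · exact ⟨(1, 0), by simp only [f, zp_one, zp_zero, mul_one]⟩
    · exact ⟨(0, 1), by simp only [f, zp_one, zp_zero, one_mul]⟩)
  have h1 : Nat.card R ≤ p ^ 2 := by
    have h2 : Nat.card R ≤ Nat.card (ZMod p × ZMod p) :=
      Nat.card_le_card_of_surjective (Set.rangeFactorization f) Set.rangeFactorization_surjective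
    rwa [Nat.card_prod, Nat.card_zmod, ← sq] at h2
  haveI : Finite R := Finite.of_surjective (Set.rangeFactorization f) Set.rangeFactorization_surjective
  exact (Nat.card_le_card_of_injective _ (Subgroup.inclusion_injective hle)).trans h1

/-! ### The quotient by `lcs 3` -/

variable {X : Type*} [Group X] [Finite X] {N : Subgroup X} {h : MulAut X} {σ : X → X} {k : ZMod p}
  {x e z : X}

theorem TD.closure_ez (d : TD p N h σ k x e z 1) : closure ({e, z} : Set X) = N := by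
  refine le_antisymm ((closure_le _).2 ?_) (d.closure_eq.ge.trans ((closure_le _).2 ?_))
  · rintro y (rfl | rfl); exacts [d.eN, d.zN]
  · rintro y (rfl | rfl | rfl)
    exacts [subset_closure (Or.inl rfl), subset_closure (Or.inr rfl), one_mem _]

omit hp [Finite X] in
theorem T2.phi_one (t : T2 p N x e z 1) : Phi p N = N.lowerCentralSeries 1 := by
  rw [t.phi, one_pow, closure_singleton_one, bot_sup_eq]

omit hp [Finite X] in
theorem T2.ag_one (t : T2 p N x e z 1) : agemo p N ≤ N.lowerCentralSeries 2 := by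
  have := t.ag
  rwa [one_pow, closure_singleton_one, bot_sup_eq] at this

/-- The congruences of the second layer. -/
structure L3 (p : ℕ) (N : Subgroup X) (h : MulAut X) (σ : X → X) (k : ZMod p) (x e z : X)
    {Y : Type*} [Group Y] (π : X →* Y) : Prop where
  lay : Lay N 1 π
  cN : ⁅e, z⁆ ∈ N.lowerCentralSeries 1
  c_not : ⁅e, z⁆ ∉ N.lowerCentralSeries 2
  hc : Cn (N.lowerCentralSeries 2) (h ⁅e, z⁆) ⁅e, z⁆
  σc : Cn (N.lowerCentralSeries 2) (σ ⁅e, z⁆) ⁅e, z⁆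
  xc : Cn (N.lowerCentralSeries 2) (x * ⁅e, z⁆ * x⁻¹) ⁅e, z⁆
  gen : (N.lowerCentralSeries 2).map π ≤ closure ({π ⁅⁅e, z⁆, z⁆, π ⁅⁅e, z⁆, e⁆} : Set Y)
  exp : π ⁅⁅e, z⁆, z⁆ ^ p = 1 ∧ π ⁅⁅e, z⁆, e⁆ ^ p = 1
  indep : ∀ a b : ℕ, π ⁅⁅e, z⁆, z⁆ ^ a * π ⁅⁅e, z⁆, e⁆ ^ b = 1 → (a : ZMod p) = 0 ∧ (b : ZMod p) = 0
  h1 : π (h ⁅⁅e, z⁆, z⁆) = π ⁅⁅e, z⁆, z⁆ ^ k.val
  h2 : π (h ⁅⁅e, z⁆, e⁆) = π ⁅⁅e, z⁆, e⁆ ^ k⁻¹.val
  σ1 : π (σ ⁅⁅e, z⁆, z⁆) = π ⁅⁅e, z⁆, z⁆ * π ⁅⁅e, z⁆, e⁆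
  σ2 : π (σ ⁅⁅e, z⁆, e⁆) = π ⁅⁅e, z⁆, e⁆
  x1 : π (x * ⁅⁅e, z⁆, z⁆ * x⁻¹) = π ⁅⁅e, z⁆, z⁆
  x2 : π (x * ⁅⁅e, z⁆, e⁆ * x⁻¹) = π ⁅⁅e, z⁆, e⁆ * π ⁅⁅e, z⁆, z⁆

theorem TD.layer3 (d : TD p N h σ k x e z 1) (t : T2 p N x e z 1)
    (hne : N.lowerCentralSeries 2 ≠ ⊥) {Y : Type*} [Group Y] (π : X →* Y)
    (hker : π.ker = N.lowerCentralSeries 3) : L3 p N h σ k x e z π := by
  haveI : NeZero p := ⟨hp.out.ne_zero⟩
  haveI := d.normal
  haveI : (N.lowerCentralSeries 2).Normal := (fullInv_lcs N 2).normal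
  set π2 := QuotientGroup.mk' (N.lowerCentralSeries 2) with hπ2
  have L0 : Lay N 0 π2 := ⟨QuotientGroup.ker_mk' _⟩
  have L : Lay N 1 π := ⟨hker⟩
  have h0N : ∀ {a : X}, a ∈ N → a ∈ N.lowerCentralSeries 0 := fun {a} ha => by
    rwa [Subgroup.lowerCentralSeries_zero]
  have hc1 := comm_mem_lcs_one (N := N) d.eN d.zN
  have hcn : ∀ a b, π2 a = π2 b → Cn (N.lowerCentralSeries 2) a b := fun a b hab =>
    (cn_iff_mk _ a b).2 hab
  have hΦ : ∀ {a b : X}, Cn (Phi p N) a b → Cn (N.lowerCentralSeries 1) a b := fun {a b} hab =>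
    t.phi_one.le hab
  -- the first layer under the maps
  have nat0 : ∀ f : X → X, EndOn N f → ∀ e' z' : X, e' ∈ N → z' ∈ N →
      Cn (Phi p N) (f e) e' → Cn (Phi p N) (f z) z' → π2 (f ⁅e, z⁆) = π2 ⁅e', z'⁆ :=
    fun f hf e' z' he' hz' ee ez => L0.natural hf (h0N d.eN) d.zN (h0N he') hz' (hΦ ee) (hΦ ez)
  have hkk : k⁻¹ * k = 1 := inv_mul_cancel₀ d.k0
  have hC2 : π2 ⁅e, z⁆ ^ p = 1 := by
    rw [← map_pow, L0.one_iff]; exact t.cexp e d.eN z d.zN
  have hcnh : π2 (h ⁅e, z⁆) = π2 ⁅e, z⁆ := by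
    rw [nat0 _ d.ih_endOn _ _ (pow_mem d.eN _) (pow_mem d.zN _) d.he d.hz,
      L0.pow_left (h0N d.eN) (pow_mem d.zN _), L0.pow_right (h0N d.eN) d.zN, ← pow_mul,
      pow_eq_pow_of_cast hC2 (b := 1) (by
        rw [Nat.cast_mul, ZMod.natCast_zmod_val, ZMod.natCast_zmod_val, mul_comm, hkk, Nat.cast_one]),
      pow_one]
  have hcnσ : π2 (σ ⁅e, z⁆) = π2 ⁅e, z⁆ := by
    rw [nat0 _ d.hσ _ _ d.eN (mul_mem d.zN d.eN) d.σe d.σz, L0.mul_right (h0N d.eN) d.zN d.eN,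
      commutatorElement_self, map_one, mul_one]
  have hcnx : π2 (x * ⁅e, z⁆ * x⁻¹) = π2 ⁅e, z⁆ := by
    rw [nat0 _ (endOn_conj x) _ _ (mul_mem d.eN d.zN) d.zN d.xe d.xz,
      L0.mul_left (h0N d.eN) (h0N d.zN) d.zN, commutatorElement_self, map_one, mul_one]
  have hcnot : ⁅e, z⁆ ∉ N.lowerCentralSeries 2 := fun hin => hne (by
    have h1 : N.lowerCentralSeries 1 ≤ N.lowerCentralSeries 2 :=
      t.g1.trans (sup_le ((closure_le _).2 (Set.singleton_subset_iff.2 hin)) le_rfl)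
    exact eq_bot_iff.2 ((Subgroup.lowerCentralSeries_antitone _ (by norm_num)).trans
      (lcs_eq_bot d.pgN h1).le))
  -- the second layer
  set d1 := ⁅⁅e, z⁆, z⁆ with hd1
  set d2 := ⁅⁅e, z⁆, e⁆ with hd2
  have hgen : (N.lowerCentralSeries 2).map π ≤ closure ({π d1, π d2} : Set Y) :=
    L.range_le (S := {⁅e, z⁆}) (Set.singleton_subset_iff.2 hc1) t.g1 d.closure_ez (by
      rintro a (rfl : a = ⁅e, z⁆) b (rfl | rfl)
      exacts [subset_closure (Or.inr rfl), subset_closure (Or.inl rfl)])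
  have hexp : π d1 ^ p = 1 ∧ π d2 ^ p = 1 := by
    constructor <;> rw [hd1, hd2] at * <;> first
      | (rw [← L.pow_left hc1 d.zN, L.one_iff]
         exact comm_mem_lcs_succ (t.cexp e d.eN z d.zN) d.zN)
      | (rw [← L.pow_left hc1 d.eN, L.one_iff]
         exact comm_mem_lcs_succ (t.cexp e d.eN z d.zN) d.eN)
  have nat1 : ∀ f : X → X, EndOn N f → Cn (N.lowerCentralSeries 2) (f ⁅e, z⁆) ⁅e, z⁆ →
      ∀ b b' : X, b ∈ N → b' ∈ N → Cn (Phi p N) (f b) b' → π (f ⁅⁅e, z⁆, b⁆) = π ⁅⁅e, z⁆, b'⁆ :=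
    fun f hf hfc b b' hb hb' eb => L.natural hf hc1 hb hc1 hb' hfc (hΦ eb)
  have fh1 : π (h d1) = π d1 ^ k.val := by
    rw [nat1 _ d.ih_endOn (hcn _ _ hcnh) z _ d.zN (pow_mem d.zN _) d.hz, L.pow_right hc1 d.zN]
  have fh2 : π (h d2) = π d2 ^ k⁻¹.val := by
    rw [nat1 _ d.ih_endOn (hcn _ _ hcnh) e _ d.eN (pow_mem d.eN _) d.he, L.pow_right hc1 d.eN]
  have fs1 : π (σ d1) = π d1 * π d2 := by
    rw [nat1 _ d.hσ (hcn _ _ hcnσ) z _ d.zN (mul_mem d.zN d.eN) d.σz, L.mul_right hc1 d.zN d.eN]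
  have fs2 : π (σ d2) = π d2 := by rw [nat1 _ d.hσ (hcn _ _ hcnσ) e e d.eN d.eN d.σe]
  have fx1 : π (x * d1 * x⁻¹) = π d1 :=
    nat1 _ (endOn_conj x) (hcn _ _ hcnx) z z d.zN d.zN d.xz
  have fx2 : π (x * d2 * x⁻¹) = π d2 * π d1 := by
    rw [show π (x * d2 * x⁻¹) = π ⁅⁅e, z⁆, e * z⁆ from
      nat1 _ (endOn_conj x) (hcn _ _ hcnx) e _ d.eN (mul_mem d.eN d.zN) d.xe, L.mul_right hc1 d.eN d.zN]
  have hd1N : d1 ∈ N.lowerCentralSeries 2 := comm_mem_lcs_succ hc1 d.zN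
  have hd2N : d2 ∈ N.lowerCentralSeries 2 := comm_mem_lcs_succ hc1 d.eN
  have h3 : ∀ f : X → X, EndOn N f → ∀ a ∈ N, π a = 1 → π (f a) = 1 := fun f hf a _ ha1 =>
    L.one_iff.2 ((fullInv_lcs N 3).2 f hf a (L.one_iff.1 ha1))
  have hboth : ∀ (_ : π d1 = 1) (_ : π d2 = 1), False := fun e1 e2 => hne (by
    refine lcs_eq_bot d.pgN fun a ha => L.one_iff.1 ?_
    have h4 : π a ∈ closure ({π d1, π d2} : Set Y) := hgen (mem_map_of_mem π ha)
    rwa [e1, e2, Set.insert_eq_of_mem (Set.mem_singleton _), closure_singleton_one, mem_bot] at h4)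
  have hne1 : π d1 ≠ 1 := fun e1 => hboth e1 (by
    have := h3 σ d.hσ d1 (lcs_le_self N 2 hd1N) e1
    rwa [fs1, e1, one_mul] at this)
  have hne2 : π d2 ≠ 1 := fun e2 => hboth (by
    have := h3 _ (endOn_conj x) d2 (lcs_le_self N 2 hd2N) e2
    rwa [fx2, e2, one_mul] at this) e2
  have hindep : ∀ a b : ℕ, π d1 ^ a * π d2 ^ b = 1 → (a : ZMod p) = 0 ∧ (b : ZMod p) = 0 := by
    intro a b hab
    have hab' := hab
    rw [← map_pow, ← map_pow, ← map_mul] at hab'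
    have h4 := h3 _ d.ih_endOn _ (mul_mem (pow_mem (lcs_le_self N 2 hd1N) a)
      (pow_mem (lcs_le_self N 2 hd2N) b)) hab'
    rw [map_mul h, map_pow h, map_pow h, map_mul π, map_pow π, map_pow π, fh1, fh2, ← pow_mul,
      ← pow_mul] at h4
    have h5 : π d1 ^ (k.val * a) = π d1 ^ (k⁻¹.val * a) := by
      have e2 : π d2 ^ b = (π d1 ^ a)⁻¹ := eq_inv_of_mul_eq_one_right hab
      rw [mul_comm k⁻¹.val b, pow_mul (π d2) b, e2, inv_pow, mul_inv_eq_one, ← pow_mul] at h4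
      rw [h4, mul_comm k⁻¹.val a]
    have ha : (a : ZMod p) = 0 := by
      by_contra ha
      refine hne1 (eq_one_of_pow_eq hexp.1 h5 ?_)
      rw [Nat.cast_mul, Nat.cast_mul, ZMod.natCast_zmod_val, ZMod.natCast_zmod_val]
      intro e0
      refine d.k2 ?_
      have := mul_right_cancel₀ ha e0
      rw [sq]; nth_rewrite 2 [this]; exact mul_inv_cancel₀ d.k0
    refine ⟨ha, ?_⟩
    by_contra hb
    rw [pow_eq_pow_of_cast hexp.1 (b := 0) (by rw [ha, Nat.cast_zero]), pow_zero, one_mul] at hab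
    exact hne2 (eq_one_of_pow_eq hexp.2 (hab.trans (pow_zero _).symm) (by rwa [Nat.cast_zero]))
  exact ⟨L, hc1, hcnot, hcn _ _ hcnh, hcn _ _ hcnσ, hcn _ _ hcnx, hgen, hexp, hindep, fh1, fh2, fs1,
    fs2, fx1, fx2⟩

end Cfsg.Agent.RankThreeEss.Pearl
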