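import Cfsg.Agent.RankThreeEss.Pearl.TwoLayer
import Cfsg.Agent.RankThreeEss.Pearl.PairClass

/-!
Two generators: the maximal subgroup has class at most three.
-/

set_option autoImplicit false
set_option linter.style.haveILetI false

namespace Cfsg.Agent.RankThreeEss.Pearl

open Subgroup
open scoped commutatorElement

variable {p : ℕ} [hp : Fact p.Prime] {X : Type*} [Group X] [Finite X] {N : Subgroup X} {h : MulAut X}
  {σ : X → X} {k : ZMod p} {x e z : X}

omit hp [Finite X] in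
theorem cn_exists_mul {K : Subgroup X} {a b : X} (hab : Cn K a b) : ∃ g ∈ K, a = b * g :=
  ⟨(a⁻¹ * b)⁻¹, inv_mem hab, by group⟩

theorem TD.lcs_three (d : TD p N h σ k x e z 1) (t : T2 p N x e z 1)
    (hrank : ∀ (K : Subgroup X) [K.Normal], PRankLE p 3 (X ⧸ K)) :
    N.lowerCentralSeries 3 = ⊥ := by
  haveI : NeZero p := ⟨hp.out.ne_zero⟩
  haveI := d.normal
  by_cases hne : N.lowerCentralSeries 2 = ⊥
  · exact eq_bot_iff.2 ((Subgroup.lowerCentralSeries_antitone _ (by norm_num)).trans hne.le)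
  set G3 := N.lowerCentralSeries 3 with hG3
  haveI : G3.Normal := (fullInv_lcs N 3).normal
  set G4 := N.lowerCentralSeries 4 with hG4
  haveI : G4.Normal := (fullInv_lcs N 4).normal
  have hinv4 : G4 ≤ G4.comap h.toMonoidHom := fun a ha => (fullInv_lcs N 4).2 _ d.ih_endOn a ha
  set π3 := QuotientGroup.mk' G3 with hπ3
  set π := QuotientGroup.mk' G4 with hπ
  have T3 := d.layer3 t hne π3 (QuotientGroup.ker_mk' _)
  have L : Lay N 2 π := ⟨QuotientGroup.ker_mk' _⟩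
  let η : X ⧸ G4 →* X ⧸ G4 := QuotientGroup.map G4 G4 h.toMonoidHom hinv4
  have hη : ∀ a, η (π a) = π (h a) := fun a => rfl
  set c := ⁅e, z⁆ with hc
  set d1 := ⁅c, z⁆ with hd1
  set d2 := ⁅c, e⁆ with hd2
  have m1 : d1 ∈ N.lowerCentralSeries 2 := comm_mem_lcs_succ T3.cN d.zN
  have m2 : d2 ∈ N.lowerCentralSeries 2 := comm_mem_lcs_succ T3.cN d.eN
  have hcn : ∀ {a b : X}, π3 a = π3 b → Cn G3 a b := fun {a b} hab => (cn_iff_mk _ a b).2 hab
  have hcn' : ∀ {a b : X}, Cn (Phi p N) a b → Cn (N.lowerCentralSeries 1) a b :=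
    fun {a b} hab => t.phi_one.le hab
  have hS : N.lowerCentralSeries 2 ≤ closure ({d1, d2} : Set X) ⊔ G3 := fun a ha =>
    mem_comap_closure π3 (QuotientGroup.ker_mk' _) (by
      rw [Set.image_insert_eq, Set.image_singleton]
      exact T3.gen (mem_map_of_mem π3 ha))
  -- the four generators
  set A := π ⁅d2, e⁆ with hA
  set B := π ⁅d2, z⁆ with hB
  set B' := π ⁅d1, e⁆ with hB'
  set F := π ⁅d1, z⁆ with hF
  set W := G3.map π with hW
  have hWgen : W ≤ closure ({A, B, B', F} : Set (X ⧸ G4)) :=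
    L.range_le (S := {d1, d2}) (by rintro a (rfl | rfl); exacts [m1, m2]) hS d.closure_ez (by
      rintro a (rfl | rfl) b (rfl | rfl)
      exacts [subset_closure (by simp [B']), subset_closure (by simp [F]),
        subset_closure (by simp [A]), subset_closure (by simp [B])])
  have hd1p : d1 ^ p ∈ G3 := by rw [← T3.lay.one_iff, map_pow, T3.exp.1]
  have hd2p : d2 ^ p ∈ G3 := by rw [← T3.lay.one_iff, map_pow, T3.exp.2]
  have pA : A ^ p = 1 := by
    rw [hA, ← L.pow_left m2 d.eN, L.one_iff]; exact comm_mem_lcs_succ hd2p d.eN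
  have pB : B ^ p = 1 := by
    rw [hB, ← L.pow_left m2 d.zN, L.one_iff]; exact comm_mem_lcs_succ hd2p d.zN
  have pB' : B' ^ p = 1 := by
    rw [hB', ← L.pow_left m1 d.eN, L.one_iff]; exact comm_mem_lcs_succ hd1p d.eN
  have pF : F ^ p = 1 := by
    rw [hF, ← L.pow_left m1 d.zN, L.one_iff]; exact comm_mem_lcs_succ hd1p d.zN
  have gAW : A ∈ W := mem_map_of_mem π (comm_mem_lcs_succ m2 d.eN)
  have gBW : B ∈ W := mem_map_of_mem π (comm_mem_lcs_succ m2 d.zN)
  have gB'W : B' ∈ W := mem_map_of_mem π (comm_mem_lcs_succ m1 d.eN)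
  have gFW : F ∈ W := mem_map_of_mem π (comm_mem_lcs_succ m1 d.zN)
  have hWN : ∀ w ∈ W, ∀ a ∈ N, Commute w (π a) := by
    rintro _ ⟨a, ha, rfl⟩ b hb
    exact L.cen' ha hb
  have hWc : ∀ v ∈ W, ∀ w ∈ W, Commute v w := fun v hv => by
    rintro _ ⟨b, hb, rfl⟩
    exact hWN v hv b (lcs_le_self N 3 hb)
  have hWel : Elem p W := by
    refine ⟨hWc, fun w hw => ?_⟩
    let R : Subgroup (X ⧸ G4) :=
      { carrier := {g | g ∈ W ∧ g ^ p = 1}
        one_mem' := ⟨one_mem _, one_pow p⟩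
        mul_mem' := fun {a b} ha hb => ⟨mul_mem ha.1 hb.1, by
          rw [Commute.mul_pow (hWc a ha.1 b hb.1), ha.2, hb.2, one_mul]⟩
        inv_mem' := fun {a} ha => ⟨inv_mem ha.1, by rw [inv_pow, ha.2, inv_one]⟩ }
    have hle : W ≤ R := hWgen.trans ((closure_le _).2 (by
      rintro y (rfl | rfl | rfl | rfl)
      exacts [⟨gAW, pA⟩, ⟨gBW, pB⟩, ⟨gB'W, pB'⟩, ⟨gFW, pF⟩]))
    exact (hle hw).2
  -- the action
  have eg : ∀ (a b : X) (r s : ZMod p), a ∈ N.lowerCentralSeries 2 → b ∈ N →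
      Cn G3 (h a) (a ^ r.val) → Cn (N.lowerCentralSeries 1) (h b) (b ^ s.val) →
      π ⁅a, b⁆ ^ p = 1 → η (π ⁅a, b⁆) = zp (π ⁅a, b⁆) (r * s) := by
    intro a b r s ha hb ea eb hab
    rw [hη, L.natural d.ih_endOn ha hb (pow_mem ha _) (pow_mem hb _) ea eb, L.pow_left ha (pow_mem hb _),
      L.pow_right ha hb, ← pow_mul, zp]
    exact pow_eq_pow_of_cast hab (by
      rw [Nat.cast_mul, ZMod.natCast_zmod_val, ZMod.natCast_zmod_val, ZMod.natCast_zmod_val, mul_comm])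
  have c1 : Cn G3 (h d1) (d1 ^ k.val) := hcn (by rw [map_pow]; exact T3.h1)
  have c2 : Cn G3 (h d2) (d2 ^ k⁻¹.val) := hcn (by rw [map_pow]; exact T3.h2)
  have eA : η A = zp A (k⁻¹ * k⁻¹) := eg d2 e _ _ m2 d.eN c2 (hcn' d.he) pA
  have eB : η B = zp B (1 : ZMod p) := by
    have := eg d2 z _ _ m2 d.zN c2 (hcn' d.hz) pB
    rwa [inv_mul_cancel₀ d.k0] at this
  have eB' : η B' = zp B' (1 : ZMod p) := by
    have := eg d1 e _ _ m1 d.eN c1 (hcn' d.he) pB'
    rwa [mul_inv_cancel₀ d.k0] at this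
  have eF : η F = zp F (k * k) := eg d1 z _ _ m1 d.zN c1 (hcn' d.hz) pF
  -- the `p`-th powers of `d1` and `d2`
  have hk' : k * k⁻¹ = 1 := mul_inv_cancel₀ d.k0
  have kill : ∀ (s : ZMod p) (v : X ⧸ G4), v ∈ W → η v = zp v s → s ≠ k⁻¹ * k⁻¹ → s ≠ 1 → s ≠ k * k →
      v = 1 := by
    intro s v hv hvs s1 s2 s3
    have inv : ∀ (Z : Subgroup (X ⧸ G4)) (y : X ⧸ G4) (r : ZMod p), (∀ a ∈ Z, η a ∈ Z) → η y = zp y r →
        ∀ a ∈ Z ⊔ zpowers y, η a ∈ Z ⊔ zpowers y := by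
      intro Z y r hZ hy a ha
      have hle : Z ⊔ zpowers y ≤ (Z ⊔ zpowers y).comap η :=
        sup_le (fun b hb => mem_sup_left (hZ b hb))
          (zpowers_le.2 (mem_sup_right (by rw [hy]; exact pow_mem (mem_zpowers y) _)))
      exact hle ha
    have i0 : ∀ a ∈ (⊥ : Subgroup (X ⧸ G4)), η a ∈ (⊥ : Subgroup (X ⧸ G4)) := fun a ha => by
      rw [mem_bot.1 ha, map_one]; exact one_mem _
    have i1 := inv _ _ _ i0 eA
    have i2 := inv _ _ _ i1 eB
    have i3 := inv _ _ _ i2 eB'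
    have l1 : (⊥ : Subgroup (X ⧸ G4)) ⊔ zpowers A ≤ W := sup_le bot_le (zpowers_le.2 gAW)
    have l2 := sup_le l1 (zpowers_le.2 gBW)
    have l3 := sup_le l2 (zpowers_le.2 gB'W)
    have hle : closure ({A, B, B', F} : Set (X ⧸ G4)) ≤
        ((⊥ ⊔ zpowers A) ⊔ zpowers B) ⊔ zpowers B' ⊔ zpowers F := (closure_le _).2 (by
      rintro y (rfl | rfl | rfl | rfl)
      exacts [mem_sup_left (mem_sup_left (mem_sup_left (mem_sup_right (mem_zpowers _)))),
        mem_sup_left (mem_sup_left (mem_sup_right (mem_zpowers _))),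
        mem_sup_left (mem_sup_right (mem_zpowers _)), mem_sup_right (mem_zpowers _)])
    have v3 := eig_step hWel l3 i3 gFW eF (hle (hWgen hv)) hvs (Ne.symm s3)
    have v2 := eig_step hWel l2 i2 gB'W eB' v3 hvs (Ne.symm s2)
    have v1 := eig_step hWel l1 i1 gBW eB v2 hvs (Ne.symm s2)
    exact mem_bot.1 (eig_step hWel bot_le i0 gAW eA v1 hvs (Ne.symm s1))
  have hpow : ∀ (a : X) (r : ZMod p), a ∈ N.lowerCentralSeries 2 → a ^ p ∈ G3 →
      Cn G3 (h a) (a ^ r.val) → η (π a ^ p) = zp (π a ^ p) r := by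
    intro a r ha hap ea
    obtain ⟨g, hg, ea'⟩ := cn_exists_mul ea
    rw [map_pow, hη, ea', map_mul,
      ((hWN (π g) (mem_map_of_mem π hg) _ (pow_mem (lcs_le_self N 2 ha) _)).symm).mul_pow,
      hWel.2 _ (mem_map_of_mem π hg), mul_one, map_pow, zp, ← pow_mul, ← pow_mul, mul_comm]
  have v1 : π d1 ^ p = 1 := kill k _ (by rw [← map_pow]; exact mem_map_of_mem π hd1p)
    (hpow d1 k m1 hd1p c1) (fun e0 => d.k3 (by linear_combination k ^ 2 * e0 + (k * k⁻¹ + 1) * hk'))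
    d.k_one (fun e0 => d.k_one (mul_left_cancel₀ d.k0 (by rw [mul_one]; exact e0.symm)))
  have v2 : π d2 ^ p = 1 := kill k⁻¹ _ (by rw [← map_pow]; exact mem_map_of_mem π hd2p)
    (hpow d2 k⁻¹ m2 hd2p c2)
    (fun e0 => d.k_one (inv_eq_one.1 (mul_left_cancel₀ (inv_ne_zero d.k0) (by rw [mul_one]; exact e0.symm))))
    (fun e0 => d.k_one (inv_eq_one.1 e0))
    (fun e0 => d.k3 (by linear_combination hk' - k * e0))
  -- the elementary section
  set V := (N.lowerCentralSeries 2).map π with hV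
  have hWV : W ≤ V := map_mono (Subgroup.lowerCentralSeries_antitone _ (by norm_num))
  have hVc : ∀ v ∈ V, ∀ w ∈ V, Commute v w := by
    rintro _ ⟨a, ha, rfl⟩ _ ⟨b, hb, rfl⟩
    rw [← commutatorElement_eq_one_iff_commute, ← map_commutatorElement, L.one_iff]
    exact comm_lcs_le N 2 (commutator_mem_commutator ha
      (Subgroup.lowerCentralSeries_antitone _ (by norm_num : 1 ≤ 2) hb))
  have hVel : Elem p V := by
    refine ⟨hVc, ?_⟩
    let R : Subgroup X :=
      { carrier := {a | a ∈ N.lowerCentralSeries 2 ∧ π a ^ p = 1}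
        one_mem' := ⟨one_mem _, by rw [map_one, one_pow]⟩
        mul_mem' := fun {a b} ha hb => ⟨mul_mem ha.1 hb.1, by
          rw [map_mul, (hVc _ (mem_map_of_mem π ha.1) _ (mem_map_of_mem π hb.1)).mul_pow, ha.2, hb.2,
            one_mul]⟩
        inv_mem' := fun {a} ha => ⟨inv_mem ha.1, by rw [map_inv, inv_pow, ha.2, inv_one]⟩ }
    have hle : N.lowerCentralSeries 2 ≤ R := hS.trans (sup_le ((closure_le _).2 (by
      rintro y (rfl | rfl); exacts [⟨m1, v1⟩, ⟨m2, v2⟩]))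
      fun a ha => ⟨Subgroup.lowerCentralSeries_antitone _ (by norm_num) ha,
        hWel.2 _ (mem_map_of_mem π ha)⟩)
    rintro _ ⟨a, ha, rfl⟩
    exact (hle ha).2
  have hG43 : G4 ≤ G3 := Subgroup.lowerCentralSeries_antitone _ (by norm_num)
  have n1 : π d1 ∉ W := fun hin => by
    have h1 : d1 ∈ (G3.map π).comap π := hin
    rw [comap_map_eq, hπ, QuotientGroup.ker_mk', sup_eq_left.2 hG43] at h1
    have h2 := (T3.indep 1 0 (by rw [pow_one, pow_zero, mul_one]; exact T3.lay.one_iff.2 h1)).1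
    rw [Nat.cast_one] at h2
    exact one_ne_zero h2
  obtain ⟨hV1, hV1c⟩ := hWel.extend (x := π d1) v1
    (fun a ha => (hVc _ (mem_map_of_mem π m1) a (hWV ha)).eq) n1
  have hV1V : W ⊔ zpowers (π d1) ≤ V := sup_le hWV (zpowers_le.2 (mem_map_of_mem π m1))
  have n2 : π d2 ∉ W ⊔ zpowers (π d1) := fun hin => by
    have h1 : d2 ∈ ((G3 ⊔ zpowers d1).map π).comap π := by
      rw [mem_comap, Subgroup.map_sup, MonoidHom.map_zpowers]; exact hin
    rw [comap_map_eq, hπ, QuotientGroup.ker_mk', sup_eq_left.2 (hG43.trans le_sup_left)] at h1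
    have h2 : π3 d2 ∈ zpowers (π3 d1) := by
      have h3 := mem_map_of_mem π3 h1
      rwa [Subgroup.map_sup, MonoidHom.map_zpowers, (Subgroup.map_eq_bot_iff _).2
        (le_of_eq (QuotientGroup.ker_mk' G3).symm), bot_sup_eq] at h3
    obtain ⟨i, hi⟩ := (isOfFinOrder_of_finite _).mem_powers_iff_mem_zpowers.2 h2
    change π3 d1 ^ i = π3 d2 at hi
    have h4 := (T3.indep i (p - 1) (by
      rw [hi, ← pow_succ', Nat.sub_add_cancel hp.out.one_le]; exact T3.exp.2)).2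
    rw [Nat.cast_sub hp.out.one_le, Nat.cast_one, ZMod.natCast_self, zero_sub, neg_eq_zero] at h4
    exact one_ne_zero h4
  obtain ⟨hV2, hV2c⟩ := hV1.extend (x := π d2) v2
    (fun a ha => (hVc _ (mem_map_of_mem π m2) a (hV1V ha)).eq) n2
  have hWcard : Nat.card W ≤ p := by
    have h5 := hV2.card_le (hrank G4)
    have h6 : Nat.card W * p * p ≤ p ^ 3 := ((Nat.mul_le_mul_right p hV1c).trans hV2c).trans h5
    rw [mul_assoc, show p ^ 3 = p * (p * p) by ring] at h6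
    exact Nat.le_of_mul_le_mul_right h6 (Nat.mul_pos hp.out.pos hp.out.pos)
  -- the generators vanish
  have hfix : ∀ f : X → X, EndOn N f → ∀ a b : X, a ∈ N.lowerCentralSeries 2 → b ∈ N →
      π ⁅a, b⁆ = 1 → π (f ⁅a, b⁆) = 1 := fun f hf a b _ _ hab =>
    L.one_iff.2 ((fullInv_lcs N 4).2 f hf _ (L.one_iff.1 hab))
  have fixed_of_line : ∀ (y : X ⧸ G4) (r : ZMod p), y ∈ W → y ≠ 1 → η y = zp y r → r ≠ 1 →
      ∀ w ∈ W, η w = zp w (1 : ZMod p) → w = 1 := by
    intro y r hy hy1 hyr hr1 w hw hw1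
    have hline : zpowers y = W := eq_of_le_of_card_ge (zpowers_le.2 hy) (by
      rw [Nat.card_zpowers, orderOf_eq_prime (hWel.2 y hy) hy1]; exact hWcard)
    have hw' : w ∈ ⊥ ⊔ zpowers y := mem_sup_right (hline.ge hw)
    exact mem_bot.1 (eig_step hWel bot_le (fun a ha => by rw [mem_bot.1 ha, map_one]; exact one_mem _)
      hy hyr hw' hw1 hr1)
  have cσ1 : Cn G3 (σ d1) (d1 * d2) := hcn (by rw [map_mul]; exact T3.σ1)
  have cσ2 : Cn G3 (σ d2) d2 := hcn T3.σ2
  have cx1 : Cn G3 (x * d1 * x⁻¹) d1 := hcn T3.x1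
  have A1 : A = 1 := by
    by_contra hA1
    have hne' : k⁻¹ * k⁻¹ ≠ 1 := fun e0 =>
      d.k2 (by linear_combination -k ^ 2 * e0 + (k * k⁻¹ + 1) * hk')
    have hB1 := fixed_of_line A _ gAW hA1 eA hne' B gBW eB
    have h7 := hfix σ d.hσ d2 z m2 d.zN hB1
    rw [L.natural d.hσ m2 d.zN m2 (mul_mem d.zN d.eN) cσ2 (hcn' d.σz), L.mul_right m2 d.zN d.eN] at h7
    change B * A = 1 at h7
    rw [hB1, one_mul] at h7
    exact hA1 h7
  have F1 : F = 1 := by
    by_contra hF1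
    have hne' : k * k ≠ 1 := fun e0 => d.k2 (by rw [sq]; exact e0)
    have hB1 := fixed_of_line F _ gFW hF1 eF hne' B' gB'W eB'
    have h7 := hfix _ (endOn_conj x) d1 e m1 d.eN hB1
    rw [L.natural (endOn_conj x) m1 d.eN m1 (mul_mem d.eN d.zN) cx1 (hcn' d.xe),
      L.mul_right m1 d.eN d.zN] at h7
    change B' * F = 1 at h7
    rw [hB1, one_mul] at h7
    exact hF1 h7
  have hBB : B' * B = 1 := by
    have h7 := hfix σ d.hσ d1 z m1 d.zN F1
    rw [L.natural d.hσ m1 d.zN (mul_mem m1 m2) (mul_mem d.zN d.eN) cσ1 (hcn' d.σz),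
      L.mul_left m1 m2 (mul_mem d.zN d.eN), L.mul_right m1 d.zN d.eN, L.mul_right m2 d.zN d.eN] at h7
    change F * B' * (B * A) = 1 at h7
    rwa [F1, A1, one_mul, mul_one] at h7
  have hJ : B = B' := by
    set C := π c with hC
    set E := π e with hE
    set Zz := π z with hZz
    have eC : C = ⁅E, Zz⁆ := map_commutatorElement π e z
    have eD1 : π d1 = ⁅C, Zz⁆ := map_commutatorElement π c z
    have eD2 : π d2 = ⁅C, E⁆ := map_commutatorElement π c e
    have eBz : B = ⁅π d2, Zz⁆ := map_commutatorElement π d2 z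
    have eBe : B' = ⁅π d1, E⁆ := map_commutatorElement π d1 e
    have hCN : ∀ w ∈ V, Commute C w := by
      rintro _ ⟨a, ha, rfl⟩
      refine Commute.symm ?_
      rw [← commutatorElement_eq_one_iff_commute, hC, ← map_commutatorElement, L.one_iff]
      exact comm_lcs_le N 2 (commutator_mem_commutator ha T3.cN)
    have cB : ∀ w ∈ W, Commute (π d1) w := fun w hw =>
      (hWN w hw d1 (lcs_le_self N 2 m1)).symm
    have e1 : ⁅C, Zz * E⁆ = B⁻¹ * (π d1 * π d2) := by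
      rw [show ⁅C, Zz * E⁆ = ⁅C, Zz⁆ * (⁅⁅C, E⁆, Zz⁆⁻¹ * ⁅C, E⁆) by
        simp only [commutatorElement_def]; group, ← eD1, ← eD2, ← eBz, ← mul_assoc,
        ((cB B gBW).inv_right).eq, mul_assoc]
    have e2 : ⁅C, Zz * E⁆ = B'⁻¹ * (π d2 * π d1) := by
      have hsw : Zz * E = C⁻¹ * E * Zz := by rw [eC, commutatorElement_def]; group
      rw [hsw, show ⁅C, C⁻¹ * E * Zz⁆ = C⁻¹ * (⁅C, E⁆ * (⁅⁅C, Zz⁆, E⁆⁻¹ * ⁅C, Zz⁆)) * C by
        simp only [commutatorElement_def]; group, ← eD1, ← eD2, ← eBe,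
        ← mul_assoc (π d2), ((hWN B' gB'W d2 (lcs_le_self N 2 m2)).symm.inv_right).eq, mul_assoc B'⁻¹,
        ((hCN _ (mul_mem (hWV (inv_mem gB'W))
          (mul_mem (mem_map_of_mem π m2) (mem_map_of_mem π m1)))).inv_left).eq, inv_mul_cancel_right]
    have := e1.symm.trans e2
    rw [(hVc _ (mem_map_of_mem π m1) _ (mem_map_of_mem π m2)).eq, mul_left_inj, inv_inj] at this
    exact this
  have B1 : B = 1 := by
    rw [← hJ, ← pow_two] at hBB
    refine eq_one_of_pow_eq pB (hBB.trans (pow_zero B).symm) ?_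
    rw [Nat.cast_zero, ne_eq, ZMod.natCast_eq_zero_iff]
    exact fun hdvd => by
      have := Nat.le_of_dvd two_pos hdvd
      have := d.five
      omega
  -- conclusion
  refine lcs_eq_bot d.pgN fun a ha => L.one_iff.1 ?_
  have h8 : π a ∈ closure ({A, B, B', F} : Set (X ⧸ G4)) := hWgen (mem_map_of_mem π ha)
  rw [A1, F1, ← hJ, B1] at h8
  simpa [Subgroup.closure_singleton_one] using h8

end Cfsg.Agent.RankThreeEss.Pearl
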